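import Groth.Agent.S0079
import Groth.Agent.Lib.FpqcDesc.ClosedImmersion
import Groth.Agent.Lib.GrpSchField.AffineDescent
import Groth.Agent.Lib.AlgSp.FppfDescent
import Mathlib.AlgebraicGeometry.Morphisms.Finite
import Mathlib.AlgebraicGeometry.Morphisms.Integral
import Mathlib.RingTheory.Flat.FaithfullyFlat.Descent

/-!
# Fpqc descent of affine, finite, integral, proper and quasi-finite morphisms
-/

universe u

open CategoryTheory CategoryTheory.Limits AlgebraicGeometry MorphismProperty TensorProduct

namespace GrothLib.EtSite

/-- The class of quasi-compact faithfully flat morphisms. -/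
abbrev fpqcCov : MorphismProperty Scheme.{u} := @Surjective ⊓ @Flat ⊓ @QuasiCompact

instance descendsAlong_quasiCompact : DescendsAlong @QuasiCompact fpqcCov.{u} :=
  Groth.Agent.S0079.result

instance descendsAlong_quasiSeparated : DescendsAlong @QuasiSeparated fpqcCov.{u} := by
  rw [quasiSeparated_eq_diagonal_is_quasiCompact]
  infer_instance

instance descendsAlong_isSeparated : DescendsAlong @IsSeparated fpqcCov.{u} := by
  rw [IsSeparated.isSeparated_eq_diagonal_isClosedImmersion]
  infer_instance

lemma localIso_inf_surjective_le : (@IsLocalIso ⊓ @Surjective : MorphismProperty Scheme.{u}) ≤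
    (@Surjective ⊓ @Flat : MorphismProperty Scheme.{u}) := by
  rw [inf_comm]
  exact inf_le_inf le_rfl (IsLocalIso.le_of_isZariskiLocalAtSource _)

instance descendsAlong_isAffineHom : DescendsAlong @IsAffineHom fpqcCov.{u} := by
  apply IsZariskiLocalAtTarget.descendsAlong_inf_quasiCompact
  · exact localIso_inf_surjective_le
  intro R S Y φ g h hfst
  have hf : fpqcCov (Spec.map φ) := ⟨h, inferInstance⟩
  have : IsAffineHom (pullback.fst (Spec.map φ) g) := hfst
  have : Surjective (Spec.map φ) := h.1
  have : Flat (Spec.map φ) := h.2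
  have : QuasiCompact g := of_pullback_fst_of_descendsAlong (P := @QuasiCompact) hf inferInstance
  have : QuasiSeparated g :=
    of_pullback_fst_of_descendsAlong (P := @QuasiSeparated) hf inferInstance
  have : CompactSpace Y := QuasiCompact.compactSpace_of_compactSpace g
  have : QuasiSeparatedSpace Y := quasiSeparatedSpace_of_quasiSeparated g
  have : IsAffine (pullback (Spec.map φ) g) := isAffine_of_isAffineHom (pullback.fst (Spec.map φ) g)
  have : IsAffine (pullback g (Spec.map φ)) := IsAffine.of_isIso (pullbackSymmetry g (Spec.map φ)).hom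
  have : IsAffine Y := GrpSchField.isAffine_of_pullback_flat_surjective g (Spec.map φ)
  exact isAffineHom_of_isAffine g

/-- Descent for properties `affineAnd Q`. -/
theorem descendsAlong_affineAnd {P : MorphismProperty Scheme.{u}}
    {Q : ∀ {R S : Type u} [CommRing R] [CommRing S], (R →+* S) → Prop}
    [P.IsStableUnderBaseChange] (hP : HasAffineProperty P (affineAnd Q))
    (hQ : RingHom.RespectsIso Q) (hQQ' : RingHom.CodescendsAlong Q RingHom.FaithfullyFlat) :
    P.DescendsAlong fpqcCov.{u} := by
  apply IsZariskiLocalAtTarget.descendsAlong_inf_quasiCompact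
  · exact localIso_inf_surjective_le
  intro R S Y φ g h hfst
  have hcov : fpqcCov (Spec.map φ) := ⟨h, inferInstance⟩
  have : IsAffine Y :=
    have : IsAffineHom g := of_pullback_fst_of_descendsAlong (P := @IsAffineHom) hcov
      (HasAffineProperty.affineAnd_le_isAffineHom P hP _ hfst)
    isAffine_of_isAffineHom g
  wlog hY : ∃ T, Y = Spec T generalizing Y
  · rw [← P.cancel_left_of_respectsIso Y.isoSpec.inv]
    have heq : pullback.fst (Spec.map φ) (Y.isoSpec.inv ≫ g) =
        pullback.map _ _ _ _ (𝟙 _) (Y.isoSpec.inv) (𝟙 _) (by simp) (by simp) ≫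
          pullback.fst (Spec.map φ) g := (pullback.lift_fst _ _ _).symm
    refine this _ ?_ inferInstance ⟨_, rfl⟩
    rwa [heq, P.cancel_left_of_respectsIso]
  obtain ⟨T, rfl⟩ := hY
  refine of_pullback_fst_Spec_of_codescendsAlong (P := P) (Q := Q) (Q' := RingHom.FaithfullyFlat) (P' := @Surjective ⊓ @Flat) hQQ' ?_ ?_ h hfst
  · intro _ _ f hf
    rwa [← flat_and_surjective_SpecMap_iff, and_comm]
  · intro R S f
    exact HasAffineProperty.SpecMap_iff_of_affineAnd hP hQ f

theorem codescendsAlong_finite : RingHom.CodescendsAlong RingHom.Finite RingHom.FaithfullyFlat := by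
  refine .mk _ RingHom.finite_respectsIso fun R S T _ _ _ _ _ h h' ↦ ?_
  rw [RingHom.finite_algebraMap] at h' ⊢
  rw [RingHom.faithfullyFlat_algebraMap_iff] at h
  exact Module.Finite.of_finite_tensorProduct_of_faithfullyFlat S

theorem codescendsAlong_isIntegral :
    RingHom.CodescendsAlong (fun f => f.IsIntegral) RingHom.FaithfullyFlat := by
  refine .mk _ RingHom.isIntegral_respectsIso fun R S T _ _ _ _ _ h h' ↦ ?_
  rw [RingHom.faithfullyFlat_algebraMap_iff] at h
  have : Algebra.IsIntegral S (S ⊗[R] T) := ⟨h'⟩
  intro x
  let A := Algebra.adjoin R ({x} : Set T)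
  have hinj : Function.Injective (Algebra.TensorProduct.map (AlgHom.id S S) A.val) := by
    have h2 := Module.Flat.lTensor_preserves_injective_linearMap (M := S) A.val.toLinearMap
      Subtype.val_injective
    have h3 : ⇑(Algebra.TensorProduct.map (AlgHom.id S S) A.val) =
        ⇑(A.val.toLinearMap.lTensor S) := by
      funext z
      induction z with
      | zero => simp
      | tmul a b => simp
      | add a b ha hb => simp only [map_add, ha, hb]
    rw [h3]
    exact h2
  have : Algebra.IsIntegral S (S ⊗[R] A) := Algebra.IsIntegral.of_injective _ hinj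
  have : Algebra.FiniteType R A := Subalgebra.fg_iff_finiteType _ |>.1 ⟨{x}, by simp [A]⟩
  have : Module.Finite S (S ⊗[R] A) := Algebra.IsIntegral.finite
  have : Module.Finite R A := Module.Finite.of_finite_tensorProduct_of_faithfullyFlat S
  have hx : IsIntegral R (⟨x, Algebra.self_mem_adjoin_singleton R x⟩ : A) :=
    Algebra.IsIntegral.isIntegral _
  exact hx.map A.val

instance descendsAlong_isFinite : DescendsAlong @IsFinite fpqcCov.{u} :=
  descendsAlong_affineAnd (Q := RingHom.Finite) inferInstance RingHom.finite_respectsIso
    codescendsAlong_finite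

instance descendsAlong_isIntegralHom : DescendsAlong @IsIntegralHom fpqcCov.{u} :=
  descendsAlong_affineAnd (Q := fun f => f.IsIntegral) inferInstance
    RingHom.isIntegral_respectsIso codescendsAlong_isIntegral

instance descendsAlong_isProper : DescendsAlong @IsProper fpqcCov.{u} := by
  constructor
  intro A X Y Z fst snd f g sq hf h
  have : IsProper fst := h
  have := MorphismProperty.of_isPullback_of_descendsAlong (P := @IsSeparated) sq hf inferInstance
  have := MorphismProperty.of_isPullback_of_descendsAlong (P := @UniversallyClosed) sq hf inferInstance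
  have := MorphismProperty.of_isPullback_of_descendsAlong (P := @LocallyOfFiniteType) sq hf inferInstance
  exact { }

theorem descendsAlong_locallyQuasiFinite :
    DescendsAlong (@LocallyQuasiFinite ⊓ @LocallyOfFiniteType) fpqcCov.{u} := by
  have := HasRingHomProperty.descendsAlong_flat (P := @LocallyQuasiFinite)
    GrothLib.AlgSp.codescendsAlong_quasiFinite
  infer_instance

end GrothLib.EtSite
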