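import Groth.Agent.Lib.EtSite.Sections
import Mathlib.AlgebraicGeometry.Morphisms.FlatMono
import Mathlib.AlgebraicGeometry.Morphisms.UniversallyInjective
import Mathlib.AlgebraicGeometry.Morphisms.Integral

/-!
# Etale morphisms and universal homeomorphisms

Universal injectivity descends along surjective base change; etale universally injective surjective
morphisms are isomorphisms; morphisms into etale schemes do not see universal homeomorphisms.
-/

universe u

open CategoryTheory CategoryTheory.Limits AlgebraicGeometry Opposite

namespace GrothLib.EtSite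

/-- Morphisms into an unramified scheme are determined after a surjective morphism. -/
lemma eq_of_comp_surjective {X S Y Y' : Scheme.{u}} (π : X ⟶ S) [FormallyUnramified π]
    [LocallyOfFiniteType π] (h : Y' ⟶ Y) [Surjective h] (f g : Y ⟶ X) (w : f ≫ π = g ≫ π)
    (e : h ≫ f = h ≫ g) : f = g := by
  obtain ⟨V, he, -, hV⟩ := exists_eqLocus π f g w
  refine eq_of_open_eq_top V (top_le_iff.1 fun y _ => ?_) he
  obtain ⟨y', rfl⟩ := h.surjective y
  have := hV _ (Y'.fromSpecResidueField y' ≫ h) (by rw [Category.assoc, Category.assoc, e])
  rw [Scheme.Hom.comp_apply] at this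
  exact Set.mem_of_eq_of_mem
    (congrArg h.base (Scheme.fromSpecResidueField_apply y' _)).symm this

/-- An etale universally injective morphism is an open immersion. -/
lemma isOpenImmersion_of_etale_universallyInjective {X Y : Scheme.{u}} (f : X ⟶ Y) [Etale f]
    [UniversallyInjective f] : IsOpenImmersion f := by
  have : Surjective (pullback.diagonal f) := (UniversallyInjective.iff_diagonal f).1 inferInstance
  have : IsIso (pullback.diagonal f) := by
    have : Epi (pullback.diagonal f).base :=
      (TopCat.epi_iff_surjective _).2 (pullback.diagonal f).surjective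
    exact IsOpenImmersion.isIso _
  have : Mono f := (pullback.isIso_diagonal_iff f).1 inferInstance
  exact IsOpenImmersion.of_flat_of_mono f

/-- An etale universally injective surjective morphism is an isomorphism. -/
lemma isIso_of_etale_universallyInjective {X Y : Scheme.{u}} (f : X ⟶ Y) [Etale f]
    [UniversallyInjective f] [Surjective f] : IsIso f := by
  have := isOpenImmersion_of_etale_universallyInjective f
  have : Epi f.base := (TopCat.epi_iff_surjective _).2 f.surjective
  exact IsOpenImmersion.isIso _

/-- Universal injectivity descends along surjective base change. -/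
lemma universallyInjective_of_isPullback {P X X' Y : Scheme.{u}} {p : P ⟶ X} {q : P ⟶ X'}
    {f : X ⟶ Y} {g : X' ⟶ Y} (sq : IsPullback p q f g) [Surjective g] [UniversallyInjective q] :
    UniversallyInjective f := by
  refine ((tfae_universallyInjective f).out 0 1).2 fun K iK g₁ g₂ hg => ?_
  let _ : Field K := iK
  have : Nonempty ↥(pullback (g₁ ≫ f) g) := by
    obtain ⟨x', hx'⟩ := g.surjective ((g₁ ≫ f).base default)
    exact ⟨(Scheme.Pullback.exists_preimage_pullback _ _ hx'.symm).choose⟩
  obtain ⟨z⟩ := this
  let t := (pullback (g₁ ≫ f) g).fromSpecResidueField z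
  let a := t ≫ pullback.fst (g₁ ≫ f) g
  obtain ⟨φ, hφ⟩ := Spec.map_surjective a
  have : Surjective a := ⟨fun x => ⟨default, Subsingleton.elim _ _⟩⟩
  have : Flat a := by
    rw [← hφ, HasRingHomProperty.Spec_iff (P := @Flat)]
    let _ : Algebra K ((pullback (g₁ ≫ f) g).residueField z) := φ.hom.toAlgebra
    exact (inferInstance : Module.Flat K ((pullback (g₁ ≫ f) g).residueField z))
  have : Epi a := Flat.epi_of_flat_of_surjective a
  have hb : a ≫ g₁ ≫ f = (t ≫ pullback.snd (g₁ ≫ f) g) ≫ g := by
    simp only [a, Category.assoc, pullback.condition]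
  have hb₂ : (a ≫ g₂) ≫ f = (t ≫ pullback.snd (g₁ ≫ f) g) ≫ g := by
    rw [Category.assoc, ← show g₁ ≫ f = g₂ ≫ f from hg, hb]
  have h2 : ∀ (L : Type u) [Field L], Function.Injective (fun k : Spec (.of L) ⟶ P ↦ k ≫ q) :=
    ((tfae_universallyInjective q).out 0 1).1 ‹UniversallyInjective q›
  have hinj := h2 ((pullback (g₁ ≫ f) g).residueField z)
  have key : sq.lift (a ≫ g₁) _ ((Category.assoc _ _ _).trans hb) = sq.lift (a ≫ g₂) _ hb₂ := by
    apply hinj
    simp only [IsPullback.lift_snd]
  have := congrArg (· ≫ p) key
  simp only [IsPullback.lift_fst] at this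
  exact (cancel_epi a).1 this

/-- Base change along an integral, universally injective, surjective morphism is bijective on
morphisms into etale schemes. -/
theorem pullback_map_bijective {S S' : Scheme.{u}} (g : S' ⟶ S) [IsIntegralHom g]
    [UniversallyInjective g] [Surjective g] (X Y : Over S) [Etale X.hom] :
    Function.Bijective (fun φ : Y ⟶ X => (Over.pullback g).map φ) := by
  have : Surjective (pullback.fst Y.hom g) := MorphismProperty.pullback_fst _ _ inferInstance
  constructor
  · intro φ₁ φ₂ h
    refine Over.OverMorphism.ext (eq_of_comp_surjective X.hom (pullback.fst Y.hom g) _ _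
      ((Over.w φ₁).trans (Over.w φ₂).symm) ?_)
    have := congrArg (fun k => k.left ≫ pullback.fst X.hom g) h
    simp only [Over.pullback_map_left] at this
    exact ((pullback.lift_fst _ _ _).symm.trans this).trans (pullback.lift_fst _ _ _)
  · intro ψ
    let Y' := pullback Y.hom g
    let q : Y' ⟶ X.left := ψ.left ≫ pullback.fst X.hom g
    have hw : ψ.left ≫ pullback.snd X.hom g = pullback.snd Y.hom g := Over.w ψ
    have hq : q ≫ X.hom = pullback.fst Y.hom g ≫ Y.hom := by
      rw [pullback.condition, ← hw]
      simp only [q, Category.assoc, pullback.condition]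
    -- graph of `q`
    let pr := pullback.snd X.hom Y.hom
    have : Etale pr := MorphismProperty.pullback_snd _ _ inferInstance
    let pr' := pullback.snd pr (pullback.fst Y.hom g)
    have : Etale pr' := MorphismProperty.pullback_snd _ _ inferInstance
    let γ : Y' ⟶ pullback pr (pullback.fst Y.hom g) :=
      pullback.lift (pullback.lift q (pullback.fst Y.hom g) hq) (𝟙 _) (by simp only [pr, Y', pullback.lift_snd]; exact (Category.id_comp _).symm)
    have hγ : γ ≫ pr' = 𝟙 _ := pullback.lift_snd _ _ _
    have : IsSplitMono γ := ⟨⟨pr', hγ⟩⟩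
    have : Etale (γ ≫ pr') := by rw [hγ]; infer_instance
    have : Etale γ := Etale.of_comp γ pr'
    have : IsOpenImmersion γ := IsOpenImmersion.of_flat_of_mono γ
    let π := pullback.fst pr (pullback.fst Y.hom g)
    have : IsIntegralHom π := MorphismProperty.pullback_fst _ _
      (MorphismProperty.pullback_fst _ _ inferInstance)
    have : UniversallyInjective π := MorphismProperty.pullback_fst _ _
      (MorphismProperty.pullback_fst _ _ inferInstance)
    have : Surjective π := MorphismProperty.pullback_fst _ _ inferInstance
    have hopen : IsOpen (π.base '' Set.range γ.base) := by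
      rw [← isClosed_compl_iff, ← Set.image_compl_eq ⟨π.injective, π.surjective⟩]
      exact π.isClosedMap _ γ.isOpenEmbedding.isOpen_range.isClosed_compl
    let U : (pullback X.hom Y.hom).Opens := ⟨_, hopen⟩
    let c : U.toScheme ⟶ Y.left := U.ι ≫ pr
    have hr : Set.range (γ ≫ π).base ⊆ Set.range U.ι.base := by
      rw [Scheme.Opens.range_ι]
      rintro _ ⟨y, rfl⟩
      exact ⟨_, ⟨y, rfl⟩, rfl⟩
    let r : Y' ⟶ U.toScheme := IsOpenImmersion.lift U.ι (γ ≫ π) hr
    have hrι : r ≫ U.ι = γ ≫ π := IsOpenImmersion.lift_fac _ _ _
    have hsurj : Surjective c := ⟨fun y => by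
      obtain ⟨y', rfl⟩ := (pullback.fst Y.hom g).surjective y
      refine ⟨r.base y', ?_⟩
      rw [← Scheme.Hom.comp_apply]
      simp only [c, ← Category.assoc, hrι]
      rw [Category.assoc, pullback.condition, ← Category.assoc, hγ, Category.id_comp]⟩
    have hui : UniversallyInjective c := by
      have sq := (IsPullback.of_hasPullback U.ι π).paste_vert
        (IsPullback.of_hasPullback pr (pullback.fst Y.hom g))
      have hsec : pullback.snd U.ι π ≫ pr' ≫ γ = pullback.snd U.ι π := by
        have hsub : Set.range (pullback.snd U.ι π).base ⊆ Set.range γ.base := by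
          rintro _ ⟨z, rfl⟩
          have hz : π.base ((pullback.snd U.ι π).base z) ∈ π.base '' Set.range γ.base := by
            rw [← Scheme.Hom.comp_apply, ← pullback.condition]
            exact (pullback.fst U.ι π z).2
          obtain ⟨w, hw, he⟩ := hz
          exact π.injective he ▸ hw
        have hk := IsOpenImmersion.lift_fac γ (pullback.snd U.ι π) hsub
        conv_lhs => rw [← hk]
        rw [Category.assoc, reassoc_of% hγ, hk]
      have : Mono (pullback.snd U.ι π ≫ pr') := by
        have : Mono ((pullback.snd U.ι π ≫ pr') ≫ γ) := by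
          rw [Category.assoc, hsec]; infer_instance
        exact mono_of_mono _ γ
      exact universallyInjective_of_isPullback sq
    have : Etale c := inferInstanceAs (Etale (U.ι ≫ pr))
    have := isIso_of_etale_universallyInjective c
    let φ : Y ⟶ X := Over.homMk (inv c ≫ U.ι ≫ pullback.fst X.hom Y.hom) (by
      simp only [Category.assoc, pullback.condition]
      rw [IsIso.inv_comp_eq]
      simp only [c, pr, Category.assoc])
    refine ⟨φ, Over.OverMorphism.ext (pullback.hom_ext ?_ ?_)⟩
    · have hrc : r ≫ c = pullback.fst Y.hom g := by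
        simp only [c, ← Category.assoc, hrι]
        rw [Category.assoc, pullback.condition, ← Category.assoc, hγ, Category.id_comp]
      change pullback.lift (pullback.fst Y.hom g ≫ φ.left) (pullback.snd Y.hom g) _ ≫ _ = q
      rw [pullback.lift_fst]
      change pullback.fst Y.hom g ≫ inv c ≫ _ = q
      rw [← hrc, Category.assoc, IsIso.hom_inv_id_assoc, ← Category.assoc, hrι]
      rw [Category.assoc]
      exact (pullback.lift_fst_assoc _ _ _ _).trans (pullback.lift_fst _ _ _)
    · exact (pullback.lift_snd _ _ _).trans hw.symm

end GrothLib.EtSite
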