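import Groth.Prelude.Def_EtBase
import Mathlib.CategoryTheory.Sites.EpiMono

/-!
# Geometric points of the small etale site

Generalities on stalks of abelian sheaves on the small etale site: existence of geometric
points over every point, germs, and detection of vanishing of sections, monomorphisms,
epimorphisms and isomorphisms on geometric stalks.
-/

universe u

open CategoryTheory CategoryTheory.Limits AlgebraicGeometry Opposite

namespace GrothLib.EtSite

/-- The chosen geometric point over a point of a scheme. -/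
noncomputable def gpt {X : Scheme.{u}} (x : X) :
    Spec (CommRingCat.of (SeparableClosure (X.residueField x))) ⟶ X :=
  Spec.map (CommRingCat.ofHom (algebraMap (X.residueField x) (SeparableClosure (X.residueField x)))) ≫
    X.fromSpecResidueField x

lemma gpt_default {X : Scheme.{u}} (x : X) : (gpt x).base default = x := by
  exact X.fromSpecResidueField_apply x _

lemma range_gpt {X : Scheme.{u}} (x : X) : Set.range (gpt x).base = {x} := by
  ext y
  refine ⟨?_, ?_⟩
  · rintro ⟨a, rfl⟩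
    rw [Subsingleton.elim a default]; exact gpt_default x
  · rintro rfl; exact ⟨default, gpt_default y⟩

variable {X : Scheme.{u}}

instance preservesFilteredColimits_forget_shrink :
    PreservesFilteredColimitsOfSize.{u, u} (forget AddCommGrpCat.{u + 1}) := by
  have : PreservesFilteredColimitsOfSize.{u + 1, u + 1} (forget AddCommGrpCat.{u + 1}) :=
    AddCommGrpCat.FilteredColimits.forget_preservesFilteredColimits.{u + 1}
  exact preservesFilteredColimitsOfSize_of_univLE.{u + 1, u + 1} _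

instance preservesFilteredColimits_forget_type_shrink :
    PreservesFilteredColimitsOfSize.{u, u} (forget (Type (u + 1))) := by
  have : PreservesFilteredColimitsOfSize.{u + 1, u + 1} (forget (Type (u + 1))) :=
    ⟨fun _ => inferInstanceAs (PreservesColimitsOfShape _ (𝟭 (Type (u + 1))))⟩
  exact preservesFilteredColimitsOfSize_of_univLE.{u + 1, u + 1} _

set_option backward.isDefEq.respectTransparency false in
lemma mem_topology_iff {U : X.Etale} (R : Sieve U) :
    R ∈ X.smallEtaleTopology U ↔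
      ∀ u : U.left, ∃ (V : X.Etale) (g : V ⟶ U) (v : V.left), R g ∧ g.left.base v = u := by
  have eX : X.smallEtaleTopology =
      (X.smallPretopology (P := EtCoh.etaleMP.{u}) (Q := EtCoh.etaleMP.{u})).toGrothendieck :=
    Scheme.smallGrothendieckTopology_eq_toGrothendieck_smallPretopology X le_rfl
  rw [eX]
  refine (Scheme.mem_toGrothendieck_smallPretopology U R).trans ?_
  constructor
  · intro h u
    obtain ⟨V, g, v, h1, -, h2⟩ := h u
    exact ⟨V, g, v, h1, h2⟩
  · intro h u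
    obtain ⟨V, g, v, h1, h2⟩ := h u
    exact ⟨V, g, v, h1, inferInstanceAs (Etale g.left), h2⟩

section fiber

variable {Ω : Type u} [Field Ω] [IsSepClosed Ω] (ξ : Spec (CommRingCat.of Ω) ⟶ X)

/-- An element of the fibre of the point `ξ` from a lift of `ξ`. -/
noncomputable abbrev fib {U : X.Etale} (l : Spec (CommRingCat.of Ω) ⟶ U.left) (h : l ≫ U.hom = ξ) :
    (Scheme.pointSmallEtale ξ).fiber.obj U :=
  Over.homMk l h

lemma exists_fib {U : X.Etale} (u : U.left) (h : U.hom.base u = ξ.base default) :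
    ∃ t : (Scheme.pointSmallEtale ξ).fiber.obj U, t.left.base (default : Spec (CommRingCat.of Ω)) = u := by
  obtain ⟨t, ht⟩ := Scheme.pointSmallEtaleFiberObjToPreimage_surjective ξ (s₀ := ξ.base default) rfl U
    ⟨u, h⟩
  exact ⟨t, congrArg Subtype.val ht⟩

lemma fiber_map_left {U V : X.Etale} (g : V ⟶ U) (t : (Scheme.pointSmallEtale ξ).fiber.obj V) :
    ((Scheme.pointSmallEtale ξ).fiber.map g t).left = t.left ≫ g.left := rfl

end fiber

/-- The germ of a section of an abelian sheaf at a point of the fibre. -/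
noncomputable abbrev germ {Ω : Type u} [Field Ω] [IsSepClosed Ω] (ξ : Spec (CommRingCat.of Ω) ⟶ X)
    (F : EtCoh.Ab X) {U : X.Etale} (t : (Scheme.pointSmallEtale ξ).fiber.obj U) :
    F.obj.obj (op U) ⟶ (EtCoh.stalk ξ).obj F :=
  (Scheme.pointSmallEtale ξ).toPresheafFiber U t F.obj

lemma germ_eq_iff {Ω : Type u} [Field Ω] [IsSepClosed Ω] (ξ : Spec (CommRingCat.of Ω) ⟶ X)
    (F : EtCoh.Ab X) {U : X.Etale} (t : (Scheme.pointSmallEtale ξ).fiber.obj U)
    (s₁ s₂ : EtCoh.sect F U) :
    germ ξ F t s₁ = germ ξ F t s₂ ↔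
      ∃ (V : X.Etale) (g : V ⟶ U) (v : (Scheme.pointSmallEtale ξ).fiber.obj V),
        (Scheme.pointSmallEtale ξ).fiber.map g v = t ∧ F.obj.map g.op s₁ = F.obj.map g.op s₂ :=
  (Scheme.pointSmallEtale ξ).toPresheafFiber_eq_iff' U t s₁ s₂

lemma exists_germ {Ω : Type u} [Field Ω] [IsSepClosed Ω] (ξ : Spec (CommRingCat.of Ω) ⟶ X)
    (F : EtCoh.Ab X) (p : (EtCoh.stalk ξ).obj F) :
    ∃ (U : X.Etale) (t : (Scheme.pointSmallEtale ξ).fiber.obj U) (s : EtCoh.sect F U),
      germ ξ F t s = p :=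
  (Scheme.pointSmallEtale ξ).toPresheafFiber_jointly_surjective p

lemma germ_map {Ω : Type u} [Field Ω] [IsSepClosed Ω] (ξ : Spec (CommRingCat.of Ω) ⟶ X)
    (F : EtCoh.Ab X) {U V : X.Etale} (g : V ⟶ U) (t : (Scheme.pointSmallEtale ξ).fiber.obj V)
    (s : EtCoh.sect F U) :
    germ ξ F t (F.obj.map g.op s) = germ ξ F ((Scheme.pointSmallEtale ξ).fiber.map g t) s :=
  (Scheme.pointSmallEtale ξ).toPresheafFiber_w_apply g t F.obj s

lemma base_fiber_map {Ω : Type u} [Field Ω] [IsSepClosed Ω] (ξ : Spec (CommRingCat.of Ω) ⟶ X)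
    {U V : X.Etale} (g : V ⟶ U) (t : (Scheme.pointSmallEtale ξ).fiber.obj V)
    (t' : (Scheme.pointSmallEtale ξ).fiber.obj U) (h : (Scheme.pointSmallEtale ξ).fiber.map g t = t') :
    g.left.base (t.left.base (default : Spec (CommRingCat.of Ω))) =
      t'.left.base (default : Spec (CommRingCat.of Ω)) := by
  subst h
  rfl

lemma eq_zero_nhd {Ω : Type u} [Field Ω] [IsSepClosed Ω] (ξ : Spec (CommRingCat.of Ω) ⟶ X)
    (F : EtCoh.Ab X) {U : X.Etale} (t : (Scheme.pointSmallEtale ξ).fiber.obj U)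
    (s : EtCoh.sect F U) (h : germ ξ F t s = 0) :
    ∃ (V : X.Etale) (g : V ⟶ U) (v : V.left),
      g.left.base v = t.left.base (default : Spec (CommRingCat.of Ω)) ∧ F.obj.map g.op s = 0 := by
  rw [← map_zero (germ ξ F t).hom] at h
  obtain ⟨V, g, v, hv, hg⟩ := (germ_eq_iff ξ F t s 0).1 h
  exact ⟨V, g, _, base_fiber_map ξ g v t hv, hg.trans (map_zero _)⟩

/-- A section whose germs vanish at a geometric point over every point is zero. -/
lemma section_eq_zero_of_germs (F : EtCoh.Ab X) (U : X.Etale) (s : EtCoh.sect F U)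
    (h : ∀ (Ω : Type u) [Field Ω] [IsSepClosed Ω] (ξ : Spec (CommRingCat.of Ω) ⟶ X)
      (t : (Scheme.pointSmallEtale ξ).fiber.obj U), germ ξ F t s = 0) : s = 0 := by
  let R : Sieve U :=
    { arrows := fun V g => F.obj.map g.op s = 0
      downward_closed := by
        intro V W g hg k
        rw [op_comp, Functor.map_comp, ConcreteCategory.comp_apply, hg, map_zero] }
  have hR : R ∈ X.smallEtaleTopology U := by
    rw [mem_topology_iff]
    intro u
    obtain ⟨t, ht⟩ := exists_fib (gpt (U.hom.base u)) u (gpt_default _).symm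
    obtain ⟨V, g, v, hv, hg⟩ := eq_zero_nhd _ F t s (h _ _ t)
    exact ⟨V, g, v, hg, hv.trans ht⟩
  have hsep := ((isSheaf_iff_isSheaf_of_type _ _).1
    (Presheaf.isSheaf_comp_of_isSheaf X.smallEtaleTopology F.obj (forget AddCommGrpCat.{u+1}) F.property) R hR).isSeparatedFor
  refine hsep.ext ?_
  intro V g (hg : F.obj.map g.op s = 0)
  change F.obj.map g.op s = F.obj.map g.op 0
  rw [hg, map_zero]

lemma stalk_map_germ {Ω : Type u} [Field Ω] [IsSepClosed Ω] (ξ : Spec (CommRingCat.of Ω) ⟶ X)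
    {F G : EtCoh.Ab X} (a : F ⟶ G) {U : X.Etale} (t : (Scheme.pointSmallEtale ξ).fiber.obj U)
    (s : EtCoh.sect F U) :
    (EtCoh.stalk ξ).map a (germ ξ F t s) = germ ξ G t (a.hom.app (op U) s) :=
  (Scheme.pointSmallEtale ξ).toPresheafFiber_naturality_apply a.hom U t s

lemma injective_app_of_stalks {F G : EtCoh.Ab X} (a : F ⟶ G)
    (h : ∀ (Ω : Type u) [Field Ω] [IsSepClosed Ω] (ξ : Spec (CommRingCat.of Ω) ⟶ X),
      Function.Injective ((EtCoh.stalk ξ).map a)) (U : X.Etale) :
    Function.Injective (a.hom.app (op U)) := by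
  rw [injective_iff_map_eq_zero]
  intro s hs
  refine section_eq_zero_of_germs F U s fun Ω _ _ ξ t => h Ω ξ ?_
  rw [stalk_map_germ, hs, map_zero, map_zero]

lemma mono_of_stalks {F G : EtCoh.Ab X} (a : F ⟶ G)
    (h : ∀ (Ω : Type u) [Field Ω] [IsSepClosed Ω] (ξ : Spec (CommRingCat.of Ω) ⟶ X),
      Function.Injective ((EtCoh.stalk ξ).map a)) : Mono a := by
  have : Sheaf.IsLocallyInjective a :=
    Sheaf.isLocallyInjective_iff_injective a |>.2 fun U => injective_app_of_stalks a h U.unop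
  exact Sheaf.mono_of_isLocallyInjective a

lemma exists_nhd_image {Ω : Type u} [Field Ω] [IsSepClosed Ω] (ξ : Spec (CommRingCat.of Ω) ⟶ X)
    {F G : EtCoh.Ab X} (a : F ⟶ G) {U : X.Etale} (t : (Scheme.pointSmallEtale ξ).fiber.obj U)
    (s : EtCoh.sect G U) (p : (EtCoh.stalk ξ).obj F)
    (hp : (EtCoh.stalk ξ).map a p = germ ξ G t s) :
    ∃ (V : X.Etale) (g : V ⟶ U) (v : V.left),
      g.left.base v = t.left.base (default : Spec (CommRingCat.of Ω)) ∧
        ∃ z : EtCoh.sect F V, a.hom.app (op V) z = G.obj.map g.op s := by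
  obtain ⟨W, w, z, rfl⟩ := exists_germ ξ F p
  replace hp := (stalk_map_germ ξ a w z).symm.trans hp
  obtain ⟨⟨V₀, v₀⟩, ⟨k, hk⟩, ⟨g, hg⟩, -⟩ :=
    IsCofilteredOrEmpty.cone_objs (C := (Scheme.pointSmallEtale ξ).fiber.Elements) ⟨W, w⟩ ⟨U, t⟩
  dsimp only at k g hk hg
  rw [← hk, ← hg] at hp
  rw [← hg]
  replace hp := (germ_map ξ G k v₀ _).trans (hp.trans (germ_map ξ G g v₀ _).symm)
  obtain ⟨V, r, v, hv, he⟩ := (germ_eq_iff ξ G v₀ _ _).1 hp
  refine ⟨V, r ≫ g, v.left.base (default : Spec (CommRingCat.of Ω)),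
    base_fiber_map ξ (r ≫ g) v _ ?_, F.obj.map (r ≫ k).op z, ?_⟩
  · rw [Functor.map_comp, ConcreteCategory.comp_apply, hv]
  · rw [NatTrans.naturality_apply, op_comp, Functor.map_comp, ConcreteCategory.comp_apply,
      op_comp, Functor.map_comp, ConcreteCategory.comp_apply, he]

lemma isLocallySurjective_of_stalks {F G : EtCoh.Ab X} (a : F ⟶ G)
    (h : ∀ (Ω : Type u) [Field Ω] [IsSepClosed Ω] (ξ : Spec (CommRingCat.of Ω) ⟶ X),
      Function.Surjective ((EtCoh.stalk ξ).map a)) : Sheaf.IsLocallySurjective a := by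
  refine ⟨fun {U} s => ?_⟩
  rw [mem_topology_iff]
  intro u
  obtain ⟨t, ht⟩ := exists_fib (gpt (U.hom.base u)) u (gpt_default _).symm
  obtain ⟨p, hp⟩ := h _ _ (germ (gpt (U.hom.base u)) G t s)
  obtain ⟨V, g, v, hv, z, hz⟩ := exists_nhd_image _ a t s p hp
  exact ⟨V, g, v, ⟨z, hz⟩, hv.trans ht⟩

lemma epi_of_stalks {F G : EtCoh.Ab X} (a : F ⟶ G)
    (h : ∀ (Ω : Type u) [Field Ω] [IsSepClosed Ω] (ξ : Spec (CommRingCat.of Ω) ⟶ X),
      Function.Surjective ((EtCoh.stalk ξ).map a)) : Epi a := by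
  have := isLocallySurjective_of_stalks a h
  exact Sheaf.epi_of_isLocallySurjective a

lemma isIso_of_stalks {F G : EtCoh.Ab X} (a : F ⟶ G)
    (h : ∀ (Ω : Type u) [Field Ω] [IsSepClosed Ω] (ξ : Spec (CommRingCat.of Ω) ⟶ X),
      Function.Bijective ((EtCoh.stalk ξ).map a)) : IsIso a := by
  have := mono_of_stalks a fun Ω _ _ ξ => (h Ω ξ).injective
  have := epi_of_stalks a fun Ω _ _ ξ => (h Ω ξ).surjective
  exact isIso_of_mono_of_epi a

lemma isZero_of_stalks (F : EtCoh.Ab X)
    (h : ∀ (Ω : Type u) [Field Ω] [IsSepClosed Ω] (ξ : Spec (CommRingCat.of Ω) ⟶ X),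
      IsZero ((EtCoh.stalk ξ).obj F)) : IsZero F := by
  rw [IsZero.iff_id_eq_zero]
  ext U s
  refine section_eq_zero_of_germs F U.unop s fun Ω _ _ ξ t => ?_
  exact @Subsingleton.elim _ (AddCommGrpCat.subsingleton_of_isZero (h Ω ξ)) _ _

end GrothLib.EtSite
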