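import Groth.Agent.Lib.EtSite.StrictHensel
import Groth.Agent.Lib.EtSite.Points
import Mathlib.AlgebraicGeometry.Morphisms.FormallyUnramified

/-!
# Sections of etale schemes over strictly henselian local schemes, and stalks

Equalizers of morphisms into unramified schemes are open; geometric points over the closed point
of a strictly henselian local scheme lift to sections; consequently the fibre of any presheaf
on the small etale site at the closed geometric point is its value at the top object.
-/

universe u

open CategoryTheory CategoryTheory.Limits AlgebraicGeometry Opposite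

namespace GrothLib.EtSite

/-- The locus where two morphisms to an unramified scheme agree is open, and closed if the scheme
is separated; it contains the image of every field valued point at which they agree. -/
lemma exists_eqLocus {X S Y : Scheme.{u}} (π : X ⟶ S) [FormallyUnramified π]
    [LocallyOfFiniteType π] (f g : Y ⟶ X) (h : f ≫ π = g ≫ π) :
    ∃ V : Y.Opens, V.ι ≫ f = V.ι ≫ g ∧ (IsSeparated π → IsClosed (V : Set Y)) ∧
      ∀ (Ω : Type u) [Field Ω] (t : Spec (CommRingCat.of Ω) ⟶ Y), t ≫ f = t ≫ g →
        t.base default ∈ V := by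
  let l : Y ⟶ pullback π π := pullback.lift f g h
  let W : (pullback π π).Opens := (pullback.diagonal π).opensRange
  refine ⟨l ⁻¹ᵁ W, ?_, fun hs => (pullback.diagonal π).isClosedEmbedding.isClosed_range.preimage
    l.continuous, fun Ω _ t ht => ?_⟩
  · have hr : Set.range ((l ⁻¹ᵁ W).ι ≫ l).base ⊆ Set.range (pullback.diagonal π).base := by
      rintro _ ⟨y, rfl⟩
      exact y.2
    have hk := IsOpenImmersion.lift_fac (pullback.diagonal π) ((l ⁻¹ᵁ W).ι ≫ l) hr
    have h1 := congrArg (· ≫ pullback.fst π π) hk
    have h2 := congrArg (· ≫ pullback.snd π π) hk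
    simp only [Category.assoc, pullback.diagonal_fst, pullback.diagonal_snd, Category.comp_id,
      l, pullback.lift_fst, pullback.lift_snd] at h1 h2
    exact h1.symm.trans h2
  · have : t ≫ l = (t ≫ f) ≫ pullback.diagonal π := by
      apply pullback.hom_ext <;> simp only [l, Category.assoc, pullback.lift_fst, pullback.lift_snd,
        pullback.diagonal_fst, pullback.diagonal_snd, Category.comp_id, ht]
    exact ⟨(t ≫ f).base default, by rw [← Scheme.Hom.comp_apply, ← this]; rfl⟩

/-- Two morphisms to an unramified scheme agreeing at a field valued point agree on an open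
neighbourhood of its image. -/
lemma exists_open_eq_of_unramified {X S Y : Scheme.{u}} (π : X ⟶ S) [FormallyUnramified π]
    [LocallyOfFiniteType π] (f g : Y ⟶ X) (h : f ≫ π = g ≫ π) {Ω : Type u} [Field Ω]
    (t : Spec (CommRingCat.of Ω) ⟶ Y) (ht : t ≫ f = t ≫ g) :
    ∃ V : Y.Opens, t.base default ∈ V ∧ V.ι ≫ f = V.ι ≫ g := by
  obtain ⟨V, he, -, hV⟩ := exists_eqLocus π f g h
  exact ⟨V, hV Ω t ht, he⟩

lemma eq_of_open_eq_top {X Y : Scheme.{u}} (V : Y.Opens) (hV : V = ⊤) {f g : Y ⟶ X}
    (h : V.ι ≫ f = V.ι ≫ g) : f = g := by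
  subst hV
  have : IsIso (Scheme.Opens.ι (⊤ : Y.Opens)) := inferInstanceAs (IsIso Y.topIso.hom)
  exact (cancel_epi _).1 h

/-- A morphism from an affine scheme through a point of a scheme factors through an affine open. -/
lemma exists_affine_fac {U : Scheme.{u}} {Ω : Type u} [Field Ω] (t : Spec (CommRingCat.of Ω) ⟶ U) :
    ∃ (B : CommRingCat.{u}) (j : Spec B ⟶ U) (_ : IsOpenImmersion j)
      (t' : Spec (CommRingCat.of Ω) ⟶ Spec B), t' ≫ j = t := by
  obtain ⟨R, j, _, hj, _⟩ := AlgebraicGeometry.Scheme.exists_affine_mem_range_and_range_subset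
    (x := t.base default) (U := ⊤) (by simp)
  refine ⟨R, j, inferInstance, IsOpenImmersion.lift j t ?_, IsOpenImmersion.lift_fac _ _ _⟩
  rintro _ ⟨a, rfl⟩
  rwa [Subsingleton.elim a default]

section

variable {R : Type u} [CommRing R] [HenselianLocalRing R]
  [IsSepClosed (IsLocalRing.ResidueField R)] {U : Scheme.{u}}
  (g : U ⟶ Spec (CommRingCat.of R)) [Etale g] {Ω : Type u} [Field Ω]

/-- A geometric point over the closed point extends to a section. -/
lemma exists_section (ρ : R →+* Ω) (hρ : RingHom.ker ρ = IsLocalRing.maximalIdeal R)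
    (t : Spec (CommRingCat.of Ω) ⟶ U) (ht : t ≫ g = Spec.map (CommRingCat.ofHom ρ)) :
    ∃ s : Spec (CommRingCat.of R) ⟶ U, s ≫ g = 𝟙 _ ∧ Spec.map (CommRingCat.ofHom ρ) ≫ s = t := by
  obtain ⟨B, j, _, t', rfl⟩ := exists_affine_fac t
  obtain ⟨α, hα⟩ := Spec.map_surjective (j ≫ g)
  obtain ⟨β, rfl⟩ := Spec.map_surjective t'
  have hβ : α ≫ β = CommRingCat.ofHom ρ := by
    apply Spec.map_injective
    rw [Spec.map_comp, hα, ← ht, Category.assoc]
  have het : α.hom.Etale := by
    rw [← HasRingHomProperty.Spec_iff (P := @Etale), hα]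
    infer_instance
  let _ : Algebra R B := α.hom.toAlgebra
  have : Algebra.Etale R B := het
  obtain ⟨σ, hσ⟩ := exists_algHom_etale (R := R) β.hom ρ
    (show β.hom.comp α.hom = ρ from congrArg CommRingCat.Hom.hom hβ) hρ
  have hσα : α ≫ CommRingCat.ofHom σ.toRingHom = 𝟙 _ := by
    ext r
    exact σ.commutes r
  refine ⟨Spec.map (CommRingCat.ofHom σ.toRingHom) ≫ j, ?_, ?_⟩
  · rw [Category.assoc, ← hα, ← Spec.map_comp, hσα, Spec.map_id]
  · rw [← Category.assoc, ← Spec.map_comp]
    congr 2
    ext b
    exact RingHom.congr_fun hσ b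


omit [IsSepClosed (IsLocalRing.ResidueField R)] in
lemma section_unique (ρ : R →+* Ω) (hρ : RingHom.ker ρ = IsLocalRing.maximalIdeal R)
    (s s' : Spec (CommRingCat.of R) ⟶ U) (h : s ≫ g = 𝟙 _) (h' : s' ≫ g = 𝟙 _)
    (ht : Spec.map (CommRingCat.ofHom ρ) ≫ s = Spec.map (CommRingCat.ofHom ρ) ≫ s') : s = s' := by
  obtain ⟨V, hV, he⟩ := exists_open_eq_of_unramified g s s' (h.trans h'.symm) _ ht
  have hc : (Spec.map (CommRingCat.ofHom ρ)).base default = IsLocalRing.closedPoint R := by
    apply PrimeSpectrum.ext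
    refine Eq.trans ?_ hρ
    exact congrArg (Ideal.comap ρ) (Ideal.eq_bot_of_prime _)
  rw [hc] at hV
  have : V = ⊤ := (IsLocalRing.closedPoint_mem_iff V).1 hV
  exact eq_of_open_eq_top V this he

end

/-- On a strictly henselian local scheme the fibre of a presheaf at the closed geometric point is
the value at the top object. -/
lemma toPresheafFiber_top_bijective (R : Type u) [CommRing R] [HenselianLocalRing R]
    [IsSepClosed (IsLocalRing.ResidueField R)] {A : Type*} [Category* A]
    [HasColimitsOfSize.{u, u} A] {FC : A → A → Type*} {CC : A → Type (u + 1)}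
    [∀ (X Y : A), FunLike (FC X Y) (CC X) (CC Y)] [ConcreteCategory.{u + 1} A FC]
    [PreservesFilteredColimitsOfSize.{u, u} (forget A)]
    (P : (Spec (CommRingCat.of R)).Etaleᵒᵖ ⥤ A) :
    Function.Bijective ((Scheme.pointSmallEtale
      (Spec.map (CommRingCat.ofHom (IsLocalRing.residue R)))).toPresheafFiber (A := A)
        (EtCoh.top (Spec (CommRingCat.of R)))
        (Over.homMk (Spec.map (CommRingCat.ofHom (IsLocalRing.residue R))) (Category.comp_id _)) P) := by
  set ξ := Spec.map (CommRingCat.ofHom (IsLocalRing.residue R)) with hξ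
  set Φ := Scheme.pointSmallEtale ξ
  have hker : RingHom.ker (IsLocalRing.residue R) = IsLocalRing.maximalIdeal R :=
    IsLocalRing.ker_residue
  constructor
  · intro a b hab
    obtain ⟨V, w, v, -, he⟩ := (Φ.toPresheafFiber_eq_iff' _ _ a b).1 hab
    obtain ⟨s, hs, -⟩ := exists_section V.hom (IsLocalRing.residue R) hker v.left (Over.w v)
    let sm : EtCoh.top (Spec (CommRingCat.of R)) ⟶ V := MorphismProperty.Over.homMk s hs
    have : sm ≫ w = 𝟙 _ := by
      refine MorphismProperty.Over.Hom.ext ?_
      exact (congrArg (s ≫ ·) ((Category.comp_id _).symm.trans (MorphismProperty.Over.w w))).trans hs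
    have h2 := congrArg (P.map sm.op) he
    rwa [← ConcreteCategory.comp_apply, ← ConcreteCategory.comp_apply, ← P.map_comp, ← op_comp,
      this, op_id, P.map_id, ConcreteCategory.id_apply, ConcreteCategory.id_apply] at h2
  · intro p
    obtain ⟨V, v, z, rfl⟩ := Φ.toPresheafFiber_jointly_surjective p
    obtain ⟨s, hs, hsv⟩ := exists_section V.hom (IsLocalRing.residue R) hker v.left (Over.w v)
    let sm : EtCoh.top (Spec (CommRingCat.of R)) ⟶ V := MorphismProperty.Over.homMk s hs
    refine ⟨P.map sm.op z, ?_⟩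
    rw [Φ.toPresheafFiber_w_apply sm]
    congr 2
    exact congrArg (fun x => Φ.toPresheafFiber V x P) (Over.OverMorphism.ext hsv)

end GrothLib.EtSite
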