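import Groth.Agent.Lib.EtSite.IntegralPush
import Groth.Agent.Lib.EtSite.Points
import Groth.Prelude.Def_BigSite
import Groth.Prelude.Def_SGA4b

/-!
# Conditions (A), (B) and their consequences for direct images

Gluing of sections along disjoint open covers, condition (B) and the preservation of locally
surjective maps by direct image, conditions (A) and (B) for integral morphisms.
-/

universe w u

open CategoryTheory CategoryTheory.Limits AlgebraicGeometry Opposite

namespace GrothLib.EtSite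

variable {X Y : Scheme.{u}}

/-- An open subscheme of an etale `X`-scheme, as an object of the small etale site. -/
noncomputable def opensObj (T : X.Etale) (O : T.left.Opens) : X.Etale :=
  haveI : Etale T.hom := T.prop
  haveI : IsOpenImmersion O.ι := Scheme.Opens.instIsOpenImmersionι O
  Scheme.Etale.mk (O.ι ≫ T.hom)

/-- The inclusion of an open subscheme of an etale `X`-scheme. -/
noncomputable def opensHom (T : X.Etale) (O : T.left.Opens) : opensObj T O ⟶ T :=
  MorphismProperty.Over.homMk O.ι rfl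

lemma opensHom_left (T : X.Etale) (O : T.left.Opens) : (opensHom T O).left = O.ι := rfl

/-- A sheaf has a unique section over an empty scheme. -/
lemma subsingleton_of_isEmpty {P : X.Etaleᵒᵖ ⥤ Type w}
    (hP : Presieve.IsSheaf X.smallEtaleTopology P) (T : X.Etale) [IsEmpty T.left] :
    Subsingleton (P.obj (op T)) := by
  have hR : (⊥ : Sieve T) ∈ X.smallEtaleTopology T :=
    (mem_topology_iff _).2 fun u => IsEmpty.elim ‹IsEmpty T.left› u
  refine ⟨fun a b => (hP _ hR).isSeparatedFor.ext fun _ _ hg => hg.elim⟩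

/-- The sieve generated by an open cover of an etale `X`-scheme is covering. -/
lemma ofArrows_opens_mem (T : X.Etale) {μ : Type*} (O : μ → T.left.Opens)
    (hsup : (⨆ a, O a) = ⊤) :
    Sieve.generate (Presieve.ofArrows _ fun a => opensHom T (O a)) ∈ X.smallEtaleTopology T := by
  refine (mem_topology_iff _).2 fun x => ?_
  obtain ⟨a, ha⟩ := TopologicalSpace.Opens.mem_iSup.1 (hsup ▸ trivial : x ∈ ⨆ a, O a)
  exact ⟨_, opensHom T (O a), (⟨x, ha⟩ : (O a).toScheme),
    Sieve.le_generate _ _ _ (Presieve.ofArrows.mk a), rfl⟩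

/-- Sections over the pieces of a disjoint open cover glue uniquely. -/
lemma existsUnique_glue {P : X.Etaleᵒᵖ ⥤ Type w} (hP : Presieve.IsSheaf X.smallEtaleTopology P)
    (T : X.Etale) {μ : Type*} (O : μ → T.left.Opens)
    (hdisj : ∀ a b, a ≠ b → Disjoint (O a) (O b)) (hsup : (⨆ a, O a) = ⊤)
    (s : ∀ a, P.obj (op (opensObj T (O a)))) :
    ∃! z : P.obj (op T), ∀ a, P.map (opensHom T (O a)).op z = s a := by
  have h := (Presieve.isSheafFor_iff_generate _).2 (hP _ (ofArrows_opens_mem T O hsup))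
  refine (Presieve.isSheafFor_arrows_iff _ _).1 h s fun a b Z p q hpq => ?_
  by_cases hab : a = b
  · subst hab
    have : p = q := by
      apply MorphismProperty.Over.Hom.ext
      exact (cancel_mono (O a).ι).1 (congrArg (fun k : Z ⟶ T => k.left) hpq)
    rw [this]
  · have : IsEmpty Z.left := ⟨fun z => by
      have h1 : (O a).ι (p.left z) = (O b).ι (q.left z) :=
        congrArg (fun k : Z ⟶ T => k.left.base z) hpq
      have h2 : (O a).ι (p.left z) ∈ O b := by rw [h1]; exact (q.left z).2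
      have h3 : (O a).ι (p.left z) ∈ O a ⊓ O b := ⟨(p.left z).2, h2⟩
      rw [(hdisj a b hab).eq_bot] at h3
      exact h3⟩
    exact (subsingleton_of_isEmpty hP Z).elim _ _

lemma eq_of_glue {P : X.Etaleᵒᵖ ⥤ Type w} (hP : Presieve.IsSheaf X.smallEtaleTopology P)
    (T : X.Etale) {μ : Type*} (O : μ → T.left.Opens) (hsup : (⨆ a, O a) = ⊤)
    (z z' : P.obj (op T))
    (h : ∀ a, P.map (opensHom T (O a)).op z = P.map (opensHom T (O a)).op z') : z = z' := by
  refine ((Presieve.isSheafFor_iff_generate _).2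
    (hP _ (ofArrows_opens_mem T O hsup))).isSeparatedFor.ext ?_
  rintro _ _ ⟨a⟩
  exact h a

variable (f : X ⟶ Y)

/-- Condition (B), on the small etale sites. -/
lemma exists_split (hB : BigSite.PropB f) (U : Y.Etale) {ι : Type u} (W : ι → X.Etale)
    (g : ∀ i, W i ⟶ (EtCoh.bc f).obj U)
    (hsurj : ∀ x : ((EtCoh.bc f).obj U).left, ∃ i, x ∈ Set.range (g i).left.base) (u : U.left) :
    ∃ (V : Y.Etale) (e : V ⟶ U), u ∈ Set.range e.left.base ∧
      ∃ (μ : Type u) (O : μ → ((EtCoh.bc f).obj V).left.Opens),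
        (∀ a b, a ≠ b → Disjoint (O a) (O b)) ∧ (⨆ a, O a) = ⊤ ∧
        ∀ a, ∃ (i : ι) (k : opensObj ((EtCoh.bc f).obj V) (O a) ⟶ W i),
          k ≫ g i = opensHom _ (O a) ≫ (EtCoh.bc f).map e := by
  have : Etale U.hom := U.prop
  let σ : ((EtCoh.bc f).obj U).left ≅ pullback f U.hom := pullbackSymmetry U.hom f
  obtain ⟨κ, V', v', hv', hcov, hW⟩ := hB U.left U.hom ι (fun i => (W i).left)
    (fun i => (g i).left ≫ σ.hom) (fun i => by
      have : Etale (g i).left := inferInstance
      infer_instance) (fun x => by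
      obtain ⟨i, y, hy⟩ := hsurj (σ.inv x)
      refine ⟨i, y, ?_⟩
      rw [Scheme.Hom.comp_apply, hy, ← Scheme.Hom.comp_apply, Iso.inv_hom_id]
      rfl)
  obtain ⟨j, v, hv⟩ := hcov u
  have := hv' j
  let V : Y.Etale := Scheme.Etale.mk (v' j ≫ U.hom)
  let e : V ⟶ U := MorphismProperty.Over.homMk (v' j) rfl
  obtain ⟨μ, O, hdisj, hsup, hO⟩ := hW j
  let τ : ((EtCoh.bc f).obj V).left ≅ pullback f (v' j ≫ U.hom) := pullbackSymmetry (v' j ≫ U.hom) f
  have hτ : τ.hom ≫ pullback.map f (v' j ≫ U.hom) f U.hom (𝟙 X) (v' j) (𝟙 Y) (by simp) (by simp) =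
      ((EtCoh.bc f).map e).left ≫ σ.hom := by
    apply pullback.hom_ext
    · refine ((Category.assoc _ _ _).trans ?_).trans (Category.assoc _ _ _).symm
      rw [pullback.lift_fst, Category.comp_id]
      refine (pullbackSymmetry_hom_comp_fst _ _).trans ?_
      refine Eq.trans ?_ (congrArg (_ ≫ ·) (pullbackSymmetry_hom_comp_fst _ _).symm)
      exact (Over.w ((EtCoh.bc f).map e).hom).symm
    · refine ((Category.assoc _ _ _).trans ?_).trans (Category.assoc _ _ _).symm
      rw [pullback.lift_snd]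
      refine Eq.trans ?_ (congrArg (_ ≫ ·) (pullbackSymmetry_hom_comp_snd _ _).symm)
      refine (pullbackSymmetry_hom_comp_snd_assoc _ _ _).trans ?_
      exact (EtCoh.isPullback_bc_map f e).w.symm
  refine ⟨V, e, ⟨v, hv⟩, μ, fun a => τ.hom ⁻¹ᵁ O a, fun a b hab => ?_, ?_, fun a => ?_⟩
  · rw [disjoint_iff_inf_le]
    exact fun x hx => ((hdisj a b hab).le_bot (show τ.hom x ∈ O a ⊓ O b from hx)).elim
  · rw [eq_top_iff]
    intro x _
    obtain ⟨a, ha⟩ := TopologicalSpace.Opens.mem_iSup.1 (hsup ▸ trivial : τ.hom x ∈ ⨆ a, O a)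
    exact TopologicalSpace.Opens.mem_iSup.2 ⟨a, ha⟩
  · obtain ⟨i, h, hh⟩ := hO a
    have hk : ((τ.hom ∣_ O a) ≫ h) ≫ (g i).left =
        (τ.hom ⁻¹ᵁ O a).ι ≫ ((EtCoh.bc f).map e).left := by
      rw [← cancel_mono σ.hom]
      simp only [Category.assoc]
      rw [hh, ← Category.assoc, morphismRestrict_ι, Category.assoc, hτ]
    let k : opensObj ((EtCoh.bc f).obj V) (τ.hom ⁻¹ᵁ O a) ⟶ W i :=
      MorphismProperty.Over.homMk ((τ.hom ∣_ O a) ≫ h) (by
        have h1 : (g i).left ≫ ((EtCoh.bc f).obj U).hom = (W i).hom := Over.w (g i).hom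
        have h2 : ((EtCoh.bc f).map e).left ≫ ((EtCoh.bc f).obj U).hom =
            ((EtCoh.bc f).obj V).hom := Over.w ((EtCoh.bc f).map e).hom
        refine (congrArg (_ ≫ ·) h1.symm).trans ?_
        refine (Category.assoc _ _ _).symm.trans ?_
        exact (congrArg (· ≫ _) hk).trans
          ((Category.assoc _ _ _).trans (congrArg (_ ≫ ·) h2)))
    exact ⟨i, k, MorphismProperty.Over.Hom.ext hk⟩

/-- Under condition (B), direct image preserves locally surjective maps of sheaves. -/
theorem imageSieve_whisker_mem (hB : BigSite.PropB f) {P Q : X.Etaleᵒᵖ ⥤ Type w}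
    (hP : Presieve.IsSheaf X.smallEtaleTopology P) (hQ : Presieve.IsSheaf X.smallEtaleTopology Q)
    (a : P ⟶ Q) (ha : Presheaf.IsLocallySurjective X.smallEtaleTopology a) (U : Y.Etale)
    (s : Q.obj (op ((EtCoh.bc f).obj U))) :
    Presheaf.imageSieve (Functor.whiskerLeft (EtCoh.bc f).op a) (U := U) s ∈
      Y.smallEtaleTopology U := by
  have hloc := (mem_topology_iff _).1
    (Presheaf.imageSieve_mem X.smallEtaleTopology a (U := op ((EtCoh.bc f).obj U)) s)
  choose W g w hg hw using hloc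
  refine (mem_topology_iff _).2 fun u => ?_
  obtain ⟨V, e, ⟨v, hv⟩, μ, O, hdisj, hsup, hO⟩ :=
    exists_split f hB U (ι := ((EtCoh.bc f).obj U).left) W g (fun x => ⟨x, w x, hw x⟩) u
  choose i k hk using hO
  choose z hz using hg
  obtain ⟨t, ht, -⟩ := existsUnique_glue hP _ O hdisj hsup fun b => P.map (k b).op (z (i b))
  refine ⟨V, e, v, ⟨t, ?_⟩, hv⟩
  refine eq_of_glue hQ _ O hsup _ _ fun b => ?_
  change Q.map _ (a.app _ t) = Q.map _ (Q.map ((EtCoh.bc f).map e).op s)
  rw [← NatTrans.naturality_apply, ht b, NatTrans.naturality_apply, hz (i b),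
    ← ConcreteCategory.comp_apply, ← Q.map_comp, ← op_comp, hk b,
    op_comp, Q.map_comp, ConcreteCategory.comp_apply]

/-- Under condition (B), direct image of sheaves of sets preserves epimorphisms. -/
theorem pushSh_preservesEpimorphisms (hB : BigSite.PropB f) :
    (EtDesc.pushSh f).PreservesEpimorphisms := by
  refine ⟨fun {F G} a ha => ?_⟩
  have : Sheaf.IsLocallySurjective a := (Sheaf.isLocallySurjective_iff_epi a).2 ha
  have : Sheaf.IsLocallySurjective ((EtDesc.pushSh f).map a) := ⟨fun {U} s =>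
    imageSieve_whisker_mem f hB ((isSheaf_iff_isSheaf_of_type _ _).1 F.property)
      ((isSheaf_iff_isSheaf_of_type _ _).1 G.property) a.hom this U s⟩
  exact Sheaf.epi_of_isLocallySurjective _

/-- Under condition (B), direct image of abelian sheaves preserves epimorphisms. -/
theorem push_preservesEpimorphisms (hB : BigSite.PropB f) :
    (EtCoh.push f).PreservesEpimorphisms := by
  refine ⟨fun {F G} a ha => ?_⟩
  have h1 : Sheaf.IsLocallySurjective a := (Sheaf.isLocallySurjective_iff_epi' _ a).2 ha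
  have h2 : Presheaf.IsLocallySurjective X.smallEtaleTopology
      (Functor.whiskerRight a.hom (forget AddCommGrpCat.{u + 1})) :=
    (Presheaf.isLocallySurjective_iff_whisker_forget _ a.hom).1 h1
  have : Sheaf.IsLocallySurjective ((EtCoh.push f).map a) := ⟨fun {U} s => by
    rw [← Presheaf.imageSieve_whisker_forget]
    exact imageSieve_whisker_mem f hB
      ((isSheaf_iff_isSheaf_of_type _ _).1
        ((sheafCompose X.smallEtaleTopology (forget AddCommGrpCat.{u + 1})).obj F).property)
      ((isSheaf_iff_isSheaf_of_type _ _).1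
        ((sheafCompose X.smallEtaleTopology (forget AddCommGrpCat.{u + 1})).obj G).property)
      (Functor.whiskerRight a.hom (forget AddCommGrpCat.{u + 1})) h2 U s⟩
  exact Sheaf.epi_of_isLocallySurjective _

/-- Integral morphisms satisfy condition (B). -/
theorem propB_of_integral [IsIntegralHom f] : BigSite.PropB f := by
  intro V v _ ι U g hg hsurj
  let G : (∐ U) ⟶ pullback f v := Sigma.desc g
  have : Etale G := IsZariskiLocalAtSource.sigmaDesc hg
  have : IsIntegralHom (pullback.snd f v) := MorphismProperty.pullback_snd _ _ inferInstance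
  have key : ∀ y : V, ∃ (T : V.Etale) (w : T.left) (r : pullback T.hom (pullback.snd f v) ⟶ ∐ U),
      T.hom.base w = y ∧ r ≫ G = pullback.snd T.hom (pullback.snd f v) := fun y => by
    obtain ⟨T, t, ht, r, hr, -⟩ := exists_nbhd_section (pullback.snd f v) (gpt y) G
      (fun x _ => by
        obtain ⟨i, z, hz⟩ := hsurj x
        exact ⟨(Sigma.ι U i).base z, by
          rw [← Scheme.Hom.comp_apply, Sigma.ι_desc]; exact hz⟩)
      (ι := Fin 0) Fin.elim0 (fun i => i.elim0) (fun i => i.elim0) Fin.elim0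
      (fun i => i.elim0)
    exact ⟨T, t.base default, r, by rw [← Scheme.Hom.comp_apply, ht]; exact gpt_default y, hr⟩
  choose T w r hw hr using key
  refine ⟨V, fun y => (T y).left, fun y => (T y).hom, fun y => (T y).prop,
    fun y => ⟨y, w y, hw y⟩, fun y => ?_⟩
  let φ := pullback.map f ((T y).hom ≫ v) f v (𝟙 X) (T y).hom (𝟙 Y) (by simp) (by simp)
  let k : pullback f ((T y).hom ≫ v) ⟶ pullback (T y).hom (pullback.snd f v) :=
    pullback.lift (pullback.snd f ((T y).hom ≫ v)) φ (pullback.lift_snd _ _ _).symm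
  let r' := k ≫ r y
  have hr' : r' ≫ G = φ := by rw [Category.assoc, hr, pullback.lift_snd]
  refine ⟨ι, fun i => r' ⁻¹ᵁ (Sigma.ι U i).opensRange, fun i j hij => ?_, ?_, fun i => ?_⟩
  · rw [disjoint_iff_inf_le]
    exact fun x hx => ((disjoint_opensRange_sigmaι U i j hij).le_bot
      (show r' x ∈ (Sigma.ι U i).opensRange ⊓ (Sigma.ι U j).opensRange from hx)).elim
  · rw [eq_top_iff]
    intro x _
    obtain ⟨⟨i, z⟩, hz⟩ := (sigmaMk U).surjective (r' x)
    exact TopologicalSpace.Opens.mem_iSup.2 ⟨i, z, (sigmaMk_mk U i z).symm.trans hz⟩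
  · have hsub : Set.range ((r' ⁻¹ᵁ (Sigma.ι U i).opensRange).ι ≫ r').base ⊆
        Set.range (Sigma.ι U i).base := by
      rintro _ ⟨x, rfl⟩
      exact x.2
    refine ⟨i, IsOpenImmersion.lift (Sigma.ι U i) _ hsub, ?_⟩
    have h := congrArg (· ≫ G) (IsOpenImmersion.lift_fac (Sigma.ι U i) _ hsub)
    simp only [Category.assoc, Sigma.ι_desc, G] at h
    rw [h]
    exact congrArg (_ ≫ ·) hr'

/-- Integral morphisms satisfy condition (A). -/
theorem propA_of_integral [IsIntegralHom f] : BigSite.PropA f := by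
  intro U g _ u
  let ω := gpt u
  let G : U ⨿ X ⟶ X := coprod.desc g (𝟙 X)
  have : Etale G := by
    rw [IsZariskiLocalAtSource.iff_of_openCover (P := @Etale) (coprodOpenCover.{_, u} U X)]
    rintro (i | i)
    · show Etale (coprod.inl ≫ coprod.desc g (𝟙 X))
      rw [coprod.inl_desc]; assumption
    · show Etale (coprod.inr ≫ coprod.desc g (𝟙 X))
      rw [coprod.inr_desc]; infer_instance
  obtain ⟨T, t, ht, r, hr, hω⟩ := exists_nbhd_section f ((ω ≫ g) ≫ f) G
    (fun x _ => ⟨(coprod.inr (X := U) (Y := X)).base x, by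
      rw [← Scheme.Hom.comp_apply, coprod.inr_desc]; rfl⟩)
    (ι := Fin 1) (fun _ => ω ≫ g) (fun _ => rfl) (fun _ _ _ => Subsingleton.elim _ _)
    (fun _ => ω ≫ coprod.inl) (fun _ => by rw [Category.assoc, coprod.inl_desc])
  let r' := (pullbackSymmetry f T.hom).hom ≫ r
  have hr' : r' ≫ G = pullback.fst f T.hom := by
    rw [Category.assoc, hr, pullbackSymmetry_hom_comp_snd]
  have hc : IsClopen ((coprod.inl : U ⟶ U ⨿ X).opensRange : Set ↥(U ⨿ X)) :=
    ⟨isOpen_compl_iff.1 (by
        rw [show ((coprod.inl : U ⟶ U ⨿ X).opensRange : Set ↥(U ⨿ X)) =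
          Set.range (coprod.inl : U ⟶ U ⨿ X).base from rfl, (isCompl_range_inl_inr U X).compl_eq]
        exact (coprod.inr : X ⟶ U ⨿ X).opensRange.2),
      (coprod.inl : U ⟶ U ⨿ X).opensRange.2⟩
  let O := r' ⁻¹ᵁ (coprod.inl : U ⟶ U ⨿ X).opensRange
  have hsub : Set.range (O.ι ≫ r').base ⊆ Set.range (coprod.inl : U ⟶ U ⨿ X).base := by
    rintro _ ⟨x, rfl⟩
    exact x.2
  refine ⟨T.left, T.hom, T.prop, O, hc.1.preimage r'.continuous,
    IsOpenImmersion.lift coprod.inl _ hsub, ?_, ?_⟩
  · have h := congrArg (· ≫ G) (IsOpenImmersion.lift_fac coprod.inl _ hsub)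
    simp only [Category.assoc, coprod.inl_desc, G] at h
    rw [h]
    exact congrArg (_ ≫ ·) hr'
  · let p : Spec _ ⟶ pullback f T.hom :=
      pullback.lift t (ω ≫ g) (ht.trans rfl) ≫ (pullbackSymmetry f T.hom).inv
    have hp : p ≫ r' = ω ≫ coprod.inl := by
      rw [Category.assoc, Iso.inv_hom_id_assoc]
      exact hω 0
    have hpO : p default ∈ O := by
      change r'.base (p.base default) ∈ Set.range (coprod.inl : U ⟶ U ⨿ X).base
      rw [← Scheme.Hom.comp_apply, hp, Scheme.Hom.comp_apply]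
      exact ⟨_, rfl⟩
    refine ⟨⟨p default, hpO⟩, (coprod.inl : U ⟶ U ⨿ X).isOpenEmbedding.injective ?_⟩
    rw [← Scheme.Hom.comp_apply, IsOpenImmersion.lift_fac, Scheme.Hom.comp_apply]
    change r'.base (p.base default) = _
    rw [← Scheme.Hom.comp_apply, hp, Scheme.Hom.comp_apply, gpt_default]

end GrothLib.EtSite
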