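import Mathlib.RingTheory.Unramified.LocalStructure
import Mathlib.AlgebraicGeometry.Morphisms.Etale
import Mathlib.AlgebraicGeometry.Morphisms.ClosedImmersion
import Mathlib.AlgebraicGeometry.Pullbacks

/-!
# Lifting etale morphisms along closed immersions, Zariski locally

An etale algebra over a quotient of `R` is, locally on its spectrum, the base change of an etale
`R`-algebra; consequently an etale scheme over a closed subscheme is Zariski-locally the base
change of an etale scheme over the ambient scheme.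
-/

universe u

open CategoryTheory CategoryTheory.Limits AlgebraicGeometry Polynomial TensorProduct

namespace GrothLib.EtSite

/-- A standard etale algebra over a quotient lifts to an etale algebra. -/
lemma exists_etale_lift_of_standardEtale {R S B : Type u} [CommRing R] [CommRing S] [CommRing B]
    [Algebra R S] [Algebra S B] (hS : Function.Surjective (algebraMap R S))
    [Algebra.IsStandardEtale S B] :
    ∃ (A : Type u) (_ : CommRing A) (_ : Algebra R A) (_ : Algebra.Etale R A),
      Nonempty (S ⊗[R] A ≃ₐ[S] B) := by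
  obtain ⟨P⟩ := Algebra.IsStandardEtale.nonempty_standardEtalePresentation (R := S) (S := B)
  obtain ⟨f, hf, -, hfm⟩ : ∃ f : R[X], f.map (algebraMap R S) = P.f ∧ f.natDegree = P.f.natDegree ∧ f.Monic :=
    Polynomial.lifts_and_natDegree_eq_and_monic
      (by rw [Polynomial.lifts_iff_coeff_lifts]; exact fun n => hS _) P.monic_f
  obtain ⟨g, hg⟩ := Polynomial.map_surjective _ hS P.g
  let Q : StandardEtalePair R :=
    ⟨f, hfm, g * derivative f, g, 0, 1, by rw [mul_zero, add_zero, pow_one, mul_comm]⟩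
  refine ⟨Q.Ring, inferInstance, inferInstance, inferInstance, ?_⟩
  let Q₁ : StandardEtalePresentation R Q.Ring :=
    ⟨Q, Q.X, Q.hasMap_X, by simpa [StandardEtalePair.lift_X_left] using Function.bijective_id⟩
  let P₂ := Q₁.baseChange (T := S)
  have key : ∀ (T : Type u) [CommRing T] [Algebra S T] (x : T), P₂.P.HasMap x ↔ P.P.HasMap x := by
    intro T _ _ x
    have h1 : P₂.P.f = P.f := hf
    have h2 : P₂.P.g = P.g * derivative P.f := by
      change (g * derivative f).map (algebraMap R S) = _
      rw [Polynomial.map_mul, hg, ← derivative_map, hf]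
    constructor
    · rintro ⟨a, b⟩
      rw [h1] at a
      rw [h2, map_mul] at b
      exact ⟨a, isUnit_of_mul_isUnit_left b⟩
    · intro h
      refine ⟨h1 ▸ h.1, ?_⟩
      rw [h2, map_mul]
      exact h.2.mul h.isUnit_derivative_f
  let φ : S ⊗[R] Q.Ring →ₐ[S] B := (P₂.P.lift P.x ((key _ _).2 P.hasMap)).comp P₂.equivRing.toAlgHom
  let ψ : B →ₐ[S] S ⊗[R] Q.Ring := (P.P.lift P₂.x ((key _ _).1 P₂.hasMap)).comp P.equivRing.toAlgHom
  refine ⟨AlgEquiv.ofAlgHom φ ψ (P.hom_ext ?_) (P₂.hom_ext ?_)⟩
  · simp [φ, ψ, StandardEtalePair.lift_X]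
  · simp [φ, ψ, StandardEtalePair.lift_X]

/-- An etale algebra over a quotient is, near a prime, the base change of an etale algebra. -/
lemma exists_etale_lift_nhd {R S B : Type u} [CommRing R] [CommRing S] [CommRing B]
    [Algebra R S] [Algebra S B] (hS : Function.Surjective (algebraMap R S))
    [Algebra.Etale S B] (q : Ideal B) [q.IsPrime] :
    ∃ (h : B) (A : Type u) (_ : CommRing A) (_ : Algebra R A) (_ : Algebra.Etale R A),
      h ∉ q ∧ Nonempty (S ⊗[R] A ≃ₐ[S] Localization.Away h) := by
  obtain ⟨h, hh, hstd⟩ := Algebra.IsEtaleAt.exists_isStandardEtale (R := S) (S := B) (Q := q)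
  obtain ⟨A, i₁, i₂, i₃, e⟩ := exists_etale_lift_of_standardEtale (B := Localization.Away h) hS
  exact ⟨h, A, i₁, i₂, i₃, hh, e⟩

/-- An etale scheme over a closed subscheme is Zariski locally the base change of an etale scheme
over the ambient scheme. -/
theorem exists_etale_lift {Z X W : Scheme.{u}} (i : Z ⟶ X) [IsClosedImmersion i]
    (g : W ⟶ Z) [Etale g] (w : W) :
    ∃ (V : Scheme.{u}) (v : V ⟶ X) (_ : Etale v) (W₀ : Scheme.{u}) (j : W₀ ⟶ W)
      (_ : IsOpenImmersion j) (w₀ : W₀) (a : W₀ ⟶ V),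
      j.base w₀ = w ∧ IsPullback a (j ≫ g) v i := by
  obtain ⟨R, jX, _, hx, -⟩ := AlgebraicGeometry.Scheme.exists_affine_mem_range_and_range_subset
    (x := i.base (g.base w)) (U := ⊤) (by simp)
  obtain ⟨x₀, hx₀⟩ := hx
  have hsq := IsPullback.of_hasPullback jX i
  have : IsClosedImmersion (pullback.fst jX i) := inferInstance
  obtain ⟨I, e, he⟩ := IsClosedImmersion.Spec_iff.1 this
  obtain ⟨z₀, -, hz₂⟩ := Scheme.Pullback.exists_preimage_pullback x₀ (g.base w) hx₀
  obtain ⟨w₁, -, hw₂⟩ := Scheme.Pullback.exists_preimage_pullback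
    (f := pullback.snd jX i) (g := g) z₀ w hz₂
  let p : pullback (pullback.snd jX i) g ⟶ Spec (CommRingCat.of (R ⧸ I)) :=
    pullback.fst _ _ ≫ e.hom
  have : Etale p := inferInstanceAs (Etale (pullback.fst _ _ ≫ e.hom))
  obtain ⟨B, jW, _, hb, -⟩ := AlgebraicGeometry.Scheme.exists_affine_mem_range_and_range_subset
    (x := w₁) (U := ⊤) (by simp)
  obtain ⟨b, hb⟩ := hb
  obtain ⟨α, hα⟩ := Spec.map_surjective (jW ≫ p)
  have het : α.hom.Etale := by
    rw [← HasRingHomProperty.Spec_iff (P := @Etale), hα]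
    infer_instance
  let _ : Algebra (R ⧸ I) B := α.hom.toAlgebra
  have : Algebra.Etale (R ⧸ I) B := het
  obtain ⟨h, A, _, _, hA, hh, ⟨eA⟩⟩ :=
    exists_etale_lift_nhd (R := R) (S := R ⧸ I) (B := B) Ideal.Quotient.mk_surjective b.asIdeal
  have hsm : Etale (Spec.map (CommRingCat.ofHom (algebraMap R A))) := by
    rw [HasRingHomProperty.Spec_iff (P := @Etale)]
    exact RingHom.etale_algebraMap.2 hA
  let jh : Spec (CommRingCat.of (Localization.Away h)) ⟶ Spec B :=
    Spec.map (CommRingCat.ofHom (algebraMap B (Localization.Away h)))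
  obtain ⟨b₀, hb₀⟩ : b ∈ Set.range jh.base := by
    change b ∈ Set.range (PrimeSpectrum.comap (algebraMap B (Localization.Away h)))
    rw [PrimeSpectrum.localization_away_comap_range (Localization.Away h) h]
    exact hh
  let eS : Spec (CommRingCat.of (Localization.Away h)) ≅ Spec (CommRingCat.of ((R ⧸ I) ⊗[R] A)) :=
    Scheme.Spec.mapIso eA.toRingEquiv.toCommRingCatIso.op
  let a : Spec (CommRingCat.of (Localization.Away h)) ⟶ Spec (CommRingCat.of A) :=
    eS.hom ≫ Spec.map (CommRingCat.ofHom
      (Algebra.TensorProduct.includeRight (R := R) (A := R ⧸ I) (B := A)).toRingHom)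
  have hpush : IsPullback a (jh ≫ Spec.map α)
      (Spec.map (CommRingCat.ofHom (algebraMap R A)))
      (Spec.map (CommRingCat.ofHom (Ideal.Quotient.mk I))) := by
    refine (isPullback_SpecMap_of_isPushout _ _ _ _
      (CommRingCat.isPushout_tensorProduct R (R ⧸ I) A)).flip.of_iso eS.symm (Iso.refl _)
        (Iso.refl _) (Iso.refl _) ?_ ?_ ?_ ?_
    · simp [a]
    · simp only [Iso.symm_hom, Iso.refl_hom, Category.comp_id, jh]
      rw [show eS.inv = Spec.map (CommRingCat.ofHom eA.symm.toRingEquiv.toRingHom) from rfl,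
        ← Spec.map_comp, ← Spec.map_comp]
      congr 1
      ext r
      exact (eA.symm.commutes r).symm
    · simp
    · simp
  have hq : IsPullback (a ≫ 𝟙 _) ((jh ≫ jW ≫ pullback.fst (pullback.snd jX i) g))
      (Spec.map (CommRingCat.ofHom (algebraMap R A))) (pullback.fst jX i) := by
    refine hpush.of_iso (Iso.refl _) (Iso.refl _) e.symm (Iso.refl _) ?_ ?_ ?_ ?_
    · simp
    · simp [hα, p]
    · simp
    · simp [he]
  refine ⟨_, Spec.map (CommRingCat.ofHom (algebraMap R A)) ≫ jX, inferInstance, _,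
    jh ≫ jW ≫ pullback.snd _ _, inferInstance, b₀, a, ?_, ?_⟩
  · rw [Scheme.Hom.comp_apply, hb₀, Scheme.Hom.comp_apply, hb, hw₂]
  · have := hq.paste_vert hsq
    simpa [Category.assoc, pullback.condition] using this

end GrothLib.EtSite
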