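import Groth.Agent.Lib.EtSite.Pull
import Groth.Agent.Lib.EtSite.Lift
import Mathlib.AlgebraicGeometry.Morphisms.Immersion
import Mathlib.AlgebraicGeometry.Morphisms.FlatMono
import Mathlib.CategoryTheory.Sites.DenseSubsite.Basic
import Mathlib.CategoryTheory.Adjunction.FullyFaithful

/-!
# Base change of small etale sites along an immersion

Base change along an immersion is locally full and cover dense, so direct image along an immersion
is fully faithful and the counit of inverse/direct image is an isomorphism.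
-/

universe u

open CategoryTheory CategoryTheory.Limits AlgebraicGeometry Opposite

namespace GrothLib.EtSite

variable {Z X : Scheme.{u}} (i : Z ⟶ X)

lemma bc_map_left_fst {U V : X.Etale} (g : V ⟶ U) :
    ((EtCoh.bc i).map g).left ≫ pullback.fst U.hom i = pullback.fst V.hom i ≫ g.left :=
  (EtCoh.isPullback_bc_map i g).w

lemma bc_map_left_snd {U V : X.Etale} (g : V ⟶ U) :
    ((EtCoh.bc i).map g).left ≫ pullback.snd U.hom i = pullback.snd V.hom i :=
  Over.w ((EtCoh.bc i).map g).hom

/-- Every etale scheme over an immersed subscheme is locally a base change. -/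
theorem exists_bc_nhd [IsImmersion i] (W : Z.Etale) (w : W.left) :
    ∃ (V : X.Etale) (k : (EtCoh.bc i).obj V ⟶ W) (v : ((EtCoh.bc i).obj V).left),
      IsOpenImmersion k.left ∧ k.left.base v = w := by
  obtain ⟨V, v, hv, W₀, j, hj, w₀, a, hw₀, hpb⟩ :=
    exists_etale_lift i.liftCoborder W.hom w
  have hpb' : IsPullback a (j ≫ W.hom) (v ≫ i.coborderRange.ι) i := by
    have h : IsPullback (𝟙 Z) i.liftCoborder i i.coborderRange.ι :=
      IsPullback.of_horiz_isIso_mono ⟨by simp⟩
    simpa using hpb.paste_vert h.flip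
  let k : (EtCoh.bc i).obj (Scheme.Etale.mk (v ≫ i.coborderRange.ι)) ⟶ W :=
    MorphismProperty.Over.homMk (hpb'.isoPullback.inv ≫ j) (by
      change (hpb'.isoPullback.inv ≫ j) ≫ W.hom = pullback.snd _ _
      rw [Category.assoc, IsPullback.isoPullback_inv_snd])
  have hk : IsOpenImmersion k.left :=
    (inferInstance : IsOpenImmersion (hpb'.isoPullback.inv ≫ j))
  refine ⟨_, k, hpb'.isoPullback.hom w₀, hk, ?_⟩
  change (hpb'.isoPullback.inv ≫ j).base (hpb'.isoPullback.hom.base w₀) = w
  rw [← Scheme.Hom.comp_apply, Iso.hom_inv_id_assoc, hw₀]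

/-- A morphism between base changes comes, locally upstairs, from a morphism. -/
theorem exists_bc_almost_full [IsImmersion i] (U U' : X.Etale)
    (h : (EtCoh.bc i).obj U ⟶ (EtCoh.bc i).obj U') :
    ∃ (W : X.Etale) (a : W ⟶ U) (b : W ⟶ U'),
      IsIso ((EtCoh.bc i).map a) ∧ (EtCoh.bc i).map a ≫ h = (EtCoh.bc i).map b := by
  let P : X.Etale := Scheme.Etale.mk (pullback.fst U.hom U'.hom ≫ U.hom)
  let p₁ : P ⟶ U := MorphismProperty.Over.homMk (pullback.fst U.hom U'.hom) rfl
  let p₂ : P ⟶ U' :=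
    MorphismProperty.Over.homMk (pullback.snd U.hom U'.hom) pullback.condition.symm
  let S : Scheme.{u} := ((EtCoh.bc i).obj U).left
  let q₁ : S ⟶ U.left := pullback.fst U.hom i
  let q₂ : S ⟶ U'.left := h.left ≫ pullback.fst U'.hom i
  have hq : q₁ ≫ U.hom = q₂ ≫ U'.hom := by
    have h2 : h.left ≫ pullback.snd U'.hom i = pullback.snd U.hom i := Over.w h.hom
    refine pullback.condition.trans ?_
    refine ((congrArg (· ≫ i) h2).symm.trans (Category.assoc _ _ _)).trans ?_
    exact (congrArg (h.left ≫ ·) pullback.condition.symm).trans (Category.assoc _ _ _).symm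
  let rl : S ⟶ ((EtCoh.bc i).obj P).left :=
    pullback.lift (pullback.lift q₁ q₂ hq) (pullback.snd U.hom i) (by
      change _ ≫ pullback.fst U.hom U'.hom ≫ U.hom = _
      rw [← Category.assoc, pullback.lift_fst]
      exact pullback.condition)
  let r : (EtCoh.bc i).obj U ⟶ (EtCoh.bc i).obj P :=
    MorphismProperty.Over.homMk rl (pullback.lift_snd _ _ _)
  have hr₁ : r ≫ (EtCoh.bc i).map p₁ = 𝟙 _ := by
    apply MorphismProperty.Over.Hom.ext
    change rl ≫ ((EtCoh.bc i).map p₁).left = 𝟙 _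
    apply pullback.hom_ext
    · refine ((Category.assoc _ _ _).trans (congrArg (rl ≫ ·) (bc_map_left_fst i p₁))).trans ?_
      refine ((pullback.lift_fst_assoc _ _ _ _).trans ?_).trans (Category.id_comp _).symm
      exact pullback.lift_fst _ _ _
    · refine ((Category.assoc _ _ _).trans (congrArg (rl ≫ ·) (bc_map_left_snd i p₁))).trans ?_
      exact (pullback.lift_snd _ _ _).trans (Category.id_comp _).symm
  have hr₂ : r ≫ (EtCoh.bc i).map p₂ = h := by
    apply MorphismProperty.Over.Hom.ext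
    change rl ≫ ((EtCoh.bc i).map p₂).left = h.left
    apply pullback.hom_ext
    · refine ((Category.assoc _ _ _).trans (congrArg (rl ≫ ·) (bc_map_left_fst i p₂))).trans ?_
      exact (pullback.lift_fst_assoc _ _ _ _).trans (pullback.lift_snd _ _ _)
    · refine ((Category.assoc _ _ _).trans (congrArg (rl ≫ ·) (bc_map_left_snd i p₂))).trans ?_
      exact (pullback.lift_snd _ _ _).trans (Over.w h.hom).symm
  have : IsSplitMono r.left :=
    ⟨⟨((EtCoh.bc i).map p₁).left, congrArg (fun k : _ ⟶ (EtCoh.bc i).obj U => k.left) hr₁⟩⟩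
  have : IsOpenImmersion r.left := IsOpenImmersion.of_flat_of_mono _
  -- the image is the trace of an open subscheme of `P`
  let π : ((EtCoh.bc i).obj P).left ⟶ pullback U.hom U'.hom := pullback.fst P.hom i
  have : IsImmersion π := MorphismProperty.pullback_fst _ _ inferInstance
  obtain ⟨O, hO, hO'⟩ := π.isEmbedding.isInducing.isOpen_iff.1
    r.left.isOpenEmbedding.isOpen_range
  let O' : (pullback U.hom U'.hom).Opens := ⟨O, hO⟩
  have hOι : IsOpenImmersion O'.ι := Scheme.Opens.instIsOpenImmersionι O'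
  let W : X.Etale := Scheme.Etale.mk (O'.ι ≫ (pullback.fst U.hom U'.hom ≫ U.hom))
  let o : W ⟶ P := MorphismProperty.Over.homMk O'.ι rfl
  have hpb : IsPullback ((EtCoh.bc i).map o).left (pullback.fst W.hom i) π O'.ι :=
    EtCoh.isPullback_bc_map i o
  have : IsOpenImmersion ((EtCoh.bc i).map o).left :=
    MorphismProperty.of_isPullback hpb.flip hOι
  have hrange : Set.range r.left = Set.range ((EtCoh.bc i).map o).left := by
    rw [← hO']
    ext y
    constructor
    · intro hy
      obtain ⟨z, hz, -⟩ := Scheme.Pullback.exists_preimage_pullback (f := π) (g := O'.ι) y ⟨_, hy⟩ rfl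
      exact ⟨hpb.isoPullback.inv z, by
        rw [← hz, ← Scheme.Hom.comp_apply, IsPullback.isoPullback_inv_fst]
        rfl⟩
    · rintro ⟨z, rfl⟩
      change π _ ∈ O
      rw [← Scheme.Hom.comp_apply, hpb.w, Scheme.Hom.comp_apply]
      exact (pullback.fst W.hom i z).2
  let e : (EtCoh.bc i).obj U ⟶ (EtCoh.bc i).obj W :=
    MorphismProperty.Over.homMk (IsOpenImmersion.isoOfRangeEq r.left _ hrange).hom (by
      have h1 : ((EtCoh.bc i).map o).left ≫ ((EtCoh.bc i).obj P).hom = ((EtCoh.bc i).obj W).hom :=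
        Over.w ((EtCoh.bc i).map o).hom
      have h2 : r.left ≫ ((EtCoh.bc i).obj P).hom = ((EtCoh.bc i).obj U).hom := Over.w r.hom
      refine (congrArg (_ ≫ ·) h1.symm).trans (Eq.trans ?_ h2)
      exact IsOpenImmersion.lift_fac_assoc _ _ _ _)
  have he : e ≫ (EtCoh.bc i).map o = r :=
    MorphismProperty.Over.Hom.ext (IsOpenImmersion.lift_fac _ _ _)
  have : IsIso ((Scheme.Etale.forget Z).map e) := by
    have : IsIso ((Over.forget Z).map ((Scheme.Etale.forget Z).map e)) :=
      inferInstanceAs (IsIso (IsOpenImmersion.isoOfRangeEq r.left _ hrange).hom)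
    exact isIso_of_reflects_iso _ (Over.forget Z)
  have : IsIso e := isIso_of_reflects_iso e (Scheme.Etale.forget Z)
  have hea : (EtCoh.bc i).map (o ≫ p₁) = inv e := by
    refine IsIso.eq_inv_of_hom_inv_id ?_
    rw [Functor.map_comp, ← Category.assoc, he, hr₁]
  refine ⟨W, o ≫ p₁, o ≫ p₂, hea ▸ inferInstance, ?_⟩
  rw [hea, IsIso.inv_comp_eq, Functor.map_comp, ← Category.assoc, he, hr₂]

instance isCoverDense_bc [IsImmersion i] : (EtCoh.bc i).IsCoverDense Z.smallEtaleTopology where
  is_cover W := (mem_topology_iff _).2 fun w => by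
    obtain ⟨V, k, v, -, hv⟩ := exists_bc_nhd i W w
    exact ⟨_, k, v, Presieve.in_coverByImage _ k, hv⟩

instance isLocallyFull_bc [IsImmersion i] : (EtCoh.bc i).IsLocallyFull Z.smallEtaleTopology where
  functorPushforward_imageSieve_mem {U U'} f := by
    obtain ⟨W, a, b, ha, hab⟩ := exists_bc_almost_full i U U' f
    have h : ((EtCoh.bc i).imageSieve f).functorPushforward (EtCoh.bc i) (𝟙 _) :=
      ⟨W, a, inv ((EtCoh.bc i).map a), ⟨b, hab.symm⟩, (IsIso.inv_hom_id _).symm⟩
    rw [(Sieve.id_mem_iff_eq_top).1 h]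
    exact GrothendieckTopology.top_mem _ _

/-- For an immersion the counit of inverse and direct image is an isomorphism. -/
theorem isIso_counit [IsImmersion i] [EtCoh.BCCont i] (G : EtCoh.Ab Z) :
    IsIso ((EtCoh.pullPushAdj i).counit.app G) := inferInstance

/-- Stalks of a direct image along an immersion at points of the subscheme. -/
noncomputable def stalkPushIso [IsImmersion i] [EtCoh.BCCont i] (G : EtCoh.Ab Z) {Ω : Type u}
    [Field Ω] [IsSepClosed Ω] (ζ : Spec (CommRingCat.of Ω) ⟶ Z) :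
    (EtCoh.stalk (ζ ≫ i)).obj ((EtCoh.push i).obj G) ≅ (EtCoh.stalk ζ).obj G :=
  have := isIso_counit i G
  ((pullStalkIso ζ i).app _).symm ≪≫
    (EtCoh.stalk ζ).mapIso (asIso ((EtCoh.pullPushAdj i).counit.app G))

lemma subsingleton_sect_of_isEmpty (F : EtCoh.Ab X) (U : X.Etale) [IsEmpty U.left] :
    Subsingleton (EtCoh.sect F U) :=
  ⟨fun a b => sub_eq_zero.1 (section_eq_zero_of_germs F U (a - b)
    fun Ω _ _ _ t => IsEmpty.elim ‹IsEmpty U.left› (t.left.base (default : Spec (CommRingCat.of Ω))))⟩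

/-- A sheaf has zero stalk at a point near which all its sections vanish. -/
lemma stalk_isZero_of_nhds (F : EtCoh.Ab X) {Ω : Type u} [Field Ω] [IsSepClosed Ω]
    (ξ : Spec (CommRingCat.of Ω) ⟶ X) (O : X.Opens) (hO : ξ.base default ∈ O)
    (hF : ∀ U : X.Etale, (∀ x : U.left, U.hom.base x ∈ O) → Subsingleton (EtCoh.sect F U)) :
    IsZero ((EtCoh.stalk ξ).obj F) := by
  have : Subsingleton ((EtCoh.stalk ξ).obj F) := by
    refine ⟨fun a b => ?_⟩
    rw [← sub_eq_zero]
    obtain ⟨U, t, s, hs⟩ := exists_germ ξ F (a - b)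
    let f : U.left ⟶ X := U.hom
    have : Etale f := U.prop
    have hι : IsOpenImmersion (f ⁻¹ᵁ O).ι := Scheme.Opens.instIsOpenImmersionι _
    let V : X.Etale := Scheme.Etale.mk ((f ⁻¹ᵁ O).ι ≫ f)
    let g : V ⟶ U := MorphismProperty.Over.homMk (f ⁻¹ᵁ O).ι rfl
    let l : Spec (CommRingCat.of Ω) ⟶ U.left := t.left
    have hl : l ≫ f = ξ := Over.w t
    have hmem : l.base default ∈ f ⁻¹ᵁ O := by
      change f.base _ ∈ O
      rw [← Scheme.Hom.comp_apply, hl]
      exact hO
    obtain ⟨v, hv⟩ : ∃ v, (Scheme.pointSmallEtale ξ).fiber.map g v = t := by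
      have hr : Set.range l.base ⊆ Set.range (f ⁻¹ᵁ O).ι.base := by
        rintro _ ⟨p, rfl⟩
        rw [Subsingleton.elim p default, Scheme.Opens.range_ι]
        exact hmem
      refine ⟨fib ξ (U := V) (@IsOpenImmersion.lift _ _ _ (f ⁻¹ᵁ O).ι l hι hr) ?_, ?_⟩
      · exact ((Category.assoc _ _ _).symm.trans (congrArg (· ≫ f) (@IsOpenImmersion.lift_fac _ _ _ (f ⁻¹ᵁ O).ι l hι hr))).trans hl
      · exact Over.OverMorphism.ext (@IsOpenImmersion.lift_fac _ _ _ (f ⁻¹ᵁ O).ι l hι hr)
    have := hF V fun z => z.2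
    rw [← hs, ← hv, ← germ_map, Subsingleton.elim (F.obj.map g.op s) 0, map_zero]
  exact AddCommGrpCat.isZero_of_subsingleton _

/-- A geometric point landing in an immersed subscheme lifts to it. -/
lemma exists_point_lift [IsClosedImmersion i] {Ω : Type u} [Field Ω]
    (ξ : Spec (CommRingCat.of Ω) ⟶ X) (z : Z) (hz : i.base z = ξ.base default) :
    ∃ ζ : Spec (CommRingCat.of Ω) ⟶ Z, ζ ≫ i = ξ := by
  obtain ⟨p, hp, -⟩ := Scheme.Pullback.exists_preimage_pullback (f := ξ) (g := i)
    (default : Spec (CommRingCat.of Ω)) z hz.symm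
  have : Surjective (pullback.fst ξ i) :=
    ⟨fun x => ⟨p, hp.trans (Subsingleton.elim _ _)⟩⟩
  have : IsIso (pullback.fst ξ i) := isIso_of_isClosedImmersion_of_surjective _
  exact ⟨inv (pullback.fst ξ i) ≫ pullback.snd ξ i, by
    rw [Category.assoc, ← pullback.condition, IsIso.inv_hom_id_assoc]⟩

/-- The stalks of a direct image along a closed immersion vanish off the closed subscheme. -/
theorem stalk_push_isZero [IsClosedImmersion i] [EtCoh.BCCont i] (G : EtCoh.Ab Z) {Ω : Type u}
    [Field Ω] [IsSepClosed Ω] (ξ : Spec (CommRingCat.of Ω) ⟶ X)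
    (hξ : ξ.base default ∉ Set.range i.base) :
    IsZero ((EtCoh.stalk ξ).obj ((EtCoh.push i).obj G)) := by
  refine stalk_isZero_of_nhds _ ξ ⟨(Set.range i.base)ᶜ, i.isClosedEmbedding.isClosed_range.isOpen_compl⟩
    hξ fun U hU => ?_
  have : IsEmpty ((EtCoh.bc i).obj U).left := ⟨fun p => by
    let p : ↥(pullback U.hom i) := p
    refine hU (pullback.fst U.hom i p) ⟨pullback.snd U.hom i p, ?_⟩
    rw [← Scheme.Hom.comp_apply, ← pullback.condition]
    rfl⟩
  exact subsingleton_sect_of_isEmpty G ((EtCoh.bc i).obj U)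

/-- Sheaves vanishing off a closed subscheme come from it. -/
theorem isIso_unit_of_vanish [IsClosedImmersion i] [EtCoh.BCCont i] (F : EtCoh.Ab X)
    (hF : ∀ U : X.Etale, Disjoint (Set.range U.hom.base) (Set.range i.base) →
      Subsingleton (EtCoh.sect F U)) :
    IsIso ((EtCoh.pullPushAdj i).unit.app F) := by
  refine isIso_of_stalks _ fun Ω _ _ ξ => ?_
  rw [← ConcreteCategory.isIso_iff_bijective]
  by_cases hξ : ξ.base default ∈ Set.range i.base
  · obtain ⟨z, hz⟩ := hξ
    obtain ⟨ζ, rfl⟩ := exists_point_lift i ξ z hz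
    have := isIso_counit i ((EtCoh.pull i).obj F)
    have : IsIso (𝟙 ((EtCoh.pull i).obj F)) := IsIso.id _
    have : IsIso ((EtCoh.pull i).map ((EtCoh.pullPushAdj i).unit.app F)) :=
      IsIso.of_isIso_fac_right ((EtCoh.pullPushAdj i).left_triangle_components F)
    exact (NatIso.isIso_map_iff (pullStalkIso ζ i) _).1
      (inferInstanceAs (IsIso ((EtCoh.stalk ζ).map
        ((EtCoh.pull i).map ((EtCoh.pullPushAdj i).unit.app F)))))
  · refine isIso_of_source_target_iso_zero _ (IsZero.isoZero ?_) (IsZero.isoZero ?_)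
    · exact stalk_isZero_of_nhds F ξ
        ⟨(Set.range i.base)ᶜ, i.isClosedEmbedding.isClosed_range.isOpen_compl⟩ hξ
        fun U hU => hF U (disjoint_compl_left.mono_left (by rintro _ ⟨x, rfl⟩; exact hU x))
    · exact stalk_push_isZero i _ ξ hξ

end GrothLib.EtSite
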