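import Groth.Agent.Lib.EtSite.PushStalk
import Groth.Agent.Lib.EtSite.Immersion
import Groth.Prelude.Def_PBC
import Mathlib.CategoryTheory.Adjunction.FullyFaithful
import Mathlib.FieldTheory.IsAlgClosed.AlgebraicClosure

/-!
# Direct image along integral universally injective morphisms

Detection of isomorphisms at geometric points with algebraically closed fields; for an integral
universally injective morphism the counit is an isomorphism and the essential image of the direct
image consists of the sheaves supported on the image.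
-/

universe u

open CategoryTheory CategoryTheory.Limits AlgebraicGeometry Opposite

namespace GrothLib.EtSite

variable {X Y : Scheme.{u}}

/-- The geometric point over a point of a scheme with algebraically closed field. -/
noncomputable def gac (x : X) :
    Spec (CommRingCat.of (AlgebraicClosure (X.residueField x))) ⟶ X :=
  Spec.map (CommRingCat.ofHom (algebraMap (X.residueField x) (AlgebraicClosure (X.residueField x)))) ≫
    X.fromSpecResidueField x

lemma gac_default (x : X) : (gac x).base default = x := by
  exact X.fromSpecResidueField_apply x _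

/-- Isomorphisms of abelian sheaves are detected on stalks at algebraically closed points. -/
lemma isIso_of_stalksAC {F G : EtCoh.Ab X} (a : F ⟶ G)
    (h : ∀ (Ω : Type u) [Field Ω] [IsAlgClosed Ω] (ξ : Spec (CommRingCat.of Ω) ⟶ X),
      Function.Bijective ((EtCoh.stalk ξ).map a)) : IsIso a := by
  have hinj : ∀ U : X.Etale, Function.Injective (a.hom.app (op U)) := fun U => by
    rw [injective_iff_map_eq_zero]
    intro s hs
    let R : Sieve U :=
      { arrows := fun V g => F.obj.map g.op s = 0
        downward_closed := by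
          intro V W g hg k
          rw [op_comp, Functor.map_comp, ConcreteCategory.comp_apply, hg, map_zero] }
    have hR : R ∈ X.smallEtaleTopology U := by
      rw [mem_topology_iff]
      intro u
      obtain ⟨t, ht⟩ := exists_fib (gac (U.hom.base u)) u (gac_default _).symm
      obtain ⟨V, g, v, hv, hg⟩ := eq_zero_nhd _ F t s ((h _ (gac _)).injective (by
        rw [stalk_map_germ, hs, map_zero, map_zero]))
      exact ⟨V, g, v, hg, hv.trans ht⟩
    refine ((isSheaf_iff_isSheaf_of_type _ _).1
      ((sheafCompose X.smallEtaleTopology (forget AddCommGrpCat.{u + 1})).obj F).property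
      R hR).isSeparatedFor.ext fun V g (hg : F.obj.map g.op s = 0) => ?_
    change F.obj.map g.op s = F.obj.map g.op 0
    rw [hg, map_zero]
  have : Sheaf.IsLocallyInjective a :=
    Sheaf.isLocallyInjective_iff_injective a |>.2 fun U => hinj U.unop
  have := Sheaf.mono_of_isLocallyInjective a
  have : Sheaf.IsLocallySurjective a := ⟨fun {U} s => by
    rw [mem_topology_iff]
    intro u
    obtain ⟨t, ht⟩ := exists_fib (gac (U.hom.base u)) u (gac_default _).symm
    obtain ⟨p, hp⟩ := (h _ (gac (U.hom.base u))).surjective (germ _ G t s)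
    obtain ⟨V, g, v, hv, z, hz⟩ := exists_nhd_image _ a t s p hp
    exact ⟨V, g, v, ⟨z, hz⟩, hv.trans ht⟩⟩
  have := Sheaf.epi_of_isLocallySurjective a
  exact isIso_of_mono_of_epi a

variable (f : X ⟶ Y) [IsIntegralHom f]

/-- Points over an algebraically closed point in the image exist. -/
lemma exists_point_over {Ω : Type u} [Field Ω] [IsAlgClosed Ω]
    (η : Spec (CommRingCat.of Ω) ⟶ Y) (hη : η.base default ∈ Set.range f.base) :
    ∃ ξ : Spec (CommRingCat.of Ω) ⟶ X, ξ ≫ f = η := by
  obtain ⟨x, hx⟩ := hη
  obtain ⟨z, hz, -⟩ := Scheme.Pullback.exists_preimage_pullback (f := 𝟙 Y) (g := f)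
    (η.base default) x hx.symm
  obtain ⟨ξ, hξ, -⟩ := exists_liftPt f (U := EtCoh.top Y)
    (fib η (U := EtCoh.top Y) η (Category.comp_id _)) z hz
  exact ⟨ξ, hξ⟩

/-- The stalks of a direct image along an integral morphism vanish outside the image. -/
lemma stalk_push_isZero_of_integral [EtCoh.BCCont f] (G : EtCoh.Ab X) {Ω : Type u} [Field Ω]
    [IsSepClosed Ω] (η : Spec (CommRingCat.of Ω) ⟶ Y) (hη : η.base default ∉ Set.range f.base) :
    IsZero ((EtCoh.stalk η).obj ((EtCoh.push f).obj G)) := by
  refine stalk_isZero_of_nhds _ η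
    ⟨(Set.range f.base)ᶜ, f.isClosedMap.isClosed_range.isOpen_compl⟩ hη fun U hU => ?_
  have : IsEmpty ((EtCoh.bc f).obj U).left := ⟨fun p => by
    let p : ↥(pullback U.hom f) := p
    refine hU (pullback.fst U.hom f p) ⟨pullback.snd U.hom f p, ?_⟩
    rw [← Scheme.Hom.comp_apply, ← pullback.condition]
    rfl⟩
  exact subsingleton_sect_of_isEmpty G ((EtCoh.bc f).obj U)

variable [UniversallyInjective f]

lemma ev_bijective_UI [EtCoh.BCCont f] {Ω : Type u} [Field Ω] [IsAlgClosed Ω]
    (ξ : Spec (CommRingCat.of Ω) ⟶ X) (G : EtCoh.Ab X) :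
    Function.Bijective (ev f ξ rfl G) := by
  have huniq : ∀ ξ' : {ξ' : Spec (CommRingCat.of Ω) ⟶ X // ξ' ≫ f = ξ ≫ f}, ξ' = ⟨ξ, rfl⟩ :=
    fun ξ' => Subtype.ext (by
      have H : UniversallyInjective f ↔
          ∀ (K : Type u) [Field K], Function.Injective (fun g : Spec (.of K) ⟶ X ↦ g ≫ f) :=
        (tfae_universallyInjective f).out 0 1
      exact H.1 inferInstance Ω ξ'.2)
  let _ : Unique {ξ' : Spec (CommRingCat.of Ω) ⟶ X // ξ' ≫ f = ξ ≫ f} :=
    { default := ⟨ξ, rfl⟩, uniq := huniq }
  exact (Equiv.piUnique (fun ξ' : {ξ' : Spec (CommRingCat.of Ω) ⟶ X // ξ' ≫ f = ξ ≫ f} =>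
    ((EtCoh.stalk ξ'.1).obj G : Type (u + 1)))).bijective.comp (ev_bijective f G)

/-- For an integral universally injective morphism the counit is an isomorphism. -/
theorem isIso_counit_UI [EtCoh.BCCont f] (G : EtCoh.Ab X) :
    IsIso ((EtCoh.pullPushAdj f).counit.app G) := by
  refine isIso_of_stalksAC _ fun Ω _ _ ξ => ?_
  have hb := ev_bijective_UI f ξ G
  simp only [ev, eqToHom_refl, Category.id_comp] at hb
  have hb' : Function.Bijective (⇑((EtCoh.stalk ξ).map ((EtCoh.pullPushAdj f).counit.app G)).hom ∘
      ⇑((pullStalkIso ξ f).inv.app ((EtCoh.push f).obj G)).hom) := hb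
  exact (Function.Bijective.of_comp_iff _ (ConcreteCategory.bijective_of_isIso
    ((pullStalkIso ξ f).inv.app ((EtCoh.push f).obj G)))).1 hb'

/-- Sheaves supported on the image of an integral universally injective morphism are direct
images. -/
theorem isIso_unit_UI [EtCoh.BCCont f] (G : EtCoh.Ab Y)
    (hG : EtPBC.supp G ⊆ Set.range f.base) : IsIso ((EtCoh.pullPushAdj f).unit.app G) := by
  refine isIso_of_stalksAC _ fun Ω _ _ η => ?_
  by_cases hη : η.base default ∈ Set.range f.base
  · obtain ⟨ξ, rfl⟩ := exists_point_over f η hη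
    refine (Function.Bijective.of_comp_iff' (ev_bijective_UI f ξ ((EtCoh.pull f).obj G)) _).1 ?_
    refine (congrArg Function.Bijective ?_).mpr
      (ConcreteCategory.bijective_of_isIso ((pullStalkIso ξ f).inv.app G))
    funext p
    obtain ⟨U, t, s, rfl⟩ := exists_germ (ξ ≫ f) G p
    refine Eq.trans ?_ (germ_unit ξ f G t s)
    refine (congrArg _ (stalk_map_germ _ _ _ _)).trans ?_
    exact ev_germ f ξ rfl _ t _
  · rw [← ConcreteCategory.isIso_iff_bijective]
    refine isIso_of_source_target_iso_zero _ (IsZero.isoZero ?_) (IsZero.isoZero ?_)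
    · by_contra hne
      refine hη (hG ⟨Ω, inferInstance, inferInstance, η, ?_, hne⟩)
      rw [Set.range_unique]
    · exact stalk_push_isZero_of_integral f _ η hη

/-- The support of a direct image lies in the image. -/
theorem supp_push_subset [EtCoh.BCCont f] (F : EtCoh.Ab X) :
    EtPBC.supp ((EtCoh.push f).obj F) ⊆ Set.range f.base := by
  rintro y ⟨Ω, _, _, η, hr, hne⟩
  by_contra hy
  have h : η.base default = y := Set.mem_singleton_iff.1 (hr ▸ ⟨default, rfl⟩)
  exact hne (stalk_push_isZero_of_integral f F η (h ▸ hy))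

end GrothLib.EtSite
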