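import Groth.Agent.Lib.EtSite.SetPoints

/-!
# Germs and the unit of inverse and direct image

The germ of a pulled back section is the image of the germ of the section under the comparison
of stalks of an inverse image.
-/

universe u

open CategoryTheory CategoryTheory.Limits AlgebraicGeometry Opposite

namespace GrothLib.EtSite

section general

universe w v v₁ v₂ u₁ u₂ u'

variable {C : Type u₁} [Category.{v₁} C] {D : Type u₂} [Category.{v₂} D]
  {J : GrothendieckTopology C} {K : GrothendieckTopology D}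
  (Φ : GrothendieckTopology.Point.{w} K) (F : C ⥤ D) [RepresentablyFlat F]
  (hF : CoverPreserving J K F) [InitiallySmall.{w} (F ⋙ Φ.fiber).Elements]
  {A : Type u'} [Category.{v} A] [HasProducts.{w} A] [F.IsContinuous J K]
  [(F.sheafPushforwardContinuous A J K).IsRightAdjoint] [HasColimitsOfSize.{w, w} A]

set_option backward.isDefEq.respectTransparency.types false in
lemma toPresheafFiber_sheafFiberComapIso_hom (G : Sheaf J A) (U : C)
    (t : Φ.fiber.obj (F.obj U)) :
    (Φ.comap F hF).toPresheafFiber U t G.obj ≫ (Φ.sheafFiberComapIso F hF A).hom.app G =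
      ((F.sheafAdjunctionContinuous A J K).unit.app G).hom.app (op U) ≫
        Φ.toPresheafFiber (F.obj U) t ((F.sheafPullback A J K).obj G).obj := by
  let adj₁ := (F.sheafAdjunctionContinuous A J K).comp Φ.skyscraperSheafAdjunction
  let adj₂ := (Φ.comap F hF).skyscraperSheafAdjunction (A := A)
  have h1 := unit_conjugateEquiv_symm adj₁ adj₂
    (Φ.skyscraperSheafFunctorCompSheafPushforwardContinuous F hF A).hom G
  have h2 : adj₂.homEquiv _ _ ((Φ.sheafFiberComapIso F hF A).hom.app G) = adj₁.unit.app G :=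
    (adj₂.homEquiv_unit _ _ _).trans (h1.symm.trans (Category.comp_id _))
  have h3 := (Φ.comap F hF).skyscraperPresheafHomEquiv_app_π (P := G.obj)
    ((Φ.sheafFiberComapIso F hF A).hom.app G) U t
  have h4 := Φ.skyscraperPresheafHomEquiv_app_π
    (P := ((F.sheafPullback A J K).obj G).obj) (𝟙 _) (F.obj U) t
  rw [Category.comp_id] at h4
  have h5 : (adj₂.homEquiv _ _ ((Φ.sheafFiberComapIso F hF A).hom.app G)).hom =
      (Φ.comap F hF).skyscraperPresheafHomEquiv (P := G.obj)
        ((Φ.sheafFiberComapIso F hF A).hom.app G) :=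
    GrothendieckTopology.Point.skyscraperSheafAdjunction_homEquiv_apply_hom (Φ.comap F hF)
      (F := G) ((Φ.sheafFiberComapIso F hF A).hom.app G)
  refine h3.symm.trans ((((congrArg (fun k => k ≫ Pi.π _ t)
    (congrArg (fun k : G.obj ⟶ _ => k.app (op U)) h5)).symm.trans (congrArg (fun k => k ≫ Pi.π _ t)
    (congrArg (fun k : G ⟶ _ => k.hom.app (op U)) h2))).trans (Category.assoc _ _ _)).trans ?_)
  refine congrArg (_ ≫ ·) ?_
  have h6 : ((Φ.skyscraperSheafAdjunction (A := A)).unit.app
      ((F.sheafPullback A J K).obj G)).hom =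
        Φ.skyscraperPresheafHomEquiv (P := ((F.sheafPullback A J K).obj G).obj) (𝟙 _) := by
    rw [← Adjunction.homEquiv_id]
    exact GrothendieckTopology.Point.skyscraperSheafAdjunction_homEquiv_apply_hom Φ
      (F := (F.sheafPullback A J K).obj G) (𝟙 _)
  refine Eq.trans (congrArg (fun k => k ≫ Pi.π _ t) ?_) h4
  refine Eq.trans ?_ (congrArg (fun k => k.app (op (F.obj U))) h6)
  simp

omit [RepresentablyFlat F] [HasProducts.{w} A] in
lemma toPresheafFiber_hom_sheafFiber {Φ₁ Φ₂ : GrothendieckTopology.Point.{w} J} (f : Φ₁ ⟶ Φ₂)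
    (G : Sheaf J A) (U : C) (x : Φ₂.fiber.obj U) :
    Φ₂.toPresheafFiber U x G.obj ≫ f.sheafFiber.app G =
      Φ₁.toPresheafFiber U (f.hom.app U x) G.obj :=
  Φ₂.toPresheafFiber_presheafFiberDesc (P := G.obj)
    (fun X x => Φ₁.toPresheafFiber X (f.hom.app X x) G.obj)
    (fun X Y g y => by
      exact (Φ₁.toPresheafFiber_w g _ G.obj).trans
        (congrArg (fun z => Φ₁.toPresheafFiber Y z G.obj)
          (NatTrans.naturality_apply f.hom g y).symm)) U x

end general

variable {X Y : Scheme.{u}} {Ω : Type u} [Field Ω] [IsSepClosed Ω]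
  (ξ : Spec (CommRingCat.of Ω) ⟶ X) (f : X ⟶ Y)

/-- The germ of a pulled back section. -/
lemma germ_unit [EtCoh.BCCont f] (F : EtCoh.Ab Y) {U : Y.Etale}
    (t : (Scheme.pointSmallEtale (ξ ≫ f)).fiber.obj U) (s : EtCoh.sect F U) :
    germ ξ ((EtCoh.pull f).obj F) ((fiberBcIso ξ f).inv.app U t)
        (((EtCoh.pullPushAdj f).unit.app F).hom.app (op U) s) =
      (pullStalkIso ξ f).inv.app F (germ (ξ ≫ f) F t s) := by
  have h := ConcreteCategory.congr_hom (toPresheafFiber_sheafFiberComapIso_hom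
    (Scheme.pointSmallEtale ξ) (EtCoh.bc f) (EtCoh.coverPreserving_bc f) F U
    ((fiberBcIso ξ f).inv.app U t)) s
  have h2 := ConcreteCategory.congr_hom
    (toPresheafFiber_hom_sheafFiber (A := AddCommGrpCat.{u + 1}) (comapPointIso ξ f).hom F U t) s
  rw [ConcreteCategory.comp_apply] at h h2
  rw [pullStalkIso, Iso.trans_inv, NatTrans.comp_app, ConcreteCategory.comp_apply, Iso.symm_inv]
  refine h.symm.trans ?_
  exact congrArg _ h2.symm

lemma exists_fib_bc (U : Y.Etale) (t' : (Scheme.pointSmallEtale ξ).fiber.obj ((EtCoh.bc f).obj U)) :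
    ∃ t : (Scheme.pointSmallEtale (ξ ≫ f)).fiber.obj U, (fiberBcIso ξ f).inv.app U t = t' :=
  (ConcreteCategory.bijective_of_isIso ((fiberBcIso ξ f).inv.app U)).surjective t'

/-- Pullbacks of two sections agree as soon as all germs at the image points agree. -/
lemma unit_app_eq_of_germs [EtCoh.BCCont f] (F : EtCoh.Ab Y) (U : Y.Etale) (s₁ s₂ : EtCoh.sect F U)
    (h : ∀ (Ω : Type u) [Field Ω] [IsSepClosed Ω] (ξ : Spec (CommRingCat.of Ω) ⟶ X)
      (t : (Scheme.pointSmallEtale (ξ ≫ f)).fiber.obj U),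
      germ (ξ ≫ f) F t s₁ = germ (ξ ≫ f) F t s₂) :
    ((EtCoh.pullPushAdj f).unit.app F).hom.app (op U) s₁ =
      ((EtCoh.pullPushAdj f).unit.app F).hom.app (op U) s₂ := by
  refine sub_eq_zero.1 (section_eq_zero_of_germs ((EtCoh.pull f).obj F) ((EtCoh.bc f).obj U) _
    fun Ω _ _ ξ t' => ?_)
  obtain ⟨t, ht⟩ := exists_fib_bc ξ f U t'
  subst ht
  refine (map_sub _ _ _).trans (sub_eq_zero.2 ?_)
  exact (germ_unit ξ f F t s₁).trans
    (Eq.trans (congrArg _ (h Ω ξ t)) (germ_unit ξ f F t s₂).symm)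

/-- If pullbacks of two sections agree then so do their germs at image points. -/
lemma germ_eq_of_unit_app_eq [EtCoh.BCCont f] (F : EtCoh.Ab Y) (U : Y.Etale)
    (s₁ s₂ : EtCoh.sect F U)
    (h : ((EtCoh.pullPushAdj f).unit.app F).hom.app (op U) s₁ =
      ((EtCoh.pullPushAdj f).unit.app F).hom.app (op U) s₂)
    (t : (Scheme.pointSmallEtale (ξ ≫ f)).fiber.obj U) :
    germ (ξ ≫ f) F t s₁ = germ (ξ ≫ f) F t s₂ :=
  (ConcreteCategory.bijective_of_isIso ((pullStalkIso ξ f).inv.app F)).injective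
    ((germ_unit ξ f F t s₁).symm.trans
      ((congrArg (germ ξ ((EtCoh.pull f).obj F) ((fiberBcIso ξ f).inv.app U t)) h).trans
        (germ_unit ξ f F t s₂)))

end GrothLib.EtSite
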