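import Groth.Agent.Lib.EtSite.SiteNbhd
import Groth.Agent.Lib.EtSite.GermUnit

/-!
# Stalks of direct images along integral morphisms

The evaluation maps from the stalk of a direct image at `η` to the stalks at the points over `η`
are jointly injective for an integral morphism, and jointly bijective for finitely many points.
-/

universe w u

open CategoryTheory CategoryTheory.Limits AlgebraicGeometry Opposite

namespace GrothLib.EtSite

variable {X Y : Scheme.{u}} (f : X ⟶ Y) {Ω : Type u} [Field Ω] [IsSepClosed Ω]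
  {η : Spec (CommRingCat.of Ω) ⟶ Y}

lemma fiberBcIso_inv_eq_liftPt {U : Y.Etale} (ξ : Spec (CommRingCat.of Ω) ⟶ X)
    (t : (Scheme.pointSmallEtale (ξ ≫ f)).fiber.obj U) :
    (fiberBcIso ξ f).inv.app U t = liftPt f t ξ rfl := rfl

/-- The germ of a pulled back section, for sheaves of sets. -/
lemma germ_unitSh (ξ : Spec (CommRingCat.of Ω) ⟶ X) (F : EtDesc.Sh Y) {U : Y.Etale}
    (t : (Scheme.pointSmallEtale (ξ ≫ f)).fiber.obj U) (s : EtDesc.sect F U) :
    (Scheme.pointSmallEtale ξ).toPresheafFiber ((EtCoh.bc f).obj U) ((fiberBcIso ξ f).inv.app U t)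
        ((EtDesc.pullSh f).obj F).obj (((EtDesc.adjSh f).unit.app F).hom.app (op U) s) =
      (pullStalkShIso ξ f).inv.app F
        ((Scheme.pointSmallEtale (ξ ≫ f)).toPresheafFiber U t F.obj s) := by
  have h := ConcreteCategory.congr_hom (toPresheafFiber_sheafFiberComapIso_hom
    (Scheme.pointSmallEtale ξ) (EtCoh.bc f) (EtCoh.coverPreserving_bc f) F U
    ((fiberBcIso ξ f).inv.app U t)) s
  have h2 := ConcreteCategory.congr_hom
    (toPresheafFiber_hom_sheafFiber (A := Type (u + 1)) (comapPointIso ξ f).hom F U t) s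
  rw [ConcreteCategory.comp_apply] at h h2
  rw [pullStalkShIso, Iso.trans_inv, NatTrans.comp_app, ConcreteCategory.comp_apply, Iso.symm_inv]
  refine h.symm.trans ?_
  exact congrArg _ h2.symm

/-- Evaluation of the stalk of a direct image at a point over `η`. -/
noncomputable def ev [EtCoh.BCCont f] (ξ : Spec (CommRingCat.of Ω) ⟶ X) (hξ : ξ ≫ f = η)
    (G : EtCoh.Ab X) :
    (EtCoh.stalk η).obj ((EtCoh.push f).obj G) ⟶ (EtCoh.stalk ξ).obj G :=
  eqToHom (by rw [hξ]) ≫ (pullStalkIso ξ f).inv.app ((EtCoh.push f).obj G) ≫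
    (EtCoh.stalk ξ).map ((EtCoh.pullPushAdj f).counit.app G)

lemma ev_germ [EtCoh.BCCont f] (ξ : Spec (CommRingCat.of Ω) ⟶ X) (hξ : ξ ≫ f = η)
    (G : EtCoh.Ab X) {U : Y.Etale} (t : (Scheme.pointSmallEtale η).fiber.obj U)
    (s : EtCoh.sect G ((EtCoh.bc f).obj U)) :
    ev f ξ hξ G (germ η ((EtCoh.push f).obj G) t s) = germ ξ G (liftPt f t ξ hξ) s := by
  subst hξ
  have h1 := germ_unit ξ f ((EtCoh.push f).obj G) t s
  rw [fiberBcIso_inv_eq_liftPt] at h1
  have h2 := congrArg (fun k : (EtCoh.push f).obj G ⟶ _ => k.hom.app (op U) s)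
    ((EtCoh.pullPushAdj f).right_triangle_components G)
  simp only [ev, eqToHom_refl, Category.id_comp, ConcreteCategory.comp_apply]
  refine (congrArg _ h1.symm).trans ((stalk_map_germ ξ _ _ _).trans ?_)
  exact congrArg (germ ξ G (liftPt f t ξ rfl)) h2

/-- Evaluation of the stalk of a direct image of a sheaf of sets at a point over `η`. -/
noncomputable def evSh (ξ : Spec (CommRingCat.of Ω) ⟶ X) (hξ : ξ ≫ f = η) (G : EtDesc.Sh X) :
    (stalkSh η).obj ((EtDesc.pushSh f).obj G) ⟶ (stalkSh ξ).obj G :=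
  eqToHom (by rw [hξ]) ≫ (pullStalkShIso ξ f).inv.app ((EtDesc.pushSh f).obj G) ≫
    (stalkSh ξ).map ((EtDesc.adjSh f).counit.app G)

lemma evSh_germ (ξ : Spec (CommRingCat.of Ω) ⟶ X) (hξ : ξ ≫ f = η)
    (G : EtDesc.Sh X) {U : Y.Etale} (t : (Scheme.pointSmallEtale η).fiber.obj U)
    (s : EtDesc.sect G ((EtCoh.bc f).obj U)) :
    evSh f ξ hξ G ((Scheme.pointSmallEtale η).toPresheafFiber U t ((EtDesc.pushSh f).obj G).obj s) =
      (Scheme.pointSmallEtale ξ).toPresheafFiber _ (liftPt f t ξ hξ) G.obj s := by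
  subst hξ
  have h1 := germ_unitSh f ξ ((EtDesc.pushSh f).obj G) t s
  rw [fiberBcIso_inv_eq_liftPt] at h1
  have h2 := congrArg (fun k : (EtDesc.pushSh f).obj G ⟶ _ => k.hom.app (op U) s)
    ((EtDesc.adjSh f).right_triangle_components G)
  simp only [evSh, eqToHom_refl, Category.id_comp, ConcreteCategory.comp_apply]
  refine (congrArg _ h1.symm).trans
    (((Scheme.pointSmallEtale ξ).toPresheafFiber_naturality_apply _ _ _ _).trans ?_)
  exact congrArg ((Scheme.pointSmallEtale ξ).toPresheafFiber _ (liftPt f t ξ rfl) G.obj) h2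

lemma evSh_naturality (ξ : Spec (CommRingCat.of Ω) ⟶ X) (hξ : ξ ≫ f = η) {G G' : EtDesc.Sh X}
    (a : G ⟶ G') (x : (stalkSh η).obj ((EtDesc.pushSh f).obj G)) :
    evSh f ξ hξ G' ((stalkSh η).map ((EtDesc.pushSh f).map a) x) =
      (stalkSh ξ).map a (evSh f ξ hξ G x) := by
  obtain ⟨U, t, s, rfl⟩ := (Scheme.pointSmallEtale η).toPresheafFiber_jointly_surjective
    (P := ((EtDesc.pushSh f).obj G).obj) x
  refine (congrArg (evSh f ξ hξ G')
    ((Scheme.pointSmallEtale η).toPresheafFiber_naturality_apply _ U t s)).trans ?_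
  refine (evSh_germ f ξ hξ G' t _).trans ?_
  refine Eq.trans ?_ (congrArg ((stalkSh ξ).map a) (evSh_germ f ξ hξ G t s)).symm
  exact ((Scheme.pointSmallEtale ξ).toPresheafFiber_naturality_apply a.hom _ _ _).symm

section injective

variable [IsAlgClosed Ω] [IsIntegralHom f]

/-- The evaluations at the points over `η` are jointly injective. -/
theorem ev_jointly_injective [EtCoh.BCCont f] (G : EtCoh.Ab X)
    (p p' : (EtCoh.stalk η).obj ((EtCoh.push f).obj G))
    (h : ∀ ξ hξ, ev f ξ hξ G p = ev f ξ hξ G p') : p = p' := by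
  rw [← sub_eq_zero]
  obtain ⟨U, t, s, hs⟩ := exists_germ η _ (p - p')
  rw [← hs]
  obtain ⟨V, e, v, hv, he⟩ := exists_nbhd_eq f
    (P := G.obj ⋙ forget AddCommGrpCat.{u + 1})
    ((isSheaf_iff_isSheaf_of_type _ _).1
      ((sheafCompose X.smallEtaleTopology (forget AddCommGrpCat.{u + 1})).obj G).property)
    t s (0 : G.obj.obj (op ((EtCoh.bc f).obj U))) (fun ξ hξ => by
      have h0 : germ ξ G (liftPt f t ξ hξ) s = 0 := by
        rw [← ev_germ f ξ hξ G t s, hs, map_sub, h ξ hξ, sub_self]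
      exact (germ_eq_iff ξ G _ _ _).1 (h0.trans (map_zero _).symm))
  rw [← hv, ← germ_map]
  refine (congrArg (germ η ((EtCoh.push f).obj G) v) ?_).trans (map_zero _)
  exact he.trans (map_zero (G.obj.map ((EtCoh.bc f).map e).op).hom)

/-- The evaluations at the points over `η` are jointly injective, for sheaves of sets. -/
theorem evSh_jointly_injective (G : EtDesc.Sh X)
    (p p' : (stalkSh η).obj ((EtDesc.pushSh f).obj G))
    (h : ∀ ξ hξ, evSh f ξ hξ G p = evSh f ξ hξ G p') : p = p' := by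
  let Φ := Scheme.pointSmallEtale η
  obtain ⟨U₁, t₁, s₁, rfl⟩ := Φ.toPresheafFiber_jointly_surjective
    (P := ((EtDesc.pushSh f).obj G).obj) p
  obtain ⟨U₂, t₂, s₂, rfl⟩ := Φ.toPresheafFiber_jointly_surjective
    (P := ((EtDesc.pushSh f).obj G).obj) p'
  obtain ⟨⟨U, t⟩, ⟨k, hk⟩, ⟨g, hg⟩, -⟩ :=
    IsCofilteredOrEmpty.cone_objs (C := Φ.fiber.Elements) ⟨U₁, t₁⟩ ⟨U₂, t₂⟩
  dsimp only at k g hk hg
  rw [← hk, ← hg] at h ⊢
  simp only [← Φ.toPresheafFiber_w_apply] at h ⊢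
  obtain ⟨V, e, v, hv, he⟩ := exists_nbhd_eq f ((isSheaf_iff_isSheaf_of_type _ _).1 G.property)
    t _ _ (fun ξ hξ => ((Scheme.pointSmallEtale ξ).toPresheafFiber_eq_iff' (P := G.obj) _ _ _ _).1
      ((evSh_germ f ξ hξ G t _).symm.trans ((h ξ hξ).trans (evSh_germ f ξ hξ G t _))))
  refine (Φ.toPresheafFiber_eq_iff' (P := ((EtDesc.pushSh f).obj G).obj) U t _ _).2
    ⟨V, e, v, hv, he⟩

/-- Prescribed germs at all of finitely many points over `η` come from a neighbourhood of `η`. -/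
theorem exists_glue_stalks {P : X.Etaleᵒᵖ ⥤ Type w}
    (hP : Presieve.IsSheaf X.smallEtaleTopology P)
    [Finite {ξ : Spec (CommRingCat.of Ω) ⟶ X // ξ ≫ f = η}]
    (W : {ξ : Spec (CommRingCat.of Ω) ⟶ X // ξ ≫ f = η} → X.Etale)
    (w : ∀ ξ, (Scheme.pointSmallEtale ξ.1).fiber.obj (W ξ)) (s : ∀ ξ, P.obj (op (W ξ))) :
    ∃ (V : Y.Etale) (v : (Scheme.pointSmallEtale η).fiber.obj V)
      (z : P.obj (op ((EtCoh.bc f).obj V))),
      ∀ ξ : {ξ : Spec (CommRingCat.of Ω) ⟶ X // ξ ≫ f = η},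
        ∃ (T : X.Etale) (a : T ⟶ (EtCoh.bc f).obj V) (b : T ⟶ W ξ)
          (p : (Scheme.pointSmallEtale ξ.1).fiber.obj T),
          (Scheme.pointSmallEtale ξ.1).fiber.map a p = liftPt f v ξ.1 ξ.2 ∧
            (Scheme.pointSmallEtale ξ.1).fiber.map b p = w ξ ∧ P.map a.op z = P.map b.op (s ξ) := by
  let t : (Scheme.pointSmallEtale η).fiber.obj (EtCoh.top Y) :=
    fib η (U := EtCoh.top Y) η (Category.comp_id _)
  let g : ∀ ξ, W ξ ⟶ (EtCoh.bc f).obj (EtCoh.top Y) := fun ξ =>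
    MorphismProperty.Over.homMk (pullback.lift ((W ξ).hom ≫ f) (W ξ).hom (Category.comp_id _))
      (pullback.lift_snd _ _ _)
  have hω : ∀ ξ, (Scheme.pointSmallEtale ξ.1).fiber.map (g ξ) (w ξ) = liftPt f t ξ.1 ξ.2 := fun ξ => by
    apply Over.OverMorphism.ext
    apply pullback.hom_ext
    · refine ((Category.assoc _ _ _).trans (congrArg (_ ≫ ·) (pullback.lift_fst _ _ _))).trans ?_
      refine ((Category.assoc _ _ _).symm.trans (congrArg (· ≫ f) (Over.w (w ξ)))).trans ?_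
      exact ξ.2.trans (pullback.lift_fst _ _ _).symm
    · refine ((Category.assoc _ _ _).trans (congrArg (_ ≫ ·) (pullback.lift_snd _ _ _))).trans ?_
      exact (Over.w (w ξ)).trans (pullback.lift_snd _ _ _).symm
  obtain ⟨V, e, v, O, k, -, hdisj, hsup, hk, hp⟩ := exists_site_nbhd f (EtCoh.top Y) t W g
    (fun x hx => by
      obtain ⟨ξ, hξ, hx'⟩ := exists_liftPt f t x hx
      exact ⟨⟨ξ, hξ⟩, (w ⟨ξ, hξ⟩).left.base (default : Spec (CommRingCat.of Ω)),
        (base_fiber_map ξ (g ⟨ξ, hξ⟩) (w ⟨ξ, hξ⟩) _ (hω ⟨ξ, hξ⟩)).trans hx'⟩)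
    (fun ξ => ξ.1) (fun ξ => ξ.2) Subtype.val_injective id w hω
  obtain ⟨z, hz, -⟩ := existsUnique_glue hP _ O hdisj hsup fun ξ => P.map (k ξ).op (s ξ)
  refine ⟨V, v, z, fun ξ => ?_⟩
  obtain ⟨p, hp1, hp2⟩ := hp ξ
  exact ⟨_, opensHom _ (O ξ), k ξ, p, hp1, hp2, hz ξ⟩

/-- For finitely many points over `η` the evaluations are jointly bijective. -/
theorem ev_bijective [EtCoh.BCCont f] (G : EtCoh.Ab X)
    [Finite {ξ : Spec (CommRingCat.of Ω) ⟶ X // ξ ≫ f = η}] :
    Function.Bijective fun (p : (EtCoh.stalk η).obj ((EtCoh.push f).obj G))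
      (ξ : {ξ : Spec (CommRingCat.of Ω) ⟶ X // ξ ≫ f = η}) => ev f ξ.1 ξ.2 G p := by
  refine ⟨fun p p' h => ev_jointly_injective f G p p' fun ξ hξ => congrFun h ⟨ξ, hξ⟩, fun q => ?_⟩
  choose W w s hs using fun ξ : {ξ : Spec (CommRingCat.of Ω) ⟶ X // ξ ≫ f = η} =>
    exists_germ ξ.1 G (q ξ)
  obtain ⟨V, v, z, hz⟩ := exists_glue_stalks f (P := G.obj ⋙ forget AddCommGrpCat.{u + 1})
    ((isSheaf_iff_isSheaf_of_type _ _).1
      ((sheafCompose X.smallEtaleTopology (forget AddCommGrpCat.{u + 1})).obj G).property) W w s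
  refine ⟨germ η ((EtCoh.push f).obj G) v z, funext fun ξ => ?_⟩
  obtain ⟨T, a, b, p, ha, hb, hab⟩ := hz ξ
  refine (ev_germ f ξ.1 ξ.2 G v z).trans ?_
  rw [← hs ξ, ← ha, ← hb, ← germ_map, ← germ_map]
  exact congrArg (germ ξ.1 G p) hab

/-- For finitely many points over `η` the evaluations are jointly bijective, for sheaves of
sets. -/
theorem evSh_bijective (G : EtDesc.Sh X)
    [Finite {ξ : Spec (CommRingCat.of Ω) ⟶ X // ξ ≫ f = η}] :
    Function.Bijective fun (p : (stalkSh η).obj ((EtDesc.pushSh f).obj G))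
      (ξ : {ξ : Spec (CommRingCat.of Ω) ⟶ X // ξ ≫ f = η}) => evSh f ξ.1 ξ.2 G p := by
  refine ⟨fun p p' h => evSh_jointly_injective f G p p' fun ξ hξ => congrFun h ⟨ξ, hξ⟩, fun q => ?_⟩
  choose W w s hs using fun ξ : {ξ : Spec (CommRingCat.of Ω) ⟶ X // ξ ≫ f = η} =>
    (Scheme.pointSmallEtale ξ.1).toPresheafFiber_jointly_surjective (P := G.obj) (q ξ)
  obtain ⟨V, v, z, hz⟩ := exists_glue_stalks f ((isSheaf_iff_isSheaf_of_type _ _).1 G.property) W w s
  refine ⟨(Scheme.pointSmallEtale η).toPresheafFiber V v ((EtDesc.pushSh f).obj G).obj z,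
    funext fun ξ => ?_⟩
  obtain ⟨T, a, b, p, ha, hb, hab⟩ := hz ξ
  refine (evSh_germ f ξ.1 ξ.2 G v z).trans ?_
  rw [← hs ξ, ← ha, ← hb, ← (Scheme.pointSmallEtale ξ.1).toPresheafFiber_w_apply,
    ← (Scheme.pointSmallEtale ξ.1).toPresheafFiber_w_apply]
  exact congrArg _ hab

end injective

/-- Over a finite morphism there are finitely many points over a geometric point. -/
theorem finite_points_over [IsFinite f] (η : Spec (CommRingCat.of Ω) ⟶ Y) :
    Finite {ξ : Spec (CommRingCat.of Ω) ⟶ X // ξ ≫ f = η} := by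
  let Q := pullback f η
  have : IsFinite (pullback.snd f η) := MorphismProperty.pullback_snd f η ‹_›
  have : IsAffine Q := isAffine_of_isAffineHom (pullback.snd f η)
  obtain ⟨φ, hφ⟩ := Spec.map_surjective (Q.isoSpec.inv ≫ pullback.snd f η)
  have hfin : φ.hom.Finite := by
    rw [← IsFinite.SpecMap_iff, hφ]
    infer_instance
  let _ : Algebra Ω Γ(Q, ⊤) := φ.hom.toAlgebra
  have : Module.Finite Ω Γ(Q, ⊤) := hfin
  refine Finite.of_surjective (α := Γ(Q, ⊤) →ₐ[Ω] Ω) (fun ψ => ⟨Spec.map (CommRingCat.ofHom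
    ψ.toRingHom) ≫ Q.isoSpec.inv ≫ pullback.fst f η, ?_⟩) fun ξ => ?_
  · simp only [Category.assoc]
    rw [pullback.condition, ← Category.assoc Q.isoSpec.inv, ← hφ, ← Spec.map_comp_assoc,
      show φ ≫ CommRingCat.ofHom ψ.toRingHom = 𝟙 _ from
        CommRingCat.hom_ext (RingHom.ext ψ.commutes), Spec.map_id, Category.id_comp]
  · let q : Spec (CommRingCat.of Ω) ⟶ Q := pullback.lift ξ.1 (𝟙 _) (by simp [ξ.2])
    obtain ⟨ψ, hψ⟩ := Spec.map_surjective (q ≫ Q.isoSpec.hom)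
    have hc : φ ≫ ψ = 𝟙 _ := by
      apply Spec.map_injective
      rw [Spec.map_comp, hψ, hφ, Spec.map_id]
      simp [q]
      exact pullback.lift_snd _ _ _
    refine ⟨⟨ψ.hom, fun a => congrArg (fun m : CommRingCat.of Ω ⟶ _ => m.hom a) hc⟩,
      Subtype.ext ?_⟩
    change Spec.map ψ ≫ Q.isoSpec.inv ≫ pullback.fst f η = ξ.1
    rw [hψ, Category.assoc, Iso.hom_inv_id_assoc, pullback.lift_fst]

end GrothLib.EtSite
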