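import Groth.Agent.Lib.EtSite.PushStalk
import Groth.Prelude.Def_EtBCD

/-!
# The degree zero base change map on germs
-/

universe u

open CategoryTheory CategoryTheory.Limits AlgebraicGeometry Opposite

namespace GrothLib.EtSite

variable {X Y X' Y' : Scheme.{u}} (f : X ⟶ Y) (g : Y' ⟶ Y) (f' : X' ⟶ Y') (g' : X' ⟶ X)
  (w : g' ≫ f = f' ≫ g)

/-- The comparison `(U ×_Y Y') ×_Y' X' ⟶ (U ×_Y X) ×_X X'`. -/
noncomputable def bcθ (U : Y.Etale) :
    (EtCoh.bc f').obj ((EtCoh.bc g).obj U) ⟶ (EtCoh.bc g').obj ((EtCoh.bc f).obj U) :=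
  ((MorphismProperty.Over.pullbackComp (P := EtCoh.etaleMP) (Q := ⊤) f' g).inv.app U) ≫
    ((MorphismProperty.Over.pullbackCongr (P := EtCoh.etaleMP) (Q := ⊤) w).inv.app U) ≫
      ((MorphismProperty.Over.pullbackComp (P := EtCoh.etaleMP) (Q := ⊤) g' f).hom.app U)

lemma bcθ_left_fst_fst (U : Y.Etale) :
    (bcθ f g f' g' w U).left ≫ pullback.fst ((EtCoh.bc f).obj U).hom g' ≫ pullback.fst U.hom f =
      pullback.fst ((EtCoh.bc g).obj U).hom f' ≫ pullback.fst U.hom g := by
  have h1 := MorphismProperty.Over.pullbackComp_left_fst_fst (P := EtCoh.etaleMP) (Q := ⊤) g' f U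
  have h2 := MorphismProperty.Over.pullbackComp_left_fst_fst (P := EtCoh.etaleMP) (Q := ⊤) f' g U
  have h3 := MorphismProperty.Over.pullbackCongr_hom_app_left_fst (P := EtCoh.etaleMP) (Q := ⊤) w U
  let a := ((MorphismProperty.Over.pullbackComp (P := EtCoh.etaleMP) (Q := ⊤) f' g).inv.app U).left
  let a' := ((MorphismProperty.Over.pullbackComp (P := EtCoh.etaleMP) (Q := ⊤) f' g).hom.app U).left
  let b := ((MorphismProperty.Over.pullbackCongr (P := EtCoh.etaleMP) (Q := ⊤) w).inv.app U).left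
  let b' := ((MorphismProperty.Over.pullbackCongr (P := EtCoh.etaleMP) (Q := ⊤) w).hom.app U).left
  let c := ((MorphismProperty.Over.pullbackComp (P := EtCoh.etaleMP) (Q := ⊤) g' f).hom.app U).left
  have ha : a ≫ a' = 𝟙 _ := congrArg
    (fun k : (EtCoh.bc f').obj ((EtCoh.bc g).obj U) ⟶ (EtCoh.bc f').obj ((EtCoh.bc g).obj U) => k.left)
    ((MorphismProperty.Over.pullbackComp (P := EtCoh.etaleMP) (Q := ⊤) f' g).inv_hom_id_app U)
  have hb : b ≫ b' = 𝟙 _ := congrArg
    (fun k : (EtCoh.bc (f' ≫ g)).obj U ⟶ (EtCoh.bc (f' ≫ g)).obj U => k.left)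
    ((MorphismProperty.Over.pullbackCongr (P := EtCoh.etaleMP) (Q := ⊤) w).inv_hom_id_app U)
  change (a ≫ b ≫ c) ≫ _ = _
  have hm : (b ≫ c) ≫ pullback.fst ((EtCoh.bc f).obj U).hom g' ≫ pullback.fst U.hom f =
      pullback.fst U.hom (f' ≫ g) := by
    refine (Category.assoc _ _ _).trans ((congrArg (b ≫ ·) h1).trans ?_)
    refine (congrArg (b ≫ ·) h3.symm).trans ?_
    exact ((Category.assoc _ _ _).symm.trans (congrArg (· ≫ _) hb)).trans (Category.id_comp _)
  refine (Category.assoc _ _ _).trans ((congrArg (a ≫ ·) hm).trans ?_)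
  refine (congrArg (a ≫ ·) h2.symm).trans ?_
  exact ((Category.assoc _ _ _).symm.trans (congrArg (· ≫ _) ha)).trans (Category.id_comp _)

/-- The base change map on sections. -/
lemma baseChange0_app_unit (F : EtCoh.Ab X) (U : Y.Etale)
    (s : EtCoh.sect F ((EtCoh.bc f).obj U)) :
    (EtCoh.baseChange0 f g f' g' w F).hom.app (op ((EtCoh.bc g).obj U))
        (((EtCoh.pullPushAdj g).unit.app ((EtCoh.push f).obj F)).hom.app (op U) s) =
      ((EtCoh.pull g').obj F).obj.map (bcθ f g f' g' w U).op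
        (((EtCoh.pullPushAdj g').unit.app F).hom.app (op ((EtCoh.bc f).obj U)) s) := by
  have h := congrArg (fun k : (EtCoh.push f).obj F ⟶ _ => k.hom.app (op U) s)
    (((EtCoh.pullPushAdj g).homEquiv_unit _ _ (EtCoh.baseChange0 f g f' g' w F)).symm.trans
      (((EtCoh.pullPushAdj g).homEquiv _ _).apply_symm_apply _))
  refine h.trans ?_
  rw [bcθ, op_comp, op_comp, Functor.map_comp, Functor.map_comp, ConcreteCategory.comp_apply,
    ConcreteCategory.comp_apply]
  rfl

/-- The base change map on sections, for sheaves of sets. -/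
lemma baseChange0Sh_app_unit (F : EtDesc.Sh X) (U : Y.Etale)
    (s : EtDesc.sect F ((EtCoh.bc f).obj U)) :
    (EtBC.baseChange0Sh f g f' g' w F).hom.app (op ((EtCoh.bc g).obj U))
        (((EtDesc.adjSh g).unit.app ((EtDesc.pushSh f).obj F)).hom.app (op U) s) =
      ((EtDesc.pullSh g').obj F).obj.map (bcθ f g f' g' w U).op
        (((EtDesc.adjSh g').unit.app F).hom.app (op ((EtCoh.bc f).obj U)) s) := by
  have h := congrArg (fun k : (EtDesc.pushSh f).obj F ⟶ _ => k.hom.app (op U) s)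
    (((EtDesc.adjSh g).homEquiv_unit _ _ (EtBC.baseChange0Sh f g f' g' w F)).symm.trans
      (((EtDesc.adjSh g).homEquiv _ _).apply_symm_apply _))
  refine h.trans ?_
  rw [bcθ, op_comp, op_comp, Functor.map_comp, Functor.map_comp, ConcreteCategory.comp_apply,
    ConcreteCategory.comp_apply]
  rfl

variable {Ω : Type u} [Field Ω] [IsSepClosed Ω] {η' : Spec (CommRingCat.of Ω) ⟶ Y'}
  {η : Spec (CommRingCat.of Ω) ⟶ Y} (hη : η' ≫ g = η) {ξ' : Spec (CommRingCat.of Ω) ⟶ X'}
  (hξ' : ξ' ≫ f' = η') {ξ : Spec (CommRingCat.of Ω) ⟶ X} (hξg : ξ' ≫ g' = ξ) (hξ : ξ ≫ f = η)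

lemma map_bcθ_liftPt {U : Y.Etale} (t : (Scheme.pointSmallEtale η).fiber.obj U) :
    (Scheme.pointSmallEtale ξ').fiber.map (bcθ f g f' g' w U)
        (liftPt f' (liftPt g t η' hη) ξ' hξ') =
      liftPt g' (liftPt f t ξ hξ) ξ' hξg := by
  apply Over.OverMorphism.ext
  let a := ((Scheme.pointSmallEtale ξ').fiber.map (bcθ f g f' g' w U)
      (liftPt f' (liftPt g t η' hη) ξ' hξ')).left
  let b := (liftPt g' (liftPt f t ξ hξ) ξ' hξg).left
  have ha : a ≫ pullback.snd ((EtCoh.bc f).obj U).hom g' = ξ' :=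
    Over.w ((Scheme.pointSmallEtale ξ').fiber.map (bcθ f g f' g' w U)
      (liftPt f' (liftPt g t η' hη) ξ' hξ'))
  have hb : b ≫ pullback.snd ((EtCoh.bc f).obj U).hom g' = ξ' := pullback.lift_snd _ _ _
  change a = b
  apply pullback.hom_ext
  · apply pullback.hom_ext
    · refine (Category.assoc _ _ _).trans ?_
      have h1 : a ≫ pullback.fst ((EtCoh.bc f).obj U).hom g' ≫ pullback.fst U.hom f = t.left := by
        refine (Category.assoc _ _ _).trans ((congrArg (_ ≫ ·) (bcθ_left_fst_fst f g f' g' w U)).trans ?_)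
        exact (pullback.lift_fst_assoc _ _ _ _).trans (pullback.lift_fst _ _ _)
      refine h1.trans ?_
      refine Eq.trans ?_ (Category.assoc _ _ _).symm
      exact ((pullback.lift_fst_assoc _ _ _ _).trans (pullback.lift_fst _ _ _)).symm
    · refine (Category.assoc _ _ _).trans ?_
      refine Eq.trans ?_ (Category.assoc _ _ _).symm
      refine (congrArg (a ≫ ·) pullback.condition).trans ?_
      refine Eq.trans ?_ (congrArg (b ≫ ·) pullback.condition).symm
      exact ((Category.assoc _ _ _).symm.trans (congrArg (· ≫ g') (ha.trans hb.symm))).trans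
        (Category.assoc _ _ _)
  · exact ha.trans hb.symm

/-- The germ formula for the base change map. -/
lemma ev_baseChange0 (F : EtCoh.Ab X) {U : Y.Etale} (t : (Scheme.pointSmallEtale η).fiber.obj U)
    (s : EtCoh.sect F ((EtCoh.bc f).obj U)) :
    ev f' ξ' hξ' ((EtCoh.pull g').obj F)
        ((EtCoh.stalk η').map (EtCoh.baseChange0 f g f' g' w F)
          (germ η' ((EtCoh.pull g).obj ((EtCoh.push f).obj F)) (liftPt g t η' hη)
            (((EtCoh.pullPushAdj g).unit.app ((EtCoh.push f).obj F)).hom.app (op U) s))) =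
      germ ξ' ((EtCoh.pull g').obj F) (liftPt g' (liftPt f t ξ hξ) ξ' hξg)
        (((EtCoh.pullPushAdj g').unit.app F).hom.app (op ((EtCoh.bc f).obj U)) s) := by
  refine (congrArg (ev f' ξ' hξ' _) (stalk_map_germ η' _ _ _)).trans ?_
  refine (congrArg (fun z => ev f' ξ' hξ' _ (germ η' _ (liftPt g t η' hη) z))
    (baseChange0_app_unit f g f' g' w F U s)).trans ?_
  refine (ev_germ f' ξ' hξ' _ _ _).trans ?_
  rw [germ_map, map_bcθ_liftPt f g f' g' w hη hξ' hξg hξ t]

/-- The germ formula for the base change map, for sheaves of sets. -/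
lemma evSh_baseChange0 (F : EtDesc.Sh X) {U : Y.Etale}
    (t : (Scheme.pointSmallEtale η).fiber.obj U) (s : EtDesc.sect F ((EtCoh.bc f).obj U)) :
    evSh f' ξ' hξ' ((EtDesc.pullSh g').obj F)
        ((stalkSh η').map (EtBC.baseChange0Sh f g f' g' w F)
          ((Scheme.pointSmallEtale η').toPresheafFiber _ (liftPt g t η' hη)
            ((EtDesc.pullSh g).obj ((EtDesc.pushSh f).obj F)).obj
            (((EtDesc.adjSh g).unit.app ((EtDesc.pushSh f).obj F)).hom.app (op U) s))) =
      (Scheme.pointSmallEtale ξ').toPresheafFiber _ (liftPt g' (liftPt f t ξ hξ) ξ' hξg)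
        ((EtDesc.pullSh g').obj F).obj
        (((EtDesc.adjSh g').unit.app F).hom.app (op ((EtCoh.bc f).obj U)) s) := by
  refine (congrArg (evSh f' ξ' hξ' _)
    ((Scheme.pointSmallEtale η').toPresheafFiber_naturality_apply _ _ _ _)).trans ?_
  refine (congrArg (fun z => evSh f' ξ' hξ' _
    ((Scheme.pointSmallEtale η').toPresheafFiber _ (liftPt g t η' hη)
      ((EtDesc.pushSh f').obj ((EtDesc.pullSh g').obj F)).obj z))
    (baseChange0Sh_app_unit f g f' g' w F U s)).trans ?_
  refine (evSh_germ f' ξ' hξ' _ _ _).trans ?_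
  rw [(Scheme.pointSmallEtale ξ').toPresheafFiber_w_apply,
    map_bcθ_liftPt f g f' g' w hη hξ' hξg hξ t]

end GrothLib.EtSite
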