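import Groth.Agent.Lib.EtSite.StageOpen
import Groth.Agent.Lib.EtSite.BCPoint
import Groth.Agent.Lib.EtSite.PushUI

/-!
# Base change for integral morphisms in degree zero
-/

universe w u

open CategoryTheory CategoryTheory.Limits AlgebraicGeometry Opposite

namespace GrothLib.EtSite

variable {Ω : Type u} [Field Ω] [IsAlgClosed Ω]

/-- Every point of an integral scheme over an algebraically closed field is rational. -/
lemma exists_section_point {Q : Scheme.{u}} (h : Q ⟶ Spec (CommRingCat.of Ω)) [IsIntegralHom h]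
    (z : Q) : ∃ q : Spec (CommRingCat.of Ω) ⟶ Q, q ≫ h = 𝟙 _ ∧ q.base default = z := by
  have : IsAffine Q := isAffine_of_isAffineHom h
  obtain ⟨φ, hφ⟩ := Spec.map_surjective (Q.isoSpec.inv ≫ h)
  have hint : φ.hom.IsIntegral := by
    rw [← IsIntegralHom.SpecMap_iff, hφ]
    infer_instance
  let z' : PrimeSpectrum Γ(Q, ⊤) := Q.isoSpec.hom.base z
  let _ : Algebra Ω Γ(Q, ⊤) := φ.hom.toAlgebra
  have : Algebra.IsIntegral Ω Γ(Q, ⊤) := ⟨hint⟩
  have : Algebra.IsIntegral Ω (Γ(Q, ⊤) ⧸ z'.asIdeal) := Algebra.IsIntegral.tower_top (R := Ω)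
  let e : Ω ≃+* (Γ(Q, ⊤) ⧸ z'.asIdeal) :=
    RingEquiv.ofBijective (algebraMap Ω (Γ(Q, ⊤) ⧸ z'.asIdeal))
      IsAlgClosed.algebraMap_bijective_of_isIntegral
  let ψ : Γ(Q, ⊤) ⟶ CommRingCat.of Ω :=
    CommRingCat.ofHom (e.symm.toRingHom.comp (Ideal.Quotient.mk z'.asIdeal))
  have hψ : φ ≫ ψ = 𝟙 _ := CommRingCat.hom_ext (RingHom.ext fun a => e.symm_apply_apply a)
  refine ⟨Spec.map ψ ≫ Q.isoSpec.inv, ?_, ?_⟩
  · rw [Category.assoc, ← hφ, ← Spec.map_comp, hψ, Spec.map_id]
  · have h1 : (Spec.map ψ).base default = z' := by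
      refine PrimeSpectrum.ext ?_
      refine (congrArg (Ideal.comap ψ.hom) (Ideal.eq_bot_of_prime _)).trans ?_
      ext a
      rw [Ideal.mem_comap, Ideal.mem_bot]
      exact (map_eq_zero_iff _ e.symm.injective).trans Ideal.Quotient.eq_zero_iff_mem
    rw [Scheme.Hom.comp_apply, h1]
    change Q.isoSpec.inv.base (Q.isoSpec.hom.base z) = z
    rw [← Scheme.Hom.comp_apply, Iso.hom_inv_id]
    rfl

section glue

variable {X Y : Scheme.{u}} (f : X ⟶ Y) [IsIntegralHom f] {η : Spec (CommRingCat.of Ω) ⟶ Y}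

/-- Local data at all points over `η`, subject to a condition stable under restriction, glue to a
section over a neighbourhood of `η`. -/
theorem exists_global_section {P : X.Etaleᵒᵖ ⥤ Type w}
    (hP : Presieve.IsSheaf X.smallEtaleTopology P)
    (Rel : ∀ (ξ : Spec (CommRingCat.of Ω) ⟶ X), ξ ≫ f = η → ∀ (T : X.Etale),
      (Scheme.pointSmallEtale ξ).fiber.obj T → P.obj (op T) → Prop)
    (hRel : ∀ ξ hξ (T T' : X.Etale) (b : T' ⟶ T) (p : (Scheme.pointSmallEtale ξ).fiber.obj T')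
      (s : P.obj (op T)),
      Rel ξ hξ T' p (P.map b.op s) ↔ Rel ξ hξ T ((Scheme.pointSmallEtale ξ).fiber.map b p) s)
    (hloc : ∀ (ξ₀ : Spec (CommRingCat.of Ω) ⟶ X) (hξ₀ : ξ₀ ≫ f = η),
      ∃ (V : Y.Etale) (v : (Scheme.pointSmallEtale η).fiber.obj V) (T : X.Etale)
        (b : T ⟶ (EtCoh.bc f).obj V) (s : P.obj (op T))
        (p₀ : (Scheme.pointSmallEtale ξ₀).fiber.obj T),
        (Scheme.pointSmallEtale ξ₀).fiber.map b p₀ = liftPt f v ξ₀ hξ₀ ∧
        ∀ ξ hξ (p : (Scheme.pointSmallEtale ξ).fiber.obj T),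
          (Scheme.pointSmallEtale ξ).fiber.map b p = liftPt f v ξ hξ → Rel ξ hξ T p s) :
    ∃ (V : Y.Etale) (v : (Scheme.pointSmallEtale η).fiber.obj V)
      (z : P.obj (op ((EtCoh.bc f).obj V))),
      ∀ ξ hξ, Rel ξ hξ _ (liftPt f v ξ hξ) z := by
  classical
  let Q := pullback f η
  have : IsIntegralHom (pullback.snd f η) := MorphismProperty.pullback_snd f η ‹_›
  have : IsAffine Q := isAffine_of_isAffineHom (pullback.snd f η)
  choose q hq hqx using exists_section_point (pullback.snd f η)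
  have hqξ : ∀ x, (q x ≫ pullback.fst f η) ≫ f = η := fun x => by
    rw [Category.assoc, pullback.condition, ← Category.assoc, hq, Category.id_comp]
  choose V v T b s p₀ hp₀ hs using fun x => hloc _ (hqξ x)
  let σ (x : Q) : Q ⟶ ((EtCoh.bc f).obj (V x)).left :=
    pullback.lift (pullback.snd f η ≫ (v x).left) (pullback.fst f η) (by
      refine (Category.assoc _ _ _).trans ((congrArg (_ ≫ ·) (Over.w (v x))).trans ?_)
      exact pullback.condition.symm)
  have hσ : ∀ x ξ (hξ : ξ ≫ f = η), pullback.lift ξ (𝟙 _) (hξ.trans (Category.id_comp _).symm) ≫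
      σ x = (liftPt f (v x) ξ hξ).left := fun x ξ hξ => by
    apply pullback.hom_ext
    · refine (Category.assoc _ _ _).trans ((congrArg (_ ≫ ·) (pullback.lift_fst _ _ _)).trans ?_)
      exact ((pullback.lift_snd_assoc _ _ _ _).trans (Category.id_comp _)).trans
        (pullback.lift_fst _ _ _).symm
    · refine (Category.assoc _ _ _).trans ((congrArg (_ ≫ ·) (pullback.lift_snd _ _ _)).trans ?_)
      exact (pullback.lift_fst _ _ _).trans (pullback.lift_snd _ _ _).symm
  have hbet : ∀ x, Etale (b x).left := fun x => inferInstance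
  let S (x : Q) : Set Q := Set.range (pullback.snd (b x).left (σ x)).base
  have hSopen : ∀ x, IsOpen (S x) := fun x => by
    have : Etale (pullback.snd (b x).left (σ x)) :=
      MorphismProperty.pullback_snd (b x).left (σ x) (hbet x)
    exact (pullback.snd (b x).left (σ x)).isOpenMap.isOpen_range
  have hmem : ∀ x, x ∈ S x := fun x => by
    have h := congrArg CommaMorphism.left (hp₀ x)
    have h' : (p₀ x).left ≫ (b x).left = q x ≫ σ x := by
      refine h.trans ((hσ x _ (hqξ x)).symm.trans (congrArg (· ≫ σ x) ?_))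
      apply pullback.hom_ext
      · exact pullback.lift_fst _ _ _
      · exact (pullback.lift_snd _ _ _).trans (hq x).symm
    let pl : Spec (CommRingCat.of Ω) ⟶ (T x).left := (p₀ x).left
    refine ⟨(pullback.lift pl (q x) h').base default, ?_⟩
    refine ((Scheme.Hom.comp_apply _ _ _).symm.trans ?_).trans (hqx x)
    exact congrArg (fun m : Spec (CommRingCat.of Ω) ⟶ Q => m.base default) (pullback.lift_snd _ _ _)
  obtain ⟨t, ht⟩ := isCompact_univ.elim_finite_subcover S hSopen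
    fun x _ => Set.mem_iUnion.2 ⟨x, hmem x⟩
  -- a common neighbourhood
  let Φ := Scheme.pointSmallEtale η
  obtain ⟨⟨U, tU⟩, hU⟩ := IsCofiltered.inf_objs_exists
    (t.image fun x => Functor.elementsMk Φ.fiber (V x) (v x))
  let hom (x : (t : Set Q)) : Functor.elementsMk Φ.fiber U tU ⟶ Functor.elementsMk Φ.fiber (V x) (v x) :=
    (hU (Finset.mem_image.2 ⟨x.1, x.2, rfl⟩)).some
  let e (x : (t : Set Q)) : U ⟶ V x := (hom x).val
  have he : ∀ x, Φ.fiber.map (e x) tU = v x := fun x => (hom x).property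
  have hT' : ∀ x : (t : Set Q), Etale (pullback.snd (b x).left ((EtCoh.bc f).map (e x)).left ≫
      ((EtCoh.bc f).obj U).hom) := fun x => by
    have : Etale (pullback.snd (b x).left ((EtCoh.bc f).map (e x)).left) :=
      MorphismProperty.pullback_snd _ _ (hbet x)
    have : Etale ((EtCoh.bc f).obj U).hom := ((EtCoh.bc f).obj U).prop
    infer_instance
  let T' (x : (t : Set Q)) : X.Etale :=
    haveI := hT' x
    Scheme.Etale.mk (pullback.snd (b x).left ((EtCoh.bc f).map (e x)).left ≫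
      ((EtCoh.bc f).obj U).hom)
  let b' (x : (t : Set Q)) : T' x ⟶ (EtCoh.bc f).obj U :=
    MorphismProperty.Over.homMk (pullback.snd (b x).left ((EtCoh.bc f).map (e x)).left) rfl
  let a' (x : (t : Set Q)) : T' x ⟶ T x :=
    MorphismProperty.Over.homMk (pullback.fst (b x).left ((EtCoh.bc f).map (e x)).left) (by
      refine (congrArg (_ ≫ ·) (Over.w (b x).hom).symm).trans ?_
      refine (Category.assoc _ _ _).symm.trans ((congrArg (· ≫ _) pullback.condition).trans ?_)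
      exact (Category.assoc _ _ _).trans (congrArg (_ ≫ ·) (Over.w ((EtCoh.bc f).map (e x)).hom)))
  have hsq : ∀ x, a' x ≫ b x = b' x ≫ (EtCoh.bc f).map (e x) := fun x =>
    MorphismProperty.Over.Hom.ext pullback.condition
  obtain ⟨V', e', v', O, k, hev, hdisj, hsup, hk, -⟩ := exists_site_nbhd f U tU T' b'
    (fun y hy => by
      obtain ⟨ξ, hξ, hy'⟩ := exists_liftPt f tU y hy
      let l := pullback.lift ξ (𝟙 _) (hξ.trans (Category.id_comp _).symm)
      obtain ⟨x, hxt, z, hz⟩ := Set.mem_iUnion₂.1 (ht (Set.mem_univ (l.base default)))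
      let π : Spec (CommRingCat.of Ω) ⟶ ((EtCoh.bc f).obj (V x)).left := l ≫ σ x
      have := hbet x
      obtain ⟨p, -⟩ := exists_fib π (U := Scheme.Etale.mk (b x).left)
        ((pullback.fst (b x).left (σ x)).base z) (by
          refine (Scheme.Hom.comp_apply _ _ _).symm.trans
            ((congrArg (fun m : pullback (b x).left (σ x) ⟶ ((EtCoh.bc f).obj (V x)).left => m.base z)
              pullback.condition).trans ?_)
          exact ((Scheme.Hom.comp_apply _ _ _).trans (congrArg (σ x).base hz)).trans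
            (Scheme.Hom.comp_apply _ _ _).symm)
      have hp : p.left ≫ (b x).left = π := Over.w p
      let xt : (t : Set Q) := ⟨x, hxt⟩
      have h2 : p.left ≫ (b xt).left =
          (liftPt f tU ξ hξ).left ≫ ((EtCoh.bc f).map (e xt)).left := by
        refine hp.trans ((hσ x ξ hξ).trans ?_)
        refine Eq.trans ?_ (congrArg CommaMorphism.left (map_bc_liftPt f (e xt) tU ξ hξ)).symm
        rw [he xt]
      let pl : Spec (CommRingCat.of Ω) ⟶ (T xt).left := p.left
      let lU : Spec (CommRingCat.of Ω) ⟶ ((EtCoh.bc f).obj U).left := (liftPt f tU ξ hξ).left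
      refine ⟨xt, (pullback.lift pl lU h2).base default, ?_⟩
      refine ((Scheme.Hom.comp_apply _ _ _).symm.trans ?_).trans hy'
      exact congrArg (fun m : Spec (CommRingCat.of Ω) ⟶ ((EtCoh.bc f).obj U).left => m.base default)
        (pullback.lift_snd _ _ _))
    (μ := Fin 0) (fun i => i.elim0) (fun i => i.elim0) (fun i => i.elim0) Fin.elim0
    (fun i => i.elim0) (fun i => i.elim0)
  obtain ⟨z, hz, -⟩ := existsUnique_glue hP _ O hdisj hsup
    fun i => P.map (k i).op (P.map (a' i).op (s i))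
  refine ⟨V', v', z, fun ξ hξ => ?_⟩
  let y := (liftPt f v' ξ hξ).left.base (default : Spec (CommRingCat.of Ω))
  obtain ⟨i, hi⟩ := TopologicalSpace.Opens.mem_iSup.1 (hsup ▸ trivial : y ∈ ⨆ i, O i)
  obtain ⟨p, hp⟩ : ∃ p : (Scheme.pointSmallEtale ξ).fiber.obj (opensObj _ (O i)),
      (Scheme.pointSmallEtale ξ).fiber.map (opensHom _ (O i)) p = liftPt f v' ξ hξ := by
    have hι : IsOpenImmersion (O i).ι := Scheme.Opens.instIsOpenImmersionι (O i)
    let L : Spec (CommRingCat.of Ω) ⟶ ((EtCoh.bc f).obj V').left := (liftPt f v' ξ hξ).left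
    have hr : Set.range L.base ⊆ Set.range (O i).ι.base := by
      rintro _ ⟨a, rfl⟩
      rw [Subsingleton.elim a default]
      exact ⟨⟨y, hi⟩, rfl⟩
    refine ⟨fib ξ (U := opensObj _ (O i))
      (@IsOpenImmersion.lift _ _ _ (O i).ι (liftPt f v' ξ hξ).left hι hr) ?_,
      Over.OverMorphism.ext (@IsOpenImmersion.lift_fac _ _ _ (O i).ι _ hι hr)⟩
    exact ((Category.assoc _ _ _).symm.trans (congrArg (· ≫ _)
      (@IsOpenImmersion.lift_fac _ _ _ (O i).ι _ hι hr))).trans (Over.w (liftPt f v' ξ hξ))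
  rw [← hp, ← hRel, hz i, hRel, hRel]
  refine hs i.1 ξ hξ _ ?_
  have h1 : (k i ≫ a' i) ≫ b i.1 = opensHom _ (O i) ≫ (EtCoh.bc f).map e' ≫
      (EtCoh.bc f).map (e i) := by
    rw [Category.assoc, hsq, ← Category.assoc, hk, Category.assoc]
  have h2 := congrArg (fun m => (Scheme.pointSmallEtale ξ).fiber.map m p) h1
  simp only [Functor.map_comp, ConcreteCategory.comp_apply] at h2
  rw [h2, hp, map_bc_liftPt, map_bc_liftPt, hev, he]

end glue

variable {X Y X' Y' : Scheme.{u}} {f : X ⟶ Y} [IsIntegralHom f] {g : Y' ⟶ Y} {f' : X' ⟶ Y'}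
  {g' : X' ⟶ X} (h : IsPullback g' f' f g) {η' : Spec (CommRingCat.of Ω) ⟶ Y'}

include h in
/-- An agreement of germs at one point spreads to the points of an open piece of the fibre. -/
theorem exists_open_agreement {ξ'₀ : Spec (CommRingCat.of Ω) ⟶ X'} (hξ'₀ : ξ'₀ ≫ f' = η')
    {ξ₀ : Spec (CommRingCat.of Ω) ⟶ X} (he₀ : ξ'₀ ≫ g' = ξ₀) (hξ₀ : ξ₀ ≫ f = η' ≫ g)
    {U' : Y'.Etale} (t' : (Scheme.pointSmallEtale η').fiber.obj U') {W : X.Etale}
    (w : (Scheme.pointSmallEtale ξ₀).fiber.obj W) {T' : X'.Etale}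
    (a : T' ⟶ (EtCoh.bc f').obj U') (b : T' ⟶ (EtCoh.bc g').obj W)
    (p₀ : (Scheme.pointSmallEtale ξ'₀).fiber.obj T')
    (ha : (Scheme.pointSmallEtale ξ'₀).fiber.map a p₀ = liftPt f' t' ξ'₀ hξ'₀)
    (hb : (Scheme.pointSmallEtale ξ'₀).fiber.map b p₀ = liftPt g' w ξ'₀ he₀) :
    ∃ (V : Y.Etale) (v : (Scheme.pointSmallEtale (η' ≫ g)).fiber.obj V) (T : X.Etale) (c : T ⟶ W)
      (d : T ⟶ (EtCoh.bc f).obj V) (q₀ : (Scheme.pointSmallEtale ξ₀).fiber.obj T),
      (Scheme.pointSmallEtale ξ₀).fiber.map d q₀ = liftPt f v ξ₀ hξ₀ ∧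
      ∀ ξ (hξ : ξ ≫ f = η' ≫ g) (q : (Scheme.pointSmallEtale ξ).fiber.obj T),
        (Scheme.pointSmallEtale ξ).fiber.map d q = liftPt f v ξ hξ →
        ∀ ξ' (hξ' : ξ' ≫ f' = η') (he : ξ' ≫ g' = ξ),
          ∃ p : (Scheme.pointSmallEtale ξ').fiber.obj T',
            (Scheme.pointSmallEtale ξ').fiber.map a p = liftPt f' t' ξ' hξ' ∧
            (Scheme.pointSmallEtale ξ').fiber.map b p =
              liftPt g' ((Scheme.pointSmallEtale ξ).fiber.map c q) ξ' he := by
  let A₁ := (EtCoh.bc f').obj U'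
  let A₂ := (EtCoh.bc g').obj W
  have : Etale A₁.hom := A₁.prop
  have : Etale A₂.hom := A₂.prop
  have hP : Etale (pullback.fst A₁.hom A₂.hom ≫ A₁.hom) := by
    have : Etale (pullback.fst A₁.hom A₂.hom) := MorphismProperty.pullback_fst _ _ ‹Etale A₂.hom›
    infer_instance
  let P : X'.Etale := Scheme.Etale.mk (pullback.fst A₁.hom A₂.hom ≫ A₁.hom)
  let m : T' ⟶ P := MorphismProperty.Over.homMk
    (pullback.lift a.left b.left ((Over.w a.hom).trans (Over.w b.hom).symm)) (by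
      refine (Category.assoc _ _ _).symm.trans ?_
      exact (congrArg (· ≫ A₁.hom) (pullback.lift_fst _ _ _)).trans (Over.w a.hom))
  let π₁ := pullback.fst (W.hom ≫ f) (η' ≫ g)
  let π₂ := pullback.snd (W.hom ≫ f) (η' ≫ g)
  let χ : pullback (W.hom ≫ f) (η' ≫ g) ⟶ X' := h.lift (π₁ ≫ W.hom) (π₂ ≫ η') (by
    rw [Category.assoc, Category.assoc]
    exact pullback.condition)
  let μ : pullback (W.hom ≫ f) (η' ≫ g) ⟶ P.left :=
    pullback.lift
      (pullback.lift (π₂ ≫ t'.left) χ (by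
        refine (Category.assoc _ _ _).trans ((congrArg (π₂ ≫ ·) (Over.w t')).trans ?_)
        exact (h.lift_snd _ _ _).symm))
      (pullback.lift π₁ χ (h.lift_fst _ _ _).symm)
      ((pullback.lift_snd _ _ _).trans (pullback.lift_snd _ _ _).symm)
  have hm : Etale m.left := inferInstance
  let O : (pullback (W.hom ≫ f) (η' ≫ g)).Opens :=
    μ ⁻¹ᵁ ⟨Set.range m.left.base, m.left.isOpenMap.isOpen_range⟩
  -- the two components of a point of the fibre
  have hl : ∀ ξ' (hξ' : ξ' ≫ f' = η') ξ (he : ξ' ≫ g' = ξ)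
      (w' : (Scheme.pointSmallEtale ξ).fiber.obj W)
      (l : Spec (CommRingCat.of Ω) ⟶ pullback (W.hom ≫ f) (η' ≫ g)),
      l ≫ π₁ = w'.left → l ≫ π₂ = 𝟙 _ →
      (l ≫ μ) ≫ pullback.fst A₁.hom A₂.hom = (liftPt f' t' ξ' hξ').left ∧
        (l ≫ μ) ≫ pullback.snd A₁.hom A₂.hom = (liftPt g' w' ξ' he).left := by
    intro ξ' hξ' ξ he w' l h1 h2
    have hχ : l ≫ χ = ξ' := by
      apply h.hom_ext
      · refine (Category.assoc _ _ _).trans ((congrArg (l ≫ ·) (h.lift_fst _ _ _)).trans ?_)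
        exact ((Category.assoc _ _ _).symm.trans (congrArg (· ≫ W.hom) h1)).trans
          ((Over.w w').trans he.symm)
      · refine (Category.assoc _ _ _).trans ((congrArg (l ≫ ·) (h.lift_snd _ _ _)).trans ?_)
        exact ((Category.assoc _ _ _).symm.trans (congrArg (· ≫ η') h2)).trans
          ((Category.id_comp _).trans hξ'.symm)
    constructor
    · refine (Category.assoc _ _ _).trans ((congrArg (l ≫ ·) (pullback.lift_fst _ _ _)).trans ?_)
      apply pullback.hom_ext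
      · refine (Category.assoc _ _ _).trans ((congrArg (l ≫ ·) (pullback.lift_fst _ _ _)).trans ?_)
        exact ((Category.assoc _ _ _).symm.trans (congrArg (· ≫ t'.left) h2)).trans
          ((Category.id_comp _).trans (pullback.lift_fst _ _ _).symm)
      · refine (Category.assoc _ _ _).trans ((congrArg (l ≫ ·) (pullback.lift_snd _ _ _)).trans ?_)
        exact hχ.trans (pullback.lift_snd _ _ _).symm
    · refine (Category.assoc _ _ _).trans ((congrArg (l ≫ ·) (pullback.lift_snd _ _ _)).trans ?_)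
      apply pullback.hom_ext
      · refine (Category.assoc _ _ _).trans ((congrArg (l ≫ ·) (pullback.lift_fst _ _ _)).trans ?_)
        exact h1.trans (pullback.lift_fst _ _ _).symm
      · refine (Category.assoc _ _ _).trans ((congrArg (l ≫ ·) (pullback.lift_snd _ _ _)).trans ?_)
        exact hχ.trans (pullback.lift_snd _ _ _).symm
  obtain ⟨V, v, T, c, d, q₀, hq₀, hgood⟩ := exists_stage_open f W hξ₀ w O (fun l h1 h2 => by
    let pl : Spec (CommRingCat.of Ω) ⟶ T'.left := p₀.left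
    refine ⟨pl.base default, ?_⟩
    refine ((Scheme.Hom.comp_apply _ _ _).symm.trans ?_).trans (Scheme.Hom.comp_apply _ _ _)
    refine congrArg (fun k : Spec (CommRingCat.of Ω) ⟶ P.left => k.base default)
      (?_ : pl ≫ m.left = l ≫ μ)
    obtain ⟨e1, e2⟩ := hl ξ'₀ hξ'₀ ξ₀ he₀ w l h1 h2
    apply pullback.hom_ext
    · refine (Category.assoc _ _ _).trans ((congrArg (p₀.left ≫ ·) (pullback.lift_fst _ _ _)).trans ?_)
      exact (congrArg CommaMorphism.left ha).trans e1.symm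
    · refine (Category.assoc _ _ _).trans ((congrArg (p₀.left ≫ ·) (pullback.lift_snd _ _ _)).trans ?_)
      exact (congrArg CommaMorphism.left hb).trans e2.symm)
  refine ⟨V, v, T, c, d, q₀, hq₀, fun ξ hξ q hq ξ' hξ' he => ?_⟩
  obtain ⟨l, h1, h2, u, hu⟩ := hgood ξ hξ q hq
  obtain ⟨e1, e2⟩ := hl ξ' hξ' ξ he _ l h1 h2
  have := hm
  obtain ⟨p, -⟩ := exists_fib (l ≫ μ) (U := Scheme.Etale.mk m.left) u
    (hu.trans (Scheme.Hom.comp_apply _ _ _).symm)
  have hp : p.left ≫ m.left = l ≫ μ := Over.w p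
  have hpa : p.left ≫ a.left = (liftPt f' t' ξ' hξ').left := by
    refine Eq.trans ?_ e1
    refine Eq.trans (congrArg (p.left ≫ ·) (pullback.lift_fst (f := A₁.hom) (g := A₂.hom) a.left b.left
      ((Over.w a.hom).trans (Over.w b.hom).symm)).symm) ?_
    exact (Category.assoc _ _ _).symm.trans (congrArg (· ≫ _) hp)
  have hpb : p.left ≫ b.left = (liftPt g' ((Scheme.pointSmallEtale ξ).fiber.map c q) ξ' he).left := by
    refine Eq.trans ?_ e2
    refine Eq.trans (congrArg (p.left ≫ ·) (pullback.lift_snd (f := A₁.hom) (g := A₂.hom) a.left b.left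
      ((Over.w a.hom).trans (Over.w b.hom).symm)).symm) ?_
    exact (Category.assoc _ _ _).symm.trans (congrArg (· ≫ _) hp)
  refine ⟨fib ξ' (U := T') p.left ?_, Over.OverMorphism.ext hpa, Over.OverMorphism.ext hpb⟩
  exact (congrArg (p.left ≫ ·) (Over.w a.hom).symm).trans ((Category.assoc _ _ _).symm.trans
    ((congrArg (· ≫ _) hpa).trans (Over.w (liftPt f' t' ξ' hξ'))))

omit [IsAlgClosed Ω] in
lemma germ_eq_of_unit [IsSepClosed Ω] {ξ' : Spec (CommRingCat.of Ω) ⟶ X'}
    {ξ : Spec (CommRingCat.of Ω) ⟶ X} (he : ξ' ≫ g' = ξ) (F : EtCoh.Ab X) {W : X.Etale}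
    (w : (Scheme.pointSmallEtale ξ).fiber.obj W) (s : F.obj.obj (op W))
    (h2 : germ ξ' ((EtCoh.pull g').obj F) (liftPt g' w ξ' he)
      (((EtCoh.pullPushAdj g').unit.app F).hom.app (op W) s) = 0) :
    germ ξ F w s = 0 := by
  subst he
  rw [← fiberBcIso_inv_eq_liftPt] at h2
  exact (map_eq_zero_iff _ (ConcreteCategory.bijective_of_isIso
    ((pullStalkIso ξ' g').inv.app F)).injective).1 ((germ_unit ξ' g' F w s).symm.trans h2)

omit [IsAlgClosed Ω] in
lemma exists_unit_germ [IsSepClosed Ω] {ξ' : Spec (CommRingCat.of Ω) ⟶ X'}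
    {ξ : Spec (CommRingCat.of Ω) ⟶ X} (he : ξ' ≫ g' = ξ) (F : EtCoh.Ab X)
    (a : (EtCoh.stalk ξ').obj ((EtCoh.pull g').obj F)) :
    ∃ (W : X.Etale) (w : (Scheme.pointSmallEtale ξ).fiber.obj W) (s : F.obj.obj (op W)),
      germ ξ' ((EtCoh.pull g').obj F) (liftPt g' w ξ' he)
        (((EtCoh.pullPushAdj g').unit.app F).hom.app (op W) s) = a := by
  subst he
  obtain ⟨x, rfl⟩ := (ConcreteCategory.bijective_of_isIso
    ((pullStalkIso ξ' g').inv.app F)).surjective a
  obtain ⟨W, w, s, rfl⟩ := exists_germ (ξ' ≫ g') F x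
  exact ⟨W, w, s, by rw [← fiberBcIso_inv_eq_liftPt]; exact germ_unit ξ' g' F w s⟩

omit [IsAlgClosed Ω] in
lemma germSh_eq_of_unit [IsSepClosed Ω] {ξ' : Spec (CommRingCat.of Ω) ⟶ X'}
    {ξ : Spec (CommRingCat.of Ω) ⟶ X} (he : ξ' ≫ g' = ξ) (F : EtDesc.Sh X) {W₁ W₂ : X.Etale}
    (w₁ : (Scheme.pointSmallEtale ξ).fiber.obj W₁) (s₁ : F.obj.obj (op W₁))
    (w₂ : (Scheme.pointSmallEtale ξ).fiber.obj W₂) (s₂ : F.obj.obj (op W₂))
    (h2 : (Scheme.pointSmallEtale ξ').toPresheafFiber _ (liftPt g' w₁ ξ' he)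
        ((EtDesc.pullSh g').obj F).obj (((EtDesc.adjSh g').unit.app F).hom.app (op W₁) s₁) =
      (Scheme.pointSmallEtale ξ').toPresheafFiber _ (liftPt g' w₂ ξ' he)
        ((EtDesc.pullSh g').obj F).obj (((EtDesc.adjSh g').unit.app F).hom.app (op W₂) s₂)) :
    (Scheme.pointSmallEtale ξ).toPresheafFiber W₁ w₁ F.obj s₁ =
      (Scheme.pointSmallEtale ξ).toPresheafFiber W₂ w₂ F.obj s₂ := by
  subst he
  rw [← fiberBcIso_inv_eq_liftPt, ← fiberBcIso_inv_eq_liftPt, germ_unitSh, germ_unitSh] at h2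
  exact (ConcreteCategory.bijective_of_isIso ((pullStalkShIso ξ' g').inv.app F)).injective h2

omit [IsAlgClosed Ω] in
lemma exists_unit_germSh [IsSepClosed Ω] {ξ' : Spec (CommRingCat.of Ω) ⟶ X'}
    {ξ : Spec (CommRingCat.of Ω) ⟶ X} (he : ξ' ≫ g' = ξ) (F : EtDesc.Sh X)
    (a : (stalkSh ξ').obj ((EtDesc.pullSh g').obj F)) :
    ∃ (W : X.Etale) (w : (Scheme.pointSmallEtale ξ).fiber.obj W) (s : F.obj.obj (op W)),
      (Scheme.pointSmallEtale ξ').toPresheafFiber _ (liftPt g' w ξ' he)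
        ((EtDesc.pullSh g').obj F).obj (((EtDesc.adjSh g').unit.app F).hom.app (op W) s) = a := by
  subst he
  obtain ⟨x, rfl⟩ := (ConcreteCategory.bijective_of_isIso
    ((pullStalkShIso ξ' g').inv.app F)).surjective a
  obtain ⟨W, w, s, rfl⟩ := (Scheme.pointSmallEtale (ξ' ≫ g')).toPresheafFiber_jointly_surjective
    (P := F.obj) x
  exact ⟨W, w, s, by rw [← fiberBcIso_inv_eq_liftPt]; exact germ_unitSh g' ξ' F w s⟩

include h in
/-- The base change map of abelian sheaves is bijective on stalks. -/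
theorem baseChange0_stalk_bijective (F : EtCoh.Ab X) :
    Function.Bijective ((EtCoh.stalk η').map (EtCoh.baseChange0 f g f' g' h.w F)) := by
  have : IsIntegralHom f' := MorphismProperty.of_isPullback h ‹IsIntegralHom f›
  let β := (EtCoh.stalk η').map (EtCoh.baseChange0 f g f' g' h.w F)
  let G' := (EtCoh.pull g').obj F
  let unitF := fun (W : X.Etale) (s : EtCoh.sect F W) =>
    ((EtCoh.pullPushAdj g').unit.app F).hom.app (op W) s
  refine ⟨?_, fun q => ?_⟩
  · have key : ∀ p, β ((pullStalkIso η' g).inv.app ((EtCoh.push f).obj F) p) = 0 → p = 0 := by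
      intro p hp
      refine ev_jointly_injective f F p 0 fun ξ hξ => ?_
      obtain ⟨U, t, s, rfl⟩ := exists_germ (η' ≫ g) _ p
      let ξ' := h.lift ξ η' hξ
      have hξ' : ξ' ≫ f' = η' := h.lift_snd _ _ _
      have he : ξ' ≫ g' = ξ := h.lift_fst _ _ _
      have h1 := congrArg (ev f' ξ' hξ' G') hp
      rw [map_zero, ← germ_unit η' g, fiberBcIso_inv_eq_liftPt] at h1
      rw [map_zero, ev_germ]
      have h2 := (ev_baseChange0 f g f' g' h.w rfl hξ' he hξ F t s).symm.trans h1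
      exact germ_eq_of_unit he F _ s h2
    rw [injective_iff_map_eq_zero]
    intro y hy
    obtain ⟨p, rfl⟩ := (ConcreteCategory.bijective_of_isIso
      ((pullStalkIso η' g).inv.app ((EtCoh.push f).obj F))).surjective y
    rw [key p hy, map_zero]
  obtain ⟨U', t', s', rfl⟩ := exists_germ η' _ q
  let Rel : ∀ (ξ : Spec (CommRingCat.of Ω) ⟶ X), ξ ≫ f = η' ≫ g → ∀ (T : X.Etale),
      (Scheme.pointSmallEtale ξ).fiber.obj T → F.obj.obj (op T) → Prop :=
    fun ξ _ T w s => ∀ ξ' (hξ' : ξ' ≫ f' = η') (he : ξ' ≫ g' = ξ),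
      germ ξ' G' (liftPt g' w ξ' he) (unitF T s) = germ ξ' G' (liftPt f' t' ξ' hξ') s'
  obtain ⟨V, v, z, hz⟩ := exists_global_section f (η := η' ≫ g)
    (P := F.obj ⋙ forget AddCommGrpCat.{u + 1})
    ((isSheaf_iff_isSheaf_of_type _ _).1
      ((sheafCompose X.smallEtaleTopology (forget AddCommGrpCat.{u + 1})).obj F).property)
    Rel (fun ξ hξ T T' b p s => forall_congr' fun ξ' => forall_congr' fun hξ' =>
      forall_congr' fun he => iff_of_eq (congrArg (· = _) (by
        rw [← map_bc_liftPt g' b p ξ' he, ← germ_map]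
        exact congrArg _ (NatTrans.naturality_apply ((EtCoh.pullPushAdj g').unit.app F).hom b.op s))))
    (fun ξ₀ hξ₀ => by
      let ξ'₀ := h.lift ξ₀ η' hξ₀
      have hξ'₀ : ξ'₀ ≫ f' = η' := h.lift_snd _ _ _
      have he₀ : ξ'₀ ≫ g' = ξ₀ := h.lift_fst _ _ _
      obtain ⟨W, w, s, hws⟩ : ∃ (W : X.Etale) (w : (Scheme.pointSmallEtale ξ₀).fiber.obj W)
          (s : F.obj.obj (op W)), germ ξ'₀ G' (liftPt g' w ξ'₀ he₀) (unitF W s) =
            germ ξ'₀ G' (liftPt f' t' ξ'₀ hξ'₀) s' :=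
        exists_unit_germ he₀ F _
      obtain ⟨⟨T₀, p₁⟩, ⟨a, ha⟩, ⟨b, hb⟩, -⟩ := IsCofilteredOrEmpty.cone_objs
        (C := (Scheme.pointSmallEtale ξ'₀).fiber.Elements)
        ⟨_, liftPt f' t' ξ'₀ hξ'₀⟩ ⟨_, liftPt g' w ξ'₀ he₀⟩
      dsimp only at a b ha hb
      rw [← ha, ← hb, ← germ_map, ← germ_map] at hws
      obtain ⟨T', r, p', hp', heq⟩ := (germ_eq_iff ξ'₀ G' p₁ _ _).1 hws
      obtain ⟨V, v, T, c, d, q₀, hq₀, hgood⟩ := exists_open_agreement h hξ'₀ he₀ hξ₀ t' w
        (r ≫ a) (r ≫ b) p'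
        (by rw [Functor.map_comp, ConcreteCategory.comp_apply, hp', ha])
        (by rw [Functor.map_comp, ConcreteCategory.comp_apply, hp', hb])
      refine ⟨V, v, T, d, F.obj.map c.op s, q₀, hq₀, fun ξ hξ q hq ξ' hξ' he => ?_⟩
      obtain ⟨p, hpa, hpb⟩ := hgood ξ hξ q hq ξ' hξ' he
      have hnat : unitF T (F.obj.map c.op s) = G'.obj.map ((EtCoh.bc g').map c).op (unitF W s) :=
        NatTrans.naturality_apply ((EtCoh.pullPushAdj g').unit.app F).hom c.op s
      rw [hnat, germ_map, map_bc_liftPt, ← hpa, ← hpb, ← germ_map, ← germ_map, op_comp, op_comp,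
        Functor.map_comp, Functor.map_comp, ConcreteCategory.comp_apply,
        ConcreteCategory.comp_apply, heq])
  refine ⟨germ η' _ (liftPt g v η' rfl)
    (((EtCoh.pullPushAdj g).unit.app ((EtCoh.push f).obj F)).hom.app (op V) z), ?_⟩
  refine ev_jointly_injective f' G' _ _ fun ξ' hξ' => ?_
  have hξ : (ξ' ≫ g') ≫ f = η' ≫ g := by rw [Category.assoc, h.w, ← Category.assoc, hξ']
  refine (ev_baseChange0 f g f' g' h.w rfl hξ' rfl hξ F v z).trans ?_
  exact (hz _ hξ ξ' hξ' rfl).trans (ev_germ f' ξ' hξ' G' t' s').symm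

include h in
/-- The base change map of sheaves of sets is bijective on stalks. -/
theorem baseChange0Sh_stalk_bijective (F : EtDesc.Sh X) :
    Function.Bijective ((stalkSh η').map (EtBC.baseChange0Sh f g f' g' h.w F)) := by
  have : IsIntegralHom f' := MorphismProperty.of_isPullback h ‹IsIntegralHom f›
  let β := (stalkSh η').map (EtBC.baseChange0Sh f g f' g' h.w F)
  let G' := (EtDesc.pullSh g').obj F
  let Φ := fun (ξ' : Spec (CommRingCat.of Ω) ⟶ X') => Scheme.pointSmallEtale ξ'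
  let unitF := fun (W : X.Etale) (s : EtDesc.sect F W) =>
    ((EtDesc.adjSh g').unit.app F).hom.app (op W) s
  refine ⟨fun y₁ y₂ hy => ?_, fun q => ?_⟩
  · obtain ⟨p₁, rfl⟩ := (ConcreteCategory.bijective_of_isIso
      ((pullStalkShIso η' g).inv.app ((EtDesc.pushSh f).obj F))).surjective y₁
    obtain ⟨p₂, rfl⟩ := (ConcreteCategory.bijective_of_isIso
      ((pullStalkShIso η' g).inv.app ((EtDesc.pushSh f).obj F))).surjective y₂
    refine congrArg _ (evSh_jointly_injective f F p₁ p₂ fun ξ hξ => ?_)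
    obtain ⟨U₁, t₁, s₁, rfl⟩ := (Scheme.pointSmallEtale (η' ≫ g)).toPresheafFiber_jointly_surjective
      (P := ((EtDesc.pushSh f).obj F).obj) p₁
    obtain ⟨U₂, t₂, s₂, rfl⟩ := (Scheme.pointSmallEtale (η' ≫ g)).toPresheafFiber_jointly_surjective
      (P := ((EtDesc.pushSh f).obj F).obj) p₂
    let ξ' := h.lift ξ η' hξ
    have hξ' : ξ' ≫ f' = η' := h.lift_snd _ _ _
    have he : ξ' ≫ g' = ξ := h.lift_fst _ _ _
    have h1 := congrArg (evSh f' ξ' hξ' G') hy
    rw [← germ_unitSh g η', ← germ_unitSh g η', fiberBcIso_inv_eq_liftPt,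
      fiberBcIso_inv_eq_liftPt] at h1
    have h2 := ((evSh_baseChange0 f g f' g' h.w rfl hξ' he hξ F t₁ s₁).symm.trans h1).trans
      (evSh_baseChange0 f g f' g' h.w rfl hξ' he hξ F t₂ s₂)
    refine (evSh_germ f ξ hξ F t₁ s₁).trans (Eq.trans ?_ (evSh_germ f ξ hξ F t₂ s₂).symm)
    exact germSh_eq_of_unit he F _ s₁ _ s₂ h2
  obtain ⟨U', t', s', rfl⟩ := (Scheme.pointSmallEtale η').toPresheafFiber_jointly_surjective
    (P := ((EtDesc.pushSh f').obj G').obj) q
  let Rel : ∀ (ξ : Spec (CommRingCat.of Ω) ⟶ X), ξ ≫ f = η' ≫ g → ∀ (T : X.Etale),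
      (Scheme.pointSmallEtale ξ).fiber.obj T → F.obj.obj (op T) → Prop :=
    fun ξ _ T w s => ∀ ξ' (hξ' : ξ' ≫ f' = η') (he : ξ' ≫ g' = ξ),
      (Φ ξ').toPresheafFiber _ (liftPt g' w ξ' he) G'.obj (unitF T s) =
        (Φ ξ').toPresheafFiber _ (liftPt f' t' ξ' hξ') G'.obj s'
  obtain ⟨V, v, z, hz⟩ := exists_global_section f (η := η' ≫ g) (P := F.obj)
    ((isSheaf_iff_isSheaf_of_type _ _).1 F.property)
    Rel (fun ξ hξ T T' b p s => forall_congr' fun ξ' => forall_congr' fun hξ' =>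
      forall_congr' fun he => iff_of_eq (congrArg (· = _) (by
        rw [← map_bc_liftPt g' b p ξ' he, ← (Φ ξ').toPresheafFiber_w_apply]
        exact congrArg _ (NatTrans.naturality_apply ((EtDesc.adjSh g').unit.app F).hom b.op s))))
    (fun ξ₀ hξ₀ => by
      let ξ'₀ := h.lift ξ₀ η' hξ₀
      have hξ'₀ : ξ'₀ ≫ f' = η' := h.lift_snd _ _ _
      have he₀ : ξ'₀ ≫ g' = ξ₀ := h.lift_fst _ _ _
      obtain ⟨W, w, s, hws⟩ : ∃ (W : X.Etale) (w : (Scheme.pointSmallEtale ξ₀).fiber.obj W)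
          (s : F.obj.obj (op W)),
            (Φ ξ'₀).toPresheafFiber _ (liftPt g' w ξ'₀ he₀) G'.obj (unitF W s) =
              (Φ ξ'₀).toPresheafFiber _ (liftPt f' t' ξ'₀ hξ'₀) G'.obj s' :=
        exists_unit_germSh he₀ F _
      obtain ⟨⟨T₀, p₁⟩, ⟨a, ha⟩, ⟨b, hb⟩, -⟩ := IsCofilteredOrEmpty.cone_objs
        (C := (Scheme.pointSmallEtale ξ'₀).fiber.Elements)
        ⟨_, liftPt f' t' ξ'₀ hξ'₀⟩ ⟨_, liftPt g' w ξ'₀ he₀⟩
      dsimp only at a b ha hb
      rw [← ha, ← hb, ← (Φ ξ'₀).toPresheafFiber_w_apply, ← (Φ ξ'₀).toPresheafFiber_w_apply] at hws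
      obtain ⟨T', r, p', hp', heq⟩ :=
        ((Φ ξ'₀).toPresheafFiber_eq_iff' (P := G'.obj) T₀ p₁ _ _).1 hws
      obtain ⟨V, v, T, c, d, q₀, hq₀, hgood⟩ := exists_open_agreement h hξ'₀ he₀ hξ₀ t' w
        (r ≫ a) (r ≫ b) p'
        (by rw [Functor.map_comp, ConcreteCategory.comp_apply, hp', ha])
        (by rw [Functor.map_comp, ConcreteCategory.comp_apply, hp', hb])
      refine ⟨V, v, T, d, F.obj.map c.op s, q₀, hq₀, fun ξ hξ q hq ξ' hξ' he => ?_⟩
      obtain ⟨p, hpa, hpb⟩ := hgood ξ hξ q hq ξ' hξ' he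
      have hnat : unitF T (F.obj.map c.op s) = G'.obj.map ((EtCoh.bc g').map c).op (unitF W s) :=
        NatTrans.naturality_apply ((EtDesc.adjSh g').unit.app F).hom c.op s
      rw [hnat, (Φ ξ').toPresheafFiber_w_apply, map_bc_liftPt, ← hpa, ← hpb,
        ← (Φ ξ').toPresheafFiber_w_apply, ← (Φ ξ').toPresheafFiber_w_apply, op_comp, op_comp,
        Functor.map_comp, Functor.map_comp, ConcreteCategory.comp_apply,
        ConcreteCategory.comp_apply, heq])
  refine ⟨(Scheme.pointSmallEtale η').toPresheafFiber _ (liftPt g v η' rfl)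
    ((EtDesc.pullSh g).obj ((EtDesc.pushSh f).obj F)).obj
    (((EtDesc.adjSh g).unit.app ((EtDesc.pushSh f).obj F)).hom.app (op V) z), ?_⟩
  refine evSh_jointly_injective f' G' _ _ fun ξ' hξ' => ?_
  have hξ : (ξ' ≫ g') ≫ f = η' ≫ g := by rw [Category.assoc, h.w, ← Category.assoc, hξ']
  refine (evSh_baseChange0 f g f' g' h.w rfl hξ' rfl hξ F v z).trans ?_
  exact (hz _ hξ ξ' hξ' rfl).trans (evSh_germ f' ξ' hξ' G' t' s').symm

/-- Degree zero base change holds for integral morphisms. -/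
theorem isIso_baseChange0_of_integral (h : IsPullback g' f' f g)
    (F : EtCoh.Ab X) : IsIso (EtCoh.baseChange0 f g f' g' h.w F) :=
  isIso_of_stalksAC _ fun Ω _ _ η' => baseChange0_stalk_bijective (η' := η') h F

/-- Degree zero base change for sheaves of sets holds for integral morphisms. -/
theorem isIso_baseChange0Sh_of_integral (h : IsPullback g' f' f g)
    (F : EtDesc.Sh X) : IsIso (EtBC.baseChange0Sh f g f' g' h.w F) :=
  isIso_of_stalksSh _ fun y => ⟨_, inferInstance, inferInstance, gac y, gac_default y,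
    baseChange0Sh_stalk_bijective (η' := gac y) h F⟩

end GrothLib.EtSite
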