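import Groth.Agent.Lib.EtSite.Points
import Mathlib.CategoryTheory.Sites.Point.Comap
import Mathlib.CategoryTheory.Sites.Point.Category
import Mathlib.Algebra.Category.Grp.AB

/-!
# Exactness of geometric stalks and stalks of inverse images

The stalk functors are exact and detect exactness; the stalk of `f⁻¹ G` at `ξ` is the stalk of
`G` at `ξ ≫ f`; consequently `f⁻¹` is exact.
-/

universe u

open CategoryTheory CategoryTheory.Limits AlgebraicGeometry Opposite

namespace GrothLib.EtSite

instance ab5OfSize_shrink_addCommGrp : AB5OfSize.{u, u} AddCommGrpCat.{u + 1} := by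
  have : AB5OfSize.{u + 1, u + 1} AddCommGrpCat.{u + 1} := inferInstanceAs (AB5 AddCommGrpCat.{u + 1})
  exact AB5OfSize_of_univLE.{u, u, u + 1, u + 1} AddCommGrpCat.{u + 1}

variable {X Y : Scheme.{u}} {Ω : Type u} [Field Ω] [IsSepClosed Ω]
  (ξ : Spec (CommRingCat.of Ω) ⟶ X)

instance preservesFiniteLimits_stalk : PreservesFiniteLimits (EtCoh.stalk ξ) := inferInstance

instance preservesFiniteColimits_stalk : PreservesFiniteColimits (EtCoh.stalk ξ) := inferInstance

instance additive_stalk : (EtCoh.stalk ξ).Additive :=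
  Functor.additive_of_preserves_binary_products _

lemma shortComplex_exact_of_stalks (S : ShortComplex (EtCoh.Ab X))
    (h : ∀ (Ω : Type u) [Field Ω] [IsSepClosed Ω] (ξ : Spec (CommRingCat.of Ω) ⟶ X),
      (S.map (EtCoh.stalk ξ)).Exact) : S.Exact := by
  rw [ShortComplex.exact_iff_isZero_homology]
  refine isZero_of_stalks _ fun Ω _ _ ξ => ?_
  exact IsZero.of_iso ((ShortComplex.exact_iff_isZero_homology _).1 (h Ω ξ)) (S.mapHomologyIso (EtCoh.stalk ξ)).symm

variable (f : X ⟶ Y)

set_option backward.isDefEq.respectTransparency false in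
/-- Lifts of `ξ` to `U ×_Y X` correspond to lifts of `ξ ≫ f` to `U`. -/
noncomputable def fiberBcIso :
    EtCoh.bc f ⋙ (Scheme.pointSmallEtale ξ).fiber ≅ (Scheme.pointSmallEtale (ξ ≫ f)).fiber :=
  NatIso.ofComponents (fun U => Equiv.toIso
    { toFun := fun t => fib (ξ ≫ f) (U := U) (t.left ≫ pullback.fst U.hom f) (by
        rw [Category.assoc, pullback.condition, ← Category.assoc]
        exact congrArg (· ≫ f) (Over.w t))
      invFun := fun t => fib ξ (U := (EtCoh.bc f).obj U)
        (pullback.lift t.left ξ (Over.w t)) (pullback.lift_snd _ _ _)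
      left_inv := fun t => Over.OverMorphism.ext (by
        apply pullback.hom_ext
        · exact pullback.lift_fst _ _ _
        · exact (pullback.lift_snd _ _ _).trans (Over.w t).symm)
      right_inv := fun t => Over.OverMorphism.ext (pullback.lift_fst _ _ _) })
    (fun {U V} g => by
      ext t
      apply Over.OverMorphism.ext
      change (t.left ≫ ((EtCoh.bc f).map g).left) ≫ pullback.fst V.hom f =
        (t.left ≫ pullback.fst U.hom f) ≫ g.left
      have h : ((EtCoh.bc f).map g).left ≫ pullback.fst V.hom f =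
          pullback.fst U.hom f ≫ g.left := (EtCoh.isPullback_bc_map f g).w
      rw [Category.assoc, Category.assoc, h])

/-- A natural isomorphism of fibre functors gives an equivalence of categories of elements. -/
noncomputable def elementsEquivOfIso {C : Type*} [Category* C] {F G : C ⥤ Type u} (e : F ≅ G) :
    F.Elements ≌ G.Elements :=
  CategoryTheory.Equivalence.mk (CategoryOfElements.map e.hom) (CategoryOfElements.map e.inv)
    (NatIso.ofComponents (fun x => CategoryOfElements.isoMk _ _ (Iso.refl x.1)
      (by simp [CategoryOfElements.map]; rfl)) fun {a b} g => Subtype.ext (by simp [CategoryOfElements.map]))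
    (NatIso.ofComponents (fun x => CategoryOfElements.isoMk _ _ (Iso.refl x.1)
      (by simp [CategoryOfElements.map]; rfl)) fun {a b} g => Subtype.ext (by simp [CategoryOfElements.map]))

instance initiallySmall_fiber_bc :
    InitiallySmall.{u} (EtCoh.bc f ⋙ (Scheme.pointSmallEtale ξ).fiber).Elements :=
  initiallySmall_of_initial_of_initiallySmall
    (elementsEquivOfIso (fiberBcIso ξ f)).inverse

/-- The point `ξ` pushed forward along `f` agrees with the point `ξ ≫ f`. -/
noncomputable def comapPointIso :
    (Scheme.pointSmallEtale ξ).comap (EtCoh.bc f) (EtCoh.coverPreserving_bc f) ≅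
      Scheme.pointSmallEtale (ξ ≫ f) where
  hom := ⟨(fiberBcIso ξ f).inv⟩
  inv := ⟨(fiberBcIso ξ f).hom⟩
  hom_inv_id := GrothendieckTopology.Point.hom_ext (fiberBcIso ξ f).hom_inv_id
  inv_hom_id := GrothendieckTopology.Point.hom_ext (fiberBcIso ξ f).inv_hom_id

/-- The stalk of an inverse image is the stalk at the image point. -/
noncomputable def pullStalkIso [EtCoh.BCCont f] :
    EtCoh.pull f ⋙ EtCoh.stalk ξ ≅ EtCoh.stalk (ξ ≫ f) :=
  ((Scheme.pointSmallEtale ξ).sheafFiberComapIso (EtCoh.bc f) (EtCoh.coverPreserving_bc f)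
    AddCommGrpCat.{u + 1}).symm ≪≫
  { hom := (comapPointIso ξ f).inv.sheafFiber
    inv := (comapPointIso ξ f).hom.sheafFiber
    hom_inv_id := by
      rw [← GrothendieckTopology.Point.Hom.sheafFiber_comp, Iso.hom_inv_id,
        GrothendieckTopology.Point.Hom.sheafFiber_id]
    inv_hom_id := by
      rw [← GrothendieckTopology.Point.Hom.sheafFiber_comp, Iso.inv_hom_id,
        GrothendieckTopology.Point.Hom.sheafFiber_id] }

lemma pull_map_mono [EtCoh.BCCont f] {F G : EtCoh.Ab Y} (a : F ⟶ G) [Mono a] :
    Mono ((EtCoh.pull f).map a) := by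
  refine mono_of_stalks _ fun Ω _ _ ξ => ?_
  rw [← AddCommGrpCat.mono_iff_injective]
  exact ((MorphismProperty.monomorphisms _).arrow_mk_iso_iff
    (((Functor.mapArrowFunctor _ _).mapIso (pullStalkIso ξ f)).app (Arrow.mk a))).2
      (inferInstanceAs (Mono ((EtCoh.stalk (ξ ≫ f)).map a)))

lemma pull_preservesFiniteLimits [EtCoh.BCCont f] : PreservesFiniteLimits (EtCoh.pull f) := by
  have : (EtCoh.pull f).IsLeftAdjoint := ⟨_, ⟨EtCoh.pullPushAdj f⟩⟩
  have : PreservesFiniteColimits (EtCoh.pull f) := ⟨fun _ _ _ => inferInstance⟩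
  have : PreservesBinaryBiproducts (EtCoh.pull f) :=
    ⟨fun {K₁ K₂} => preservesBinaryBiproduct_of_preservesBinaryCoproduct _⟩
  have : (EtCoh.pull f).Additive := Functor.additive_of_preservesBinaryBiproducts _
  have : (EtCoh.pull f).PreservesMonomorphisms := ⟨fun a _ => pull_map_mono f a⟩
  have : (EtCoh.pull f).PreservesHomology :=
    Functor.preservesHomology_of_preservesMonos_and_cokernels _
  exact Functor.preservesFiniteLimits_of_preservesHomology _

end GrothLib.EtSite
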