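import Groth.Agent.Lib.EtSite.Sections
import Groth.Agent.Lib.EtSite.Pull
import Groth.Prelude.Def_EtCore
import Mathlib.Algebra.Homology.DerivedCategory.Ext.EnoughProjectives
import Mathlib.Algebra.Category.Grp.EpiMono

/-!
# Vanishing of etale cohomology of strictly henselian local schemes
-/

universe u

open CategoryTheory CategoryTheory.Limits AlgebraicGeometry Opposite

namespace GrothLib.EtSite

/-- If taking global sections preserves epimorphisms, positive degree cohomology vanishes. -/
lemma subsingleton_H_of_gsec_epi (X : Scheme.{u})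
    (h : ∀ (F G : EtCoh.Ab X) (a : F ⟶ G) [Epi a],
      Function.Surjective (a.hom.app (op (EtCoh.top X))))
    (F : EtCoh.Ab X) (p : ℕ) (hp : 1 ≤ p) : Subsingleton (EtCoh.H X F p) := by
  obtain ⟨n, rfl⟩ : ∃ n, p = n + 1 := ⟨p - 1, by lia⟩
  have : Projective ((constantSheaf X.smallEtaleTopology AddCommGrpCat.{u + 1}).obj
      (AddCommGrpCat.of (ULift.{u + 1} ℤ))) := by
    refine ⟨fun {E G} f e _ => ?_⟩
    let adj := EtCore.constAdj X
    obtain ⟨x, hx⟩ := h E G e ((adj.homEquiv _ _ f) ⟨1⟩)
    refine ⟨(adj.homEquiv _ _).symm (AddCommGrpCat.ofHom ((zmultiplesHom _ x).comp AddEquiv.ulift.toAddMonoidHom)), ?_⟩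
    apply (adj.homEquiv _ _).injective
    rw [adj.homEquiv_naturality_right, Equiv.apply_symm_apply]
    ext ⟨m⟩
    change (e.hom.app (op (EtCoh.top X))) (m • x) = _
    rw [map_zsmul, hx, ← map_zsmul]
    congr 1
    ext
    simp
  exact Abelian.Ext.subsingleton_of_projective
    ((constantSheaf X.smallEtaleTopology AddCommGrpCat.{u + 1}).obj
      (AddCommGrpCat.of (ULift.{u + 1} ℤ))) F n

lemma surjective_app_top_of_epi (R : Type u) [CommRing R] [HenselianLocalRing R]
    [IsSepClosed (IsLocalRing.ResidueField R)] {F G : EtCoh.Ab (Spec (CommRingCat.of R))}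
    (a : F ⟶ G) [Epi a] :
    Function.Surjective (a.hom.app (op (EtCoh.top (Spec (CommRingCat.of R))))) := by
  intro y
  set ξ := Spec.map (CommRingCat.ofHom (IsLocalRing.residue R))
  let t : (Scheme.pointSmallEtale ξ).fiber.obj (EtCoh.top (Spec (CommRingCat.of R))) :=
    Over.homMk ξ (Category.comp_id _)
  have hepi : Function.Surjective ((EtCoh.stalk ξ).map a) :=
    (AddCommGrpCat.epi_iff_surjective _).1 (inferInstanceAs (Epi ((EtCoh.stalk ξ).map a)))
  obtain ⟨p, hp⟩ := hepi (germ ξ G t y)
  obtain ⟨x, rfl⟩ := (toPresheafFiber_top_bijective R F.obj).surjective p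
  exact ⟨x, (toPresheafFiber_top_bijective R G.obj).injective ((stalk_map_germ ξ a t x).symm.trans hp)⟩

lemma subsingleton_H_strictlyHenselian (R : Type u) [CommRing R] [HenselianLocalRing R]
    [IsSepClosed (IsLocalRing.ResidueField R)] (F : EtCoh.Ab (Spec (CommRingCat.of R)))
    (p : ℕ) (hp : 1 ≤ p) : Subsingleton (EtCoh.H (Spec (CommRingCat.of R)) F p) :=
  subsingleton_H_of_gsec_epi _ (fun _ _ a _ => surjective_app_top_of_epi R a) F p hp

end GrothLib.EtSite
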