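import Groth.Agent.Lib.EtSite.PropSplit
import Mathlib.CategoryTheory.Abelian.RightDerived
import Mathlib.CategoryTheory.Abelian.Exact
import Mathlib.Algebra.Homology.ShortComplex.ExactFunctor

/-!
# Exactness of direct image along integral morphisms and vanishing of higher direct images
-/

universe u

open CategoryTheory CategoryTheory.Limits AlgebraicGeometry Opposite

namespace GrothLib.EtSite

variable {X Y : Scheme.{u}} (f : X ⟶ Y)

/-- Direct image along an integral morphism is exact. -/
theorem preservesHomology_push [IsIntegralHom f] : (EtCoh.push f).PreservesHomology := by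
  have := push_preservesEpimorphisms f (propB_of_integral f)
  have : (EtCoh.push f).IsRightAdjoint := (EtCoh.pullPushAdj f).isRightAdjoint
  exact Functor.preservesHomology_of_preservesEpis_and_kernels _

theorem preservesFiniteColimits_push [IsIntegralHom f] : PreservesFiniteColimits (EtCoh.push f) := by
  have := preservesHomology_push f
  exact (EtCoh.push f).preservesFiniteColimits_of_preservesHomology

/-- The positive right derived functors of an exact functor vanish. -/
lemma isZero_rightDerived_of_exact {C D : Type*} [Category* C] [Abelian C]
    [HasInjectiveResolutions C] [EnoughInjectives C] [Category* D] [Abelian D] (F : C ⥤ D) [F.Additive]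
    [F.PreservesHomology] (q : ℕ) (hq : 0 < q) (A : C) : IsZero ((F.rightDerived q).obj A) := by
  obtain ⟨n, rfl⟩ := Nat.exists_eq_succ_of_ne_zero hq.ne'
  let I := InjectiveResolution.of A
  refine IsZero.of_iso ?_ (I.isoRightDerivedObj F (n + 1))
  refine (HomologicalComplex.exactAt_iff_isZero_homology _ _).1 ?_
  exact (I.cocomplex_exactAt_succ n).map F

theorem isZero_Rpush_of_integral [IsIntegralHom f] (F : EtCoh.Ab X) (q : ℕ) (hq : 0 < q) :
    IsZero ((EtCoh.Rpush f q).obj F) := by
  have := preservesHomology_push f
  exact isZero_rightDerived_of_exact (EtCoh.push f) q hq F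

end GrothLib.EtSite
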