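import Groth.Agent.Lib.EtSite.StrictHensel
import Groth.Agent.Lib.Hensel.Properties
import Mathlib.RingTheory.Idempotents
import Mathlib.RingTheory.Ideal.Over
import Mathlib.FieldTheory.PurelyInseparable.Basic

/-!
# Sections of etale algebras over zero dimensional rings

Over a zero dimensional ring with separably closed residue fields every surjective etale algebra
has a section, with prescribed values at finitely many primes.
-/

universe u

open Polynomial

namespace GrothLib.EtSite

lemma isSepClosed_of_surjective {K L : Type u} [Field K] [Field L] [IsSepClosed K] (f : K →+* L)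
    (hf : Function.Surjective f) : IsSepClosed L := by
  let e : K ≃+* L := RingEquiv.ofBijective f ⟨f.injective, hf⟩
  refine IsSepClosed.of_exists_root _ fun p hp hirr hsep => ?_
  obtain ⟨x, hx⟩ := IsSepClosed.exists_root (p.map e.symm.toRingHom)
    (by rw [Polynomial.degree_map]; exact hirr.degree_pos.ne') hsep.map
  · refine ⟨e x, ?_⟩
    have := congrArg e hx
    rw [map_zero] at this
    rw [← this, Polynomial.eval_map, ← e.coe_toRingHom, Polynomial.hom_eval₂]
    have h2 : (e : K →+* L).comp e.symm.toRingHom = RingHom.id L := RingHom.ext e.apply_symm_apply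
    rw [h2, Polynomial.eval₂_id]

variable {R : Type u} [CommRing R]

/-- In a zero dimensional ring some power of every element generates an idempotent ideal. -/
lemma exists_pow_mul_one_sub_eq_zero (hdim : ∀ p : Ideal R, p.IsPrime → p.IsMaximal) (a : R) :
    ∃ (n : ℕ) (b : R), a ^ n * (1 - a * b) = 0 := by
  by_contra h
  push Not at h
  let M : Submonoid R :=
    { carrier := {x | ∃ (n : ℕ) (b : R), x = a ^ n * (1 - a * b)}
      one_mem' := ⟨0, 0, by simp⟩
      mul_mem' := by
        rintro x y ⟨n, b, rfl⟩ ⟨m, c, rfl⟩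
        exact ⟨n + m, b + c - a * b * c, by ring⟩ }
  obtain ⟨p, hp, -, hdisj⟩ := Ideal.exists_le_prime_disjoint (⊥ : Ideal R) M (by
    rw [Set.disjoint_left]
    rintro x hx ⟨n, b, rfl⟩
    exact h n b (by simpa using hx))
  have hM := hdim p hp
  have ha : a ∉ p := fun ha => Set.disjoint_left.1 hdisj ha ⟨1, 0, by simp⟩
  obtain ⟨b, i, hi, hb⟩ := hM.exists_inv ha
  exact Set.disjoint_left.1 hdisj hi ⟨0, b, by linear_combination hb⟩

/-- In a zero dimensional ring elements are separated from primes by idempotents. -/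
lemma exists_idem_mem (hdim : ∀ p : Ideal R, p.IsPrime → p.IsMaximal) {q : Ideal R}
    (hq : q.IsPrime) {a : R} (ha : a ∈ q) :
    ∃ e : R, IsIdempotentElem e ∧ e ∈ q ∧ ∀ p : Ideal R, p.IsPrime → e ∈ p → a ∈ p := by
  obtain ⟨n, b, h⟩ := exists_pow_mul_one_sub_eq_zero hdim a
  have hne : n ≠ 0 := by
    rintro rfl
    apply hq.ne_top
    rw [Ideal.eq_top_iff_one]
    have : (1 : R) = a * b := by linear_combination h
    rw [this]
    exact q.mul_mem_right _ ha
  have hk : ∀ k, a ^ n * (a * b) ^ k = a ^ n := by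
    intro k
    induction k with
    | zero => simp
    | succ k ih =>
      have : a ^ n * (a * b) ^ (k + 1) = (a ^ n * (a * b) ^ k) * (a * b) := by ring
      rw [this, ih]
      linear_combination -h
  refine ⟨(a * b) ^ n, ?_, Ideal.pow_mem_of_mem _ (q.mul_mem_right _ ha) _ (Nat.pos_of_ne_zero hne),
    fun p hp he => ?_⟩
  · change (a * b) ^ n * (a * b) ^ n = _
    conv_lhs => rw [mul_pow, mul_assoc, mul_left_comm, ← mul_pow a b, hk, mul_comm, ← mul_pow]
  · refine hp.mem_of_pow_mem n ?_
    rw [← hk n]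
    exact p.mul_mem_left _ he

variable {E : Type u} [CommRing E] [Algebra R E]

/-- An algebra map on the piece of `Spec R` cut out by the idempotent `e`. -/
structure IsSectionOn (e : R) (s : E →+ R) : Prop where
  one : s 1 = e
  mul : ∀ x y, s (x * y) = s x * s y
  smul : ∀ r x, s (algebraMap R E r * x) = r * s x

lemma IsSectionOn.apply_eq {e : R} {s : E →+ R} (h : IsSectionOn e s) (x : E) :
    e * s x = s x := by
  rw [← h.one, ← h.mul, one_mul]

lemma IsSectionOn.restrict {e : R} {s : E →+ R} (h : IsSectionOn e s) {e' : R}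
    (he' : IsIdempotentElem e') :
    IsSectionOn (e' * e) ((AddMonoidHom.mulLeft e').comp s) where
  one := congrArg (e' * ·) h.one
  mul x y := by
    change e' * s (x * y) = (e' * s x) * (e' * s y)
    rw [h.mul, mul_mul_mul_comm, he'.eq]
  smul r x := by
    change e' * s _ = r * (e' * s x)
    rw [h.smul]; ring

lemma IsSectionOn.add {e₁ e₂ : R} {s₁ s₂ : E →+ R} (h₁ : IsSectionOn e₁ s₁)
    (h₂ : IsSectionOn e₂ s₂) (h : e₁ * e₂ = 0) : IsSectionOn (e₁ + e₂) (s₁ + s₂) where
  one := by simp [h₁.one, h₂.one]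
  mul x y := by
    have key : ∀ u v, s₁ u * s₂ v = 0 := fun u v => by
      rw [← h₁.apply_eq u, ← h₂.apply_eq v, mul_mul_mul_comm, h, zero_mul]
    simp only [AddMonoidHom.add_apply, h₁.mul, h₂.mul]
    linear_combination -(key x y) - (key y x)
  smul r x := by simp [h₁.smul, h₂.smul, mul_add]

/-- Glue algebra maps given on a covering family of idempotent pieces; on a point of the `j`-th
piece lying in no earlier piece, the result is the `j`-th map. -/
lemma exists_isSectionOn_glue (l : List (R × (E →+ R)))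
    (hl : ∀ x ∈ l, IsIdempotentElem x.1 ∧ IsSectionOn x.1 x.2) :
    ∃ (e : R) (s : E →+ R), IsIdempotentElem e ∧ IsSectionOn e s ∧
      (∀ p : Ideal R, p.IsPrime → e ∈ p → ∀ x ∈ l, x.1 ∈ p) ∧
      ∀ p : Ideal R, p.IsPrime → ∀ x ∈ l, x.1 ∉ p → (∀ y ∈ l, y.1 ∉ p → y = x) →
        ∀ z, s z - x.2 z ∈ p := by
  induction l with
  | nil =>
    exact ⟨0, 0, IsIdempotentElem.zero, ⟨rfl, by simp, by simp⟩, by simp, by simp⟩
  | cons a l ih =>
    obtain ⟨e, s, he, hs, hcov, hval⟩ := ih fun x hx => hl x (List.mem_cons_of_mem _ hx)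
    obtain ⟨ha, has⟩ := hl a (List.mem_cons_self ..)
    have he' : IsIdempotentElem (1 - a.1) := ha.one_sub
    refine ⟨a.1 + (1 - a.1) * e, a.2 + (AddMonoidHom.mulLeft (1 - a.1)).comp s, ?_,
      has.add (hs.restrict he') ?_, ?_, ?_⟩
    · change (a.1 + (1 - a.1) * e) * (a.1 + (1 - a.1) * e) = _
      linear_combination (1 - 2 * e + e * e) * ha.eq + (1 - a.1) * he.eq
    · linear_combination -e * ha.eq
    · intro p hp hmem x hx
      have h1 : a.1 ∈ p := by
        have := p.mul_mem_left a.1 hmem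
        rwa [show a.1 * (a.1 + (1 - a.1) * e) = a.1 by linear_combination (1 - e) * ha.eq] at this
      have h2 : e ∈ p := by
        have := p.sub_mem hmem (p.mul_mem_right (1 - e) h1)
        rwa [show a.1 + (1 - a.1) * e - a.1 * (1 - e) = e by ring] at this
      rcases List.mem_cons.1 hx with rfl | hx
      exacts [h1, hcov p hp h2 x hx]
    · intro p hp x hx hxp huniq z
      by_cases hap : a.1 ∈ p
      · have hne : x ≠ a := fun h => hxp (h ▸ hap)
        have hxl : x ∈ l := (List.mem_cons.1 hx).resolve_left hne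
        have := hval p hp x hxl hxp (fun y hy hyp => huniq y (List.mem_cons_of_mem _ hy) hyp) z
        have h3 : a.2 z ∈ p := by
          rw [← has.apply_eq z]
          exact p.mul_mem_right _ hap
        have h4 := p.sub_mem (p.add_mem h3 this) (p.mul_mem_right (s z) hap)
        change a.2 z + (1 - a.1) * s z - x.2 z ∈ p
        rwa [show a.2 z + (1 - a.1) * s z - x.2 z = a.2 z + (s z - x.2 z) - a.1 * s z by ring]
      · obtain rfl := huniq a (List.mem_cons_self ..) hap
        have h5 : 1 - a.1 ∈ p := (hp.mem_or_mem_of_mul_eq_zero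
          (show a.1 * (1 - a.1) = 0 by linear_combination -ha.eq)).resolve_left hap
        change a.2 z + (1 - a.1) * s z - a.2 z ∈ p
        rw [add_sub_cancel_left]
        exact p.mul_mem_right _ h5

/-- A point of an etale algebra over a prime extends to a section near it. -/
lemma exists_isSectionOn_nhd [Algebra.FinitePresentation R E] [Algebra.Etale R E]
    (hdim : ∀ p : Ideal R, p.IsPrime → p.IsMaximal) (q : Ideal R) [hq : q.IsPrime]
    (φ : E →ₐ[R] R ⧸ q) :
    ∃ (e : R) (s : E →+ R), IsIdempotentElem e ∧ e ∉ q ∧ IsSectionOn e s ∧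
      ∀ x, Ideal.Quotient.mk q (s x) = φ x := by
  classical
  let J : Ideal R := Ideal.span {e | IsIdempotentElem e ∧ e ∈ q}
  have hJq : J ≤ q := Ideal.span_le.2 fun e he => he.2
  have hnil : ∀ x ∈ q.map (Ideal.Quotient.mk J), IsNilpotent x := by
    intro x hx
    obtain ⟨a, ha, rfl⟩ := (Ideal.mem_map_iff_of_surjective _ Ideal.Quotient.mk_surjective).1 hx
    obtain ⟨e, he, heq, hsep⟩ := exists_idem_mem hdim hq ha
    refine mem_nilradical.1 ?_
    rw [nilradical_eq_sInf, Submodule.mem_sInf]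
    intro p' hp'
    have := hp'.comap (Ideal.Quotient.mk J)
    refine hsep _ this ?_
    change Ideal.Quotient.mk J e ∈ p'
    have hJe : e ∈ J := Ideal.subset_span ⟨he, heq⟩
    rw [Ideal.Quotient.eq_zero_iff_mem.2 hJe]
    exact p'.zero_mem
  have := GrothLib.Hensel.henselianRing_of_isNilpotent _ hnil
  let eq' : ((R ⧸ J) ⧸ (q.map (Ideal.Quotient.mk J) : Ideal (R ⧸ J))) ≃ₐ[R] R ⧸ q :=
    DoubleQuot.quotQuotEquivQuotOfLEₐ R hJq
  obtain ⟨τ, hτ⟩ := GrothLib.Hensel.exists_algHom_lift (R := R)
    (I := q.map (Ideal.Quotient.mk J)) (eq'.symm.toAlgHom.comp φ)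
  obtain ⟨n, f, hf, hker⟩ := (inferInstance : Algebra.FinitePresentation R E).out
  choose g hg using fun i => Ideal.Quotient.mk_surjective (τ (f (MvPolynomial.X i)))
  let F : MvPolynomial (Fin n) R →ₐ[R] R := MvPolynomial.aeval g
  have hF : ∀ P, Ideal.Quotient.mk J (F P) = τ (f P) := by
    intro P
    have : (Ideal.Quotient.mkₐ R J).comp F = τ.comp f := by
      ext i
      simp [F, hg i]
    exact AlgHom.congr_fun this P
  obtain ⟨G, hG⟩ := hker
  have key : ∀ P ∈ (G : Set (MvPolynomial (Fin n) R)), ∃ d, IsIdempotentElem d ∧ d ∉ q ∧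
      d * F P = 0 := by
    intro P hP
    have hP' : f P = 0 := by
      have : P ∈ RingHom.ker f.toRingHom := hG ▸ Ideal.subset_span hP
      exact this
    have hmem : F P ∈ J := by
      rw [← Ideal.Quotient.eq_zero_iff_mem, hF, hP', map_zero]
    generalize F P = x at hmem
    induction hmem using Submodule.span_induction with
    | mem x hx =>
      exact ⟨1 - x, hx.1.one_sub, fun h => hq.ne_top <| (Ideal.eq_top_iff_one _).2 (by
        simpa using q.add_mem h hx.2), by rw [sub_mul, one_mul, hx.1.eq, sub_self]⟩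
    | zero => exact ⟨1, IsIdempotentElem.one, fun h => hq.ne_top ((Ideal.eq_top_iff_one _).2 h),
        mul_zero _⟩
    | add x y _ _ hx hy =>
      obtain ⟨d, hd, hdq, hdx⟩ := hx
      obtain ⟨d', hd', hdq', hdy⟩ := hy
      exact ⟨d * d', hd.mul hd', fun h => (hq.mem_or_mem h).elim hdq hdq',
        by linear_combination d' * hdx + d * hdy⟩
    | smul a x _ hx =>
      obtain ⟨d, hd, hdq, hdx⟩ := hx
      exact ⟨d, hd, hdq, by simp only [smul_eq_mul]; linear_combination a * hdx⟩
  choose! d hd hdq hdP using key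
  let e := ∏ P ∈ G, d P
  have he : IsIdempotentElem e :=
    Finset.prod_induction _ IsIdempotentElem (fun _ _ => IsIdempotentElem.mul) .one hd
  have heq : e ∉ q := fun h => by
    obtain ⟨P, hP, hP'⟩ := (Ideal.IsPrime.prod_mem_iff (hp := hq)).1 h
    exact hdq P hP hP'
  have hvan : ∀ P, f P = 0 → e * F P = 0 := by
    intro P hP
    have : RingHom.ker f.toRingHom ≤ RingHom.ker
        ((Ideal.Quotient.mk (Ideal.span {1 - e})).comp F.toRingHom) := by
      rw [← hG, Ideal.span_le]
      intro Q hQ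
      refine Ideal.Quotient.eq_zero_iff_mem.2 (Ideal.mem_span_singleton.2 ⟨F Q, ?_⟩)
      have h0 : e * F Q = 0 := by
        change (∏ P ∈ G, d P) * F Q = 0
        rw [← Finset.prod_erase_mul G d hQ, mul_assoc, hdP Q hQ, mul_zero]
      change F Q = (1 - e) * F Q
      linear_combination h0
    obtain ⟨c, hc⟩ := Ideal.mem_span_singleton.1 (Ideal.Quotient.eq_zero_iff_mem.1 (this hP))
    rw [show F P = (1 - e) * c from hc]
    linear_combination -c * he.eq
  let sec : E → R := fun x => e * F (hf x).choose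
  have hsec : ∀ P, sec (f P) = e * F P := fun P => by
    have := hvan ((hf (f P)).choose - P) (by rw [map_sub, (hf (f P)).choose_spec, sub_self])
    rw [map_sub, mul_sub, sub_eq_zero] at this
    exact this
  refine ⟨e, AddMonoidHom.mk' sec ?_, he, heq, ⟨?_, ?_, ?_⟩, ?_⟩
  · intro x y
    obtain ⟨P, rfl⟩ := hf x
    obtain ⟨Q, rfl⟩ := hf y
    rw [← map_add, hsec, hsec, hsec, map_add, mul_add]
  · change sec 1 = e
    rw [← map_one f, hsec, map_one, mul_one]
  · intro x y
    obtain ⟨P, rfl⟩ := hf x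
    obtain ⟨Q, rfl⟩ := hf y
    change sec _ = sec _ * sec _
    rw [← map_mul, hsec, hsec, hsec, map_mul, mul_mul_mul_comm, he.eq]
  · intro r x
    obtain ⟨P, rfl⟩ := hf x
    change sec _ = r * sec _
    rw [← f.commutes r, ← map_mul, hsec, hsec, map_mul, F.commutes]
    simp only [Algebra.algebraMap_self, RingHom.id_apply]
    ring
  · intro x
    obtain ⟨P, rfl⟩ := hf x
    change Ideal.Quotient.mk q (sec _) = _
    rw [hsec, map_mul]
    have h1 : Ideal.Quotient.mk q e = 1 := by
      rw [← map_one (Ideal.Quotient.mk q), Ideal.Quotient.eq]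
      exact (hq.mem_or_mem_of_mul_eq_zero (show e * (e - 1) = 0 by
        linear_combination he.eq)).resolve_left heq
    rw [h1, one_mul]
    have h2 := AlgHom.congr_fun hτ (f P)
    simp only [AlgHom.comp_apply] at h2
    rw [← hF P] at h2
    have := congrArg eq' h2
    rw [AlgEquiv.coe_toAlgHom, AlgEquiv.apply_symm_apply] at this
    rw [← this]
    rfl

/-- An etale algebra with nonempty fibre over a maximal ideal with separably closed residue field
has a point there. -/
lemma exists_point_of_sepClosed (q : Ideal R) [hq : q.IsMaximal] [Algebra.Etale R E] (Q : Ideal E)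
    [Q.IsPrime] (hQ : Q.comap (algebraMap R E) = q)
    (hsc : letI := Ideal.Quotient.field q; IsSepClosed (R ⧸ q)) :
    Nonempty (E →ₐ[R] R ⧸ q) := by
  let _ : Field (R ⧸ q) := Ideal.Quotient.field q
  have : IsSepClosed (IsLocalRing.ResidueField (R ⧸ q)) :=
    isSepClosed_of_surjective (IsLocalRing.residue (R ⧸ q)) IsLocalRing.residue_surjective
  obtain ⟨Ω, _, φ₀, hφ₀⟩ : ∃ (Ω : Type u) (_ : Field Ω) (φ₀ : E →+* Ω), RingHom.ker φ₀ = Q :=
    ⟨FractionRing (E ⧸ Q), inferInstance,
      (algebraMap (E ⧸ Q) (FractionRing (E ⧸ Q))).comp (Ideal.Quotient.mk Q), by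
      rw [RingHom.ker_comp_of_injective _ (IsFractionRing.injective _ _), Ideal.mk_ker]⟩
  let ρ : R ⧸ q →+* Ω := Ideal.Quotient.lift q (φ₀.comp (algebraMap R E)) fun a ha => by
    have : algebraMap R E a ∈ RingHom.ker φ₀ := by rw [hφ₀, ← Ideal.mem_comap, hQ]; exact ha
    exact this
  let _ : Algebra R Ω := (φ₀.comp (algebraMap R E)).toAlgebra
  let _ : Algebra (R ⧸ q) Ω := ρ.toAlgebra
  have : IsScalarTower R (R ⧸ q) Ω := IsScalarTower.of_algebraMap_eq fun r => rfl
  let φ : TensorProduct R (R ⧸ q) E →ₐ[R ⧸ q] Ω :=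
    Algebra.TensorProduct.lift (Algebra.ofId (R ⧸ q) Ω) ⟨φ₀, fun r => rfl⟩ fun _ _ => .all _ _
  obtain ⟨s, -⟩ := exists_algHom_etale (R := R ⧸ q) φ.toRingHom ρ
    (RingHom.ext fun r => φ.commutes r) (by
      rw [(RingHom.injective_iff_ker_eq_bot _).1 ρ.injective, IsLocalRing.maximalIdeal_eq_bot])
  exact ⟨(s.restrictScalars R).comp Algebra.TensorProduct.includeRight⟩

/-- Sections of surjective etale algebras over zero dimensional rings with separably closed
residue fields, with prescribed values at finitely many primes. -/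
theorem exists_section_zeroDim [Algebra.Etale R E]
    (hdim : ∀ p : Ideal R, p.IsPrime → p.IsMaximal)
    (hsc : ∀ (p : Ideal R) [p.IsMaximal], letI := Ideal.Quotient.field p; IsSepClosed (R ⧸ p))
    (hsurj : ∀ p : Ideal R, p.IsPrime → ∃ Q : Ideal E, Q.IsPrime ∧ Q.comap (algebraMap R E) = p)
    {ι : Type*} [Finite ι] (q : ι → Ideal R) (hqp : ∀ i, (q i).IsPrime)
    (hinj : Function.Injective q) (φ : ∀ i, E →ₐ[R] R ⧸ q i) :
    ∃ σ : E →ₐ[R] R, ∀ i x, Ideal.Quotient.mk (q i) (σ x) = φ i x := by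
  classical
  have := Fintype.ofFinite ι
  -- pieces around the prescribed primes, avoiding the other ones
  have hnear : ∀ i, ∃ (e : R) (s : E →+ R), IsIdempotentElem e ∧ e ∉ q i ∧ IsSectionOn e s ∧
      (∀ x, Ideal.Quotient.mk (q i) (s x) = φ i x) ∧ ∀ j, j ≠ i → e ∈ q j := by
    intro i
    have := hqp i
    obtain ⟨e, s, he, heq, hs, hsx⟩ := exists_isSectionOn_nhd hdim (q i) (φ i)
    have hsep : ∀ j, ∃ d : R, IsIdempotentElem d ∧ d ∉ q i ∧ (j ≠ i → d ∈ q j) := by
      intro j
      by_cases hji : j = i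
      · exact ⟨1, .one, fun h => (hqp i).ne_top ((Ideal.eq_top_iff_one _).2 h), absurd hji⟩
      · obtain ⟨a, ha, hai⟩ : ∃ a ∈ q j, a ∉ q i := by
          by_contra h
          push Not at h
          exact hji (hinj ((hdim _ (hqp j)).eq_of_le (hqp i).ne_top h))
        obtain ⟨d, hd, hdj, hd'⟩ := exists_idem_mem hdim (hqp j) ha
        exact ⟨d, hd, fun h => hai (hd' _ (hqp i) h), fun _ => hdj⟩
    choose d hd hdi hdj using hsep
    have hD : IsIdempotentElem (∏ j, d j) :=
      Finset.prod_induction _ IsIdempotentElem (fun _ _ => IsIdempotentElem.mul) .one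
        fun j _ => hd j
    have hDi : (∏ j, d j) ∉ q i := fun h => by
      obtain ⟨j, -, hj⟩ := (Ideal.IsPrime.prod_mem_iff (hp := hqp i)).1 h
      exact hdi j hj
    refine ⟨(∏ j, d j) * e, _, hD.mul he, fun h => ((hqp i).mem_or_mem h).elim hDi heq,
      hs.restrict hD, fun x => ?_, fun j hj => ?_⟩
    · have h1 : Ideal.Quotient.mk (q i) (∏ j, d j) = 1 := by
        rw [← map_one (Ideal.Quotient.mk (q i)), Ideal.Quotient.eq]
        exact ((hqp i).mem_or_mem_of_mul_eq_zero
          (show (∏ j, d j) * (∏ j, d j - 1) = 0 by linear_combination hD.eq)).resolve_left hDi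
      change Ideal.Quotient.mk (q i) ((∏ j, d j) * s x) = _
      rw [map_mul, h1, one_mul, hsx]
    · exact (q j).mul_mem_right _
        (Ideal.mem_of_dvd _ (Finset.dvd_prod_of_mem d (Finset.mem_univ j)) (hdj j hj))
  choose e s he hei hs hsx hej using hnear
  -- pieces around the other primes
  let E₀ : R := ∏ i, (1 - e i)
  have hE₀ : IsIdempotentElem E₀ :=
    Finset.prod_induction _ IsIdempotentElem (fun _ _ => IsIdempotentElem.mul) .one
      fun i _ => (he i).one_sub
  let S : Set (R × (E →+ R)) := {x | IsIdempotentElem x.1 ∧ IsSectionOn x.1 x.2}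
  have hcov : Ideal.span (Prod.fst '' S) = ⊤ := by
    by_contra h
    obtain ⟨m, hm, hle⟩ := Ideal.exists_le_maximal _ h
    obtain ⟨Q, hQ, hQm⟩ := hsurj m hm.isPrime
    obtain ⟨φm⟩ := exists_point_of_sepClosed m Q hQm (hsc m)
    obtain ⟨e', s', h1, h2, h3, -⟩ := exists_isSectionOn_nhd hdim m φm
    exact h2 (hle (Ideal.subset_span ⟨(e', s'), ⟨h1, h3⟩, rfl⟩))
  obtain ⟨T, hTS, hT⟩ : ∃ T : Finset (R × (E →+ R)), (T : Set _) ⊆ S ∧
      Ideal.span (Prod.fst '' (T : Set (R × (E →+ R)))) = ⊤ := by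
    obtain ⟨u, hu, hu'⟩ := Submodule.mem_span_finite_of_mem_span
      ((Ideal.eq_top_iff_one _).1 hcov)
    obtain ⟨T, hT, rfl⟩ := Finset.subset_set_image_iff.1 hu
    exact ⟨T, hT, (Ideal.eq_top_iff_one _).2 (by rwa [Finset.coe_image] at hu')⟩
  let l₁ : List (R × (E →+ R)) := (Finset.univ : Finset ι).toList.map fun i => (e i, s i)
  let l₂ : List (R × (E →+ R)) :=
    T.toList.map fun x => (E₀ * x.1, (AddMonoidHom.mulLeft E₀).comp x.2)
  obtain ⟨f, σ, hf, hσ, hfcov, hσval⟩ := exists_isSectionOn_glue (l₁ ++ l₂) fun x hx => by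
    simp only [List.mem_append, l₁, l₂, List.mem_map, Finset.mem_toList] at hx
    rcases hx with ⟨i, -, rfl⟩ | ⟨y, hy, rfl⟩
    exacts [⟨he i, hs i⟩, ⟨hE₀.mul (hTS hy).1, (hTS hy).2.restrict hE₀⟩]
  have hf1 : f = 1 := by
    by_contra h
    have : ¬IsUnit f := fun hu => h ((IsIdempotentElem.iff_eq_one_of_isUnit hu).1 hf)
    obtain ⟨m, hm, hfm⟩ := exists_max_ideal_of_mem_nonunits this
    have hall := hfcov m hm.isPrime hfm
    have hE₀m : E₀ ∉ m := fun h => by
      obtain ⟨i, -, hi⟩ := (Ideal.IsPrime.prod_mem_iff (hp := hm.isPrime)).1 h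
      refine hm.isPrime.ne_top ((Ideal.eq_top_iff_one _).2 ?_)
      simpa using m.add_mem hi (hall (e i, s i)
        (List.mem_append_left _ (List.mem_map.2 ⟨i, by simp, rfl⟩)))
    apply hm.isPrime.ne_top
    rw [← top_le_iff, ← hT, Ideal.span_le]
    rintro _ ⟨y, hy, rfl⟩
    exact (hm.isPrime.mem_or_mem (hall (E₀ * y.1, (AddMonoidHom.mulLeft E₀).comp y.2)
      (List.mem_append_right _ (List.mem_map.2 ⟨y, Finset.mem_toList.2 hy, rfl⟩)))).resolve_left hE₀m
  subst hf1
  refine ⟨{ toFun := σ, map_one' := hσ.one, map_mul' := hσ.mul, map_zero' := σ.map_zero,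
            map_add' := σ.map_add,
            commutes' := fun r => by
              simpa [hσ.one] using hσ.smul r 1 }, fun i x => ?_⟩
  have := hσval (q i) (hqp i) (e i, s i)
    (List.mem_append_left _ (List.mem_map.2 ⟨i, by simp, rfl⟩)) (hei i) ?_ x
  · exact ((Ideal.Quotient.eq).2 this).trans (hsx i x)
  · intro y hy hyq
    simp only [List.mem_append, l₁, l₂, List.mem_map, Finset.mem_toList] at hy
    rcases hy with ⟨j, -, rfl⟩ | ⟨z, -, rfl⟩
    · by_cases hji : j = i
      · rw [hji]
      · exact absurd (hej j i (Ne.symm hji)) hyq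
    · exact absurd ((q i).mul_mem_right _ (Ideal.mem_of_dvd _
        (Finset.dvd_prod_of_mem _ (Finset.mem_univ i))
        (((hqp i).mem_or_mem_of_mul_eq_zero
          (show e i * (1 - e i) = 0 by linear_combination -(he i).eq)).resolve_left (hei i)))) hyq

end GrothLib.EtSite
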