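import Groth.Agent.Lib.EtSite.IntegralAlg
import Groth.Agent.Lib.EtSite.Points
import Mathlib.AlgebraicGeometry.Fiber
import Mathlib.AlgebraicGeometry.Limits
import Mathlib.AlgebraicGeometry.Morphisms.Integral
import Mathlib.AlgebraicGeometry.Morphisms.UniversallyOpen

/-!
# Etale neighbourhoods and integral morphisms

For an integral morphism `f : X ⟶ Y`, a geometric point `η` of `Y` and an etale `X`-scheme `W`
covering the fibre over it, there is an etale neighbourhood `U` of `η` such that the base change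
`U ×_Y X` maps to `W` over `X`, with prescribed values at finitely many geometric points over `η`.
-/

universe u

open CategoryTheory CategoryTheory.Limits AlgebraicGeometry Opposite TensorProduct
open GrothLib.Hensel (Nbhd)

namespace GrothLib.EtSite

/-- A morphism from a field spectrum landing in an open subscheme lifts. -/
lemma exists_lift_of_mem_range {U X : Scheme.{u}} (j : U ⟶ X) [IsOpenImmersion j] {Ω : Type u}
    [Field Ω] (t : Spec (CommRingCat.of Ω) ⟶ X) (h : t.base default ∈ Set.range j.base) :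
    ∃ t' : Spec (CommRingCat.of Ω) ⟶ U, t' ≫ j = t :=
  ⟨IsOpenImmersion.lift j t (by rintro _ ⟨a, rfl⟩; rwa [Subsingleton.elim a default]),
    IsOpenImmersion.lift_fac _ _ _⟩

/-- An etale affine scheme over `X` covering a quasi-compact set and through given points. -/
lemma exists_affine_etale_cover {W X : Scheme.{u}} (g : W ⟶ X) [Etale g] (F : Set X)
    (hF : IsCompact F) (hsurj : F ⊆ Set.range g.base) {ι : Type*} [Finite ι] {Ω : Type u} [Field Ω]
    (ω : ι → (Spec (CommRingCat.of Ω) ⟶ W)) :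
    ∃ (E : CommRingCat.{u}) (a : Spec E ⟶ W) (_ : Etale (a ≫ g))
      (ω' : ι → (Spec (CommRingCat.of Ω) ⟶ Spec E)),
      F ⊆ Set.range (a ≫ g).base ∧ ∀ i, ω' i ≫ a = ω i := by
  classical
  have := Fintype.ofFinite ι
  have haff : ∀ w : W, ∃ (R : CommRingCat.{u}) (j : Spec R ⟶ W),
      IsOpenImmersion j ∧ w ∈ Set.range j.base := fun w => by
    obtain ⟨R, j, hj, hw, -⟩ := AlgebraicGeometry.Scheme.exists_affine_mem_range_and_range_subset
      (x := w) (U := ⊤) (by simp)
    exact ⟨R, j, hj, hw⟩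
  choose R j hj hw using haff
  have hopen : ∀ w, IsOpen (g.base '' Set.range (j w).base) := fun w =>
    g.isOpenMap _ (j w).isOpenEmbedding.isOpen_range
  obtain ⟨s, hs⟩ := hF.elim_finite_subcover _ hopen fun x hx => by
    obtain ⟨w, rfl⟩ := hsurj hx
    exact Set.mem_iUnion.2 ⟨w, w, hw w, rfl⟩
  let κ : Finset W := s ∪ Finset.univ.image fun i => (ω i).base default
  let A : κ → CommRingCat.{u} := fun w => R w.1
  let a₀ : (∐ fun w => Spec (A w)) ⟶ W := Sigma.desc fun w => j w.1
  have : ∀ w, Etale (j w ≫ g) := fun w => by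
    have := hj w
    infer_instance
  have hét : Etale (a₀ ≫ g) := by
    have h : a₀ ≫ g = Sigma.desc fun w : κ => j w.1 ≫ g :=
      Sigma.hom_ext _ _ fun w => by rw [Sigma.ι_desc_assoc, Sigma.ι_desc]
    rw [h]
    exact IsZariskiLocalAtSource.sigmaDesc fun w => this w.1
  have hω : ∀ i, ∃ t : Spec (CommRingCat.of Ω) ⟶ ∐ fun w => Spec (A w), t ≫ a₀ = ω i := by
    intro i
    let w : κ := ⟨(ω i).base default,
      Finset.mem_union_right _ (Finset.mem_image_of_mem _ (Finset.mem_univ i))⟩
    have := hj w.1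
    obtain ⟨t, ht⟩ := exists_lift_of_mem_range (j w.1) (ω i) (hw w.1)
    exact ⟨t ≫ Sigma.ι (fun w => Spec (A w)) w, by rw [Category.assoc, Sigma.ι_desc, ht]⟩
  choose ω' hω' using hω
  have : Etale (inv (sigmaSpec A) ≫ a₀ ≫ g) := inferInstance
  refine ⟨CommRingCat.of (Π w, A w), inv (sigmaSpec A) ≫ a₀, ?_, fun i => ω' i ≫ sigmaSpec A,
    fun x hx => ?_, fun i => by rw [Category.assoc, IsIso.hom_inv_id_assoc, hω']⟩
  · rw [Category.assoc]; infer_instance
  · obtain ⟨w, hws, v, ⟨z, rfl⟩, rfl⟩ := Set.mem_iUnion₂.1 (hs hx)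
    let w' : κ := ⟨w, Finset.mem_union_left _ hws⟩
    refine ⟨(Sigma.ι (fun w => Spec (A w)) w' ≫ sigmaSpec A).base z, ?_⟩
    rw [← Scheme.Hom.comp_apply]
    simp only [Category.assoc, IsIso.hom_inv_id_assoc, a₀]
    rw [Sigma.ι_desc_assoc, Scheme.Hom.comp_apply]

/-- Sections near a geometric point of etale schemes over an integral cover. -/
theorem exists_nbhd_section {X Y : Scheme.{u}} (f : X ⟶ Y) [IsIntegralHom f] {Ω : Type u}
    [Field Ω] [IsSepClosed Ω] (η : Spec (CommRingCat.of Ω) ⟶ Y) {W : Scheme.{u}} (g : W ⟶ X)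
    [Etale g] (hsurj : ∀ x : X, f.base x = η.base default → x ∈ Set.range g.base)
    {ι : Type*} [Finite ι] (ξ : ι → (Spec (CommRingCat.of Ω) ⟶ X)) (hξ : ∀ i, ξ i ≫ f = η)
    (hinj : Function.Injective ξ) (ω : ι → (Spec (CommRingCat.of Ω) ⟶ W))
    (hω : ∀ i, ω i ≫ g = ξ i) :
    ∃ (U : Y.Etale) (t : Spec (CommRingCat.of Ω) ⟶ U.left) (ht : t ≫ U.hom = η)
      (r : pullback U.hom f ⟶ W), r ≫ g = pullback.snd U.hom f ∧
        ∀ i, pullback.lift t (ξ i) (ht.trans (hξ i).symm) ≫ r = ω i := by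
  obtain ⟨A, jY, _, hy, -⟩ := AlgebraicGeometry.Scheme.exists_affine_mem_range_and_range_subset
    (x := η.base default) (U := ⊤) (by simp)
  obtain ⟨ηA, hηA⟩ := exists_lift_of_mem_range jY η hy
  let X' := pullback f jY
  have : IsIntegralHom (pullback.snd f jY) := MorphismProperty.pullback_snd _ _ inferInstance
  have : IsAffine X' := isAffine_of_isAffineHom (pullback.snd f jY)
  let B : CommRingCat.{u} := Γ(X', ⊤)
  let k : Spec B ⟶ X := X'.isoSpec.inv ≫ pullback.fst f jY
  have : IsOpenImmersion (pullback.fst f jY) := inferInstance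
  have : IsOpenImmersion k := inferInstanceAs (IsOpenImmersion (X'.isoSpec.inv ≫ _))
  obtain ⟨φ, hφ⟩ := Spec.map_surjective (X'.isoSpec.inv ≫ pullback.snd f jY)
  have hsq : IsPullback k (Spec.map φ) f jY := by
    rw [hφ]
    exact (IsPullback.of_hasPullback f jY).of_iso X'.isoSpec (Iso.refl _) (Iso.refl _) (Iso.refl _)
      (by simp [k]) (by simp) (by simp) (by simp)
  have hint : φ.hom.IsIntegral := by
    rw [← IsIntegralHom.SpecMap_iff, hφ]
    infer_instance
  let _ : Algebra A B := φ.hom.toAlgebra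
  have : Algebra.IsIntegral A B := ⟨hint⟩
  obtain ⟨ρ, hρ⟩ := Spec.map_surjective ηA
  let _ : Algebra A Ω := ρ.hom.toAlgebra
  -- the geometric points
  have hξB : ∀ i, ∃ ψ : (B : Type u) →ₐ[A] Ω,
      Spec.map (CommRingCat.ofHom ψ.toRingHom) ≫ k = ξ i := by
    intro i
    let p := hsq.lift (ξ i) ηA ((hξ i).trans hηA.symm)
    obtain ⟨ψ, hψ⟩ := Spec.map_surjective p
    have hcomm : φ ≫ ψ = ρ := by
      apply Spec.map_injective
      rw [Spec.map_comp, hψ, hρ, IsPullback.lift_snd]
    refine ⟨⟨ψ.hom, fun a => congrArg (fun m : A ⟶ CommRingCat.of Ω => m.hom a) hcomm⟩, ?_⟩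
    change Spec.map ψ ≫ k = ξ i
    rw [hψ, IsPullback.lift_fst]
  choose ψ hψ using hξB
  -- the etale algebra
  let gB := pullback.snd g k
  have : Etale gB := MorphismProperty.pullback_snd _ _ inferInstance
  let ωB : ι → (Spec (CommRingCat.of Ω) ⟶ pullback g k) := fun i =>
    pullback.lift (ω i) (Spec.map (CommRingCat.ofHom (ψ i).toRingHom)) ((hω i).trans (hψ i).symm)
  obtain ⟨E, a, haE, ωE, hcov, hωE⟩ := exists_affine_etale_cover gB
    ((Spec.map φ).base ⁻¹' {ηA.base default})
    (Scheme.Hom.isCompact_preimage_singleton (Spec.map φ) _) (fun b hb => by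
      obtain ⟨w, hw⟩ := hsurj (k.base b) (by
        rw [← hηA, ← Scheme.Hom.comp_apply, hsq.w, Scheme.Hom.comp_apply, Scheme.Hom.comp_apply]
        exact congrArg jY.base hb)
      obtain ⟨z, -, hz⟩ := Scheme.Pullback.exists_preimage_pullback (f := g) (g := k) w b hw
      exact ⟨z, hz⟩) ωB
  obtain ⟨χ, hχ⟩ := Spec.map_surjective (a ≫ gB)
  let _ : Algebra B E := χ.hom.toAlgebra
  have : Algebra.Etale B E := by
    have : χ.hom.Etale := by
      rw [← HasRingHomProperty.Spec_iff (P := @Etale), hχ]; exact haE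
    exact this
  have hωr : ∀ i, ∃ θ : (E : Type u) →+* Ω,
      θ.comp (algebraMap B E) = (ψ i).toRingHom ∧ Spec.map (CommRingCat.ofHom θ) = ωE i := by
    intro i
    obtain ⟨θ, hθ⟩ := Spec.map_surjective (ωE i)
    have h : χ ≫ θ = CommRingCat.ofHom (ψ i).toRingHom := by
      apply Spec.map_injective
      rw [Spec.map_comp, hθ, hχ, ← Category.assoc, hωE]
      exact pullback.lift_snd _ _ _
    exact ⟨θ.hom, congrArg CommRingCat.Hom.hom h, hθ⟩
  choose θ hθ hθω using hωr
  have hψinj : Function.Injective ψ := fun i i' h => hinj (by rw [← hψ i, ← hψ i', h])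
  obtain ⟨N, τ, hτ⟩ := exists_stage_section (A := A) (B := B) (E := E) (Ω := Ω) (fun P hP hPA => by
    have hmem : (⟨P, hP⟩ : PrimeSpectrum B) ∈
        (Spec.map φ).base ⁻¹' {ηA.base default} := by
      change (Spec.map φ).base _ = ηA.base default
      rw [← hρ]
      refine PrimeSpectrum.ext (hPA.trans ?_)
      exact (congrArg (Ideal.comap ρ.hom) (Ideal.eq_bot_of_prime _)).symm
    obtain ⟨Q, hQ⟩ := hcov hmem
    rw [← hχ] at hQ
    exact ⟨Q.asIdeal, Q.isPrime, congrArg PrimeSpectrum.asIdeal hQ⟩) ψ hψinj θ hθ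
  -- the neighbourhood
  have hsm : Etale (Spec.map (CommRingCat.ofHom (algebraMap A N.Ring))) := by
    rw [HasRingHomProperty.Spec_iff (P := @Etale)]
    exact RingHom.etale_algebraMap.2 N.etale
  let u := Spec.map (CommRingCat.ofHom (algebraMap A N.Ring))
  let t : Spec (CommRingCat.of Ω) ⟶ Spec (CommRingCat.of N.Ring) :=
    Spec.map (CommRingCat.ofHom N.pt.toRingHom)
  have htu : t ≫ u = ηA := by
    rw [← hρ, ← Spec.map_comp]
    congr 1
    exact CommRingCat.hom_ext N.pt.comp_algebraMap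
  let U : Y.Etale := Scheme.Etale.mk (u ≫ jY)
  have ht : t ≫ U.hom = η := by
    change t ≫ u ≫ jY = η
    rw [← Category.assoc, htu, hηA]
  let b : pullback (u ≫ jY) f ⟶ Spec B :=
    hsq.lift (pullback.snd _ _) (pullback.fst _ _ ≫ u) (by rw [Category.assoc, pullback.condition])
  let c : pullback (u ≫ jY) f ⟶ Spec (CommRingCat.of ((B : Type u) ⊗[A] N.Ring)) :=
    pullback.lift b (pullback.fst _ _) (hsq.lift_snd _ _ _) ≫ (pullbackSpecIso A B N.Ring).hom
  let r : pullback U.hom f ⟶ W :=
    c ≫ Spec.map (CommRingCat.ofHom τ.toRingHom) ≫ a ≫ pullback.fst g k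
  have hbk : b ≫ k = pullback.snd (u ≫ jY) f := hsq.lift_fst _ _ _
  have main : c ≫ Spec.map (CommRingCat.ofHom (algebraMap B ((B : Type u) ⊗[A] N.Ring))) = b := by
    simp only [c, Category.assoc, pullbackSpecIso_hom_fst']
    exact pullback.lift_fst _ _ _
  have hr : (c ≫ Spec.map (CommRingCat.ofHom τ.toRingHom) ≫ a ≫ pullback.fst g k) ≫ g =
      pullback.snd (u ≫ jY) f := by
    have h1 : Spec.map (CommRingCat.ofHom τ.toRingHom) ≫ a ≫ pullback.snd g k =
        Spec.map (CommRingCat.ofHom (algebraMap B ((B : Type u) ⊗[A] N.Ring))) := by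
      rw [← hχ, ← Spec.map_comp]
      congr 1
      exact CommRingCat.hom_ext τ.comp_algebraMap
    rw [← hbk, ← main, ← h1]
    simp only [Category.assoc, pullback.condition]
  have hr' : ∀ i (w : t ≫ u ≫ jY = ξ i ≫ f), pullback.lift t (ξ i) w ≫
      c ≫ Spec.map (CommRingCat.ofHom τ.toRingHom) ≫ a ≫ pullback.fst g k = ω i := by
    intro i w
    have hb : pullback.lift t (ξ i) w ≫ b = Spec.map (CommRingCat.ofHom (ψ i).toRingHom) := by
      apply hsq.hom_ext
      · rw [Category.assoc, hbk, hψ]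
        exact pullback.lift_snd _ _ _
      · rw [Category.assoc, hsq.lift_snd, pullback.lift_fst_assoc, htu, ← hρ, ← Spec.map_comp]
        congr 1
        exact CommRingCat.hom_ext (ψ i).comp_algebraMap.symm
    have hc : pullback.lift t (ξ i) w ≫ c = Spec.map (CommRingCat.ofHom
        (Algebra.TensorProduct.lift (ψ i) N.pt (fun _ _ => .all _ _)).toRingHom) := by
      simp only [c, ← Category.assoc]
      rw [← Iso.eq_comp_inv]
      apply pullback.hom_ext
      · refine ((Category.assoc _ _ _).trans (congrArg (_ ≫ ·) (pullback.lift_fst _ _ _))).trans ?_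
        rw [hb, Category.assoc]
        erw [pullbackSpecIso_inv_fst]
        rw [← Spec.map_comp]
        congr 1
        refine CommRingCat.hom_ext (RingHom.ext fun x => ?_)
        change ψ i x = Algebra.TensorProduct.lift (ψ i) N.pt (fun _ _ => .all _ _) (x ⊗ₜ 1)
        rw [Algebra.TensorProduct.lift_tmul, map_one, mul_one]
      · refine ((Category.assoc _ _ _).trans (congrArg (_ ≫ ·) (pullback.lift_snd _ _ _))).trans ?_
        rw [pullback.lift_fst, Category.assoc]
        erw [pullbackSpecIso_inv_snd]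
        rw [← Spec.map_comp]
        change Spec.map _ = Spec.map _
        congr 1
        refine CommRingCat.hom_ext (RingHom.ext fun x => ?_)
        change N.pt x = Algebra.TensorProduct.lift (ψ i) N.pt (fun _ _ => .all _ _) ((1 : B) ⊗ₜ x)
        rw [Algebra.TensorProduct.lift_tmul, map_one, one_mul]
    have h2 : CommRingCat.ofHom τ.toRingHom ≫ CommRingCat.ofHom (R := (B : Type u) ⊗[A] N.Ring)
        (Algebra.TensorProduct.lift (ψ i) N.pt (fun _ _ => .all _ _)).toRingHom =
          CommRingCat.ofHom (θ i) := by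
      refine CommRingCat.hom_ext (RingHom.ext fun e => ?_)
      exact hτ i e
    rw [← Category.assoc, hc, ← Category.assoc, ← Spec.map_comp, h2, hθω, ← Category.assoc, hωE]
    exact pullback.lift_fst _ _ _
  exact ⟨U, t, ht, r, hr, fun i => hr' i _⟩

end GrothLib.EtSite
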