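import Groth.Agent.Lib.EtSite.UHQuot
import Groth.Agent.Lib.EtSite.IntegralPush
import Groth.Agent.Lib.AlgSp.LqfScheme
import Groth.Agent.Lib.AlgSp.FppfDescent
import Groth.Prelude.Def_EtBase

/-!
# Topological invariance of the small etale site

Base change along an integral, universally injective, surjective morphism is an equivalence of the
categories of etale schemes.
-/

universe u

open CategoryTheory CategoryTheory.Limits AlgebraicGeometry Opposite

set_option backward.isDefEq.respectTransparency.types false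

noncomputable section

namespace GrothLib.UHQuot

open GrothLib.AlgSp

variable {S S' : Scheme.{u}} {g : S' ⟶ S} [IsIntegralHom g] [UniversallyInjective g] [Surjective g]
  {X' : Scheme.{u}} {f : X' ⟶ S'} [Etale f]

/-- Every point lies in the image of a chart. -/
theorem exists_local_chart (x : X') :
    ∃ (U : Over S) (_ : Etale U.hom) (a : pullback U.hom g ⟶ X'),
      a ≫ f = pullback.snd U.hom g ∧ x ∈ Set.range a.base := by
  let ω := GrothLib.EtSite.gpt x
  let ξ := ω ≫ f
  let η := ξ ≫ g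
  obtain ⟨U, t, ht, r, hr, hω⟩ := GrothLib.EtSite.exists_nbhd_section g η f (fun y hy => by
      have h : y = ξ.base default := g.injective (hy.trans (congrArg (fun m => m.base default) (rfl : η = ξ ≫ g)))
      exact ⟨ω.base default, h.symm⟩)
    (ι := PUnit.{u + 1}) (fun _ => ξ) (fun _ => rfl) (fun _ _ _ => rfl) (fun _ => ω) (fun _ => rfl)
  haveI : Etale U.hom := U.prop
  refine ⟨Over.mk U.hom, inferInstanceAs (Etale U.hom), r, hr, ?_⟩
  refine ⟨(pullback.lift t ξ (ht.trans rfl) : _ ⟶ pullback U.hom g).base default, ?_⟩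
  refine (congrArg (fun m => m.base default) (hω ⟨⟩)).trans ?_
  exact GrothLib.EtSite.gpt_default x

/-- Charts combine. -/
theorem exists_datum {ι : Type u} (U : ι → Over S) [∀ i, Etale (U i).hom]
    (a : ∀ i, pullback (U i).hom g ⟶ X') (w : ∀ i, a i ≫ f = pullback.snd (U i).hom g) :
    ∃ (D : Datum g f) (j : ∀ i, U i ⟶ D.U), (∀ i, IsOpenImmersion (j i).left) ∧
      (∀ x : D.U.left, ∃ i y, (j i).left.base y = x) ∧ ∀ i, bcMap g (j i) ≫ D.a = a i := by
  let q : ∐ (fun i => (U i).left) ⟶ S := Sigma.desc fun i => (U i).hom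
  haveI : Etale q := IsZariskiLocalAtSource.sigmaDesc (P := @Etale) fun i => inferInstance
  let Q : Over S := Over.mk q
  let j : ∀ i, U i ⟶ Q := fun i => Over.homMk (Sigma.ι (fun i => (U i).left) i) (Sigma.ι_desc _ _)
  haveI hjo : ∀ i, IsOpenImmersion (j i).left := fun i =>
    inferInstanceAs (IsOpenImmersion (Sigma.ι (fun i => (U i).left) i))
  have hjs : ∀ x : Q.left, ∃ i y, (j i).left.base y = x := fun x =>
    ⟨_, (Scheme.Cover.exists_eq (sigmaOpenCover (fun i => (U i).left)) x).choose_spec⟩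
  have hsq : ∀ i, IsPullback (pullback.fst (U i).hom g) (bcMap g (j i)) (j i).left (pullback.fst Q.hom g) :=
    fun i => by
      refine IsPullback.of_bot ?_ (bcMap_fst g (j i)).symm (IsPullback.of_hasPullback Q.hom g)
      rw [bcMap_snd, Over.w]
      exact IsPullback.of_hasPullback (U i).hom g
  haveI : ∀ i, IsOpenImmersion (bcMap g (j i)) := fun i => MorphismProperty.of_isPullback (hsq i) (hjo i)
  obtain ⟨hc⟩ := nonempty_isColimit_cofanMk_of (fun i => bcMap g (j i)) (by
    refine eq_top_iff.2 fun z _ => ?_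
    obtain ⟨i, y, hy⟩ := hjs (pullback.fst Q.hom g z)
    obtain ⟨v, hv, -⟩ := Scheme.exists_preimage_of_isPullback (hsq i).flip z y hy.symm
    exact TopologicalSpace.Opens.mem_iSup.2 ⟨i, v, hv⟩) (by
    intro i k hik
    rw [Function.onFun, disjoint_iff]
    ext z
    refine ⟨?_, fun h => h.elim⟩
    rintro ⟨⟨v, hv⟩, ⟨v', hv'⟩⟩
    have e : (j i).left.base (pullback.fst (U i).hom g v) = (j k).left.base (pullback.fst (U k).hom g v') := by
      rw [← Scheme.Hom.comp_apply, ← bcMap_fst, Scheme.Hom.comp_apply, hv, ← hv', ← Scheme.Hom.comp_apply,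
        bcMap_fst, Scheme.Hom.comp_apply]
    exact hik (congrArg Sigma.fst ((sigmaι_eq_iff _ _ _ _ _).1 e)))
  let a' : pullback Q.hom g ⟶ X' := hc.desc (Cofan.mk X' a)
  have ha : ∀ i, bcMap g (j i) ≫ a' = a i := fun i => hc.fac (Cofan.mk X' a) ⟨i⟩
  refine ⟨{ U := Q, etale := inferInstanceAs (Etale q), a := a', w := ?_ }, j, hjo, hjs, ha⟩
  refine Cofan.IsColimit.hom_ext hc _ _ fun i => ?_
  change bcMap g (j i) ≫ a' ≫ f = bcMap g (j i) ≫ pullback.snd Q.hom g
  rw [← Category.assoc, ha i, w i, bcMap_snd]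

/-- The separated case. -/
theorem exists_descent_of_separated [IsSeparated f] :
    ∃ (M : Over S) (_ : Etale M.hom) (m : pullback M.hom g ⟶ X'), IsIso m ∧ m ≫ f = pullback.snd M.hom g := by
  choose U hU a w hx using fun x : X' => exists_local_chart (g := g) (f := f) x
  obtain ⟨D, j, -, -, hja⟩ := exists_datum U a w
  have hsurj : Surjective D.a := ⟨fun x => by
    obtain ⟨y, hy⟩ := hx x
    refine ⟨(bcMap g (j x)).base y, ?_⟩
    rw [← Scheme.Hom.comp_apply, hja x]
    exact hy⟩
  let T0 : Over S := Over.mk (𝟙 S)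
  have hT : IsTerminal ((_root_.AlgSp.yon S).obj T0) :=
    IsTerminal.isTerminalObj (_root_.AlgSp.yon S) T0 Over.mkIdTerminal
  let f0 : F D ⟶ (_root_.AlgSp.yon S).obj T0 := hT.from _
  obtain ⟨hF, pe, ps⟩ := space D
  have hcl : IsClosedImmersion (prod.lift (t D) (s D)).left := by
    have : prod.lift (t D) (s D) = incl D := prod.hom_ext (prod.lift_fst _ _) (prod.lift_snd _ _)
    rw [this]
    exact IsClosedImmersion.of_isPreimmersion (O D).ι (by rw [Scheme.Opens.range_ι]; exact isClosed_O D inferInstance)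
  have hsep : _root_.AlgSp.IsSeparatedMor f0 := repWith_diagonal f0
    (repWith_diag_of_chart fppfDescends_isClosedImmersion hF.diag pe ps (sq D) hcl)
  have hqf : _root_.AlgSp.LocP (@LocallyQuasiFinite ⊓ @LocallyOfFiniteType) f0 := by
    refine EtLocal.locP_of_chart (EtLocal.inf EtLocal.lqf EtLocal.lft) (h := Over.homMk D.U.hom) pe ps
      (_root_.AlgSp.repWith_id @Etale T0) (hT.hom_ext _ _) ?_
    haveI : Etale D.U.hom := D.etale
    exact ⟨GrothLib.AlgSp.locallyQuasiFinite_of_unramified D.U.hom, inferInstanceAs (LocallyOfFiniteType D.U.hom)⟩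
  obtain ⟨M, ⟨e⟩⟩ := exists_iso_yon_of_lqf_separated hF f0 hqf hsep
  obtain ⟨hM, m, hm⟩ := exists_descent D hsurj M e
  exact ⟨M, hM, m, hm⟩

/-- Etale schemes descend along universal homeomorphisms. -/
theorem exists_descent_all :
    ∃ (M : Over S) (_ : Etale M.hom) (m : pullback M.hom g ⟶ X'), IsIso m ∧ m ≫ f = pullback.snd M.hom g := by
  have hA : ∀ A : X'.affineOpens, ∃ (M : Over S) (_ : Etale M.hom) (m : pullback M.hom g ⟶ (A.1 : Scheme.{u})),
      IsIso m ∧ m ≫ A.1.ι ≫ f = pullback.snd M.hom g := fun A => by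
    haveI : IsAffine (A.1 : Scheme.{u}) := A.2
    haveI : IsSeparated ((A.1.ι ≫ f) ≫ terminal.from S') := by
      rw [Subsingleton.elim ((A.1.ι ≫ f) ≫ terminal.from S') (terminal.from _)]
      infer_instance
    haveI : IsSeparated (A.1.ι ≫ f) := IsSeparated.of_comp _ (terminal.from S')
    exact exists_descent_of_separated
  choose U hU m hm w using hA
  obtain ⟨D, j, hjo, hjs, hja⟩ := exists_datum (f := f) U (fun A => m A ≫ A.1.ι)
    (fun A => (Category.assoc _ _ _).trans (w A))
  have hsurj : Surjective D.a := ⟨fun x => by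
    obtain ⟨V, hV, hxV, -⟩ := exists_isAffineOpen_mem_and_subset (U := (⊤ : X'.Opens)) (x := x) trivial
    haveI := hm ⟨V, hV⟩
    obtain ⟨y, hy⟩ := (m ⟨V, hV⟩).surjective ⟨x, hxV⟩
    refine ⟨(bcMap g (j ⟨V, hV⟩)).base y, ?_⟩
    rw [← Scheme.Hom.comp_apply, hja, Scheme.Hom.comp_apply, hy]
    rfl⟩
  obtain ⟨hF, pe, ps⟩ := space D
  let i : ∀ A, (_root_.AlgSp.yon S).obj (U A) ⟶ F D := fun A => (_root_.AlgSp.yon S).map (j A) ≫ p D
  have hmono : ∀ A, Mono (i A) := fun A => mono_of_yon fun T x y hxy => by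
    obtain ⟨x, rfl⟩ := (_root_.AlgSp.yon S).map_surjective x
    obtain ⟨y, rfl⟩ := (_root_.AlgSp.yon S).map_surjective y
    congr 1
    have hxy' : (_root_.AlgSp.yon S).map (x ≫ j A) ≫ p D = (_root_.AlgSp.yon S).map (y ≫ j A) ≫ p D := by
      rw [Functor.map_comp, Functor.map_comp, Category.assoc, Category.assoc]
      exact hxy
    obtain ⟨r, hr⟩ := (_root_.AlgSp.yon S).map_surjective ((sq D).lift _ _ hxy')
    have hr1 : r ≫ t D = x ≫ j A := (_root_.AlgSp.yon S).map_injective (by
      rw [Functor.map_comp _ r (t D), hr]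
      exact (sq D).lift_fst _ _ _)
    have hr2 : r ≫ s D = y ≫ j A := (_root_.AlgSp.yon S).map_injective (by
      rw [Functor.map_comp _ r (s D), hr]
      exact (sq D).lift_snd _ _ _)
    have h := (rel_iff D _ _).1 ⟨r, hr1, hr2⟩
    rw [bcMap_comp, bcMap_comp, Category.assoc, Category.assoc, hja, ← Category.assoc, ← Category.assoc,
      cancel_mono A.1.ι] at h
    haveI := hm A
    rw [cancel_mono (m A)] at h
    haveI := hU A
    refine (GrothLib.EtSite.pullback_map_bijective g (U A) T).1 (Over.OverMorphism.ext ?_)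
    exact h
  have hi : ∀ A, _root_.AlgSp.RepWith @IsOpenImmersion (i A) := fun A => by
    have he : _root_.AlgSp.RepWith @Etale (i A) :=
      repWith_comp ((_root_.AlgSp.repWith_yon_map_iff @Etale (j A)).2
        (haveI := hjo A; inferInstanceAs (Etale (j A).left))) pe
    refine ⟨he.1, fun V W φ fst snd sqW => ?_⟩
    have h1 : Etale snd.left := he.2 φ fst snd sqW
    have h2 : Mono ((_root_.AlgSp.yon S).map snd) :=
      MorphismProperty.of_isPullback (P := MorphismProperty.monomorphisms _) sqW (hmono A)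
    haveI : Mono snd := (_root_.AlgSp.yon S).mono_of_mono_map h2
    haveI : Mono snd.left := inferInstanceAs (Mono ((Over.forget S).map snd))
    exact IsOpenImmersion.of_flat_of_mono snd.left
  obtain ⟨M, e, -, -⟩ := exists_iso_yon_of_openCover U i hi fun x => by
    obtain ⟨u, rfl⟩ := surjective_ofPt_of_repWith ps x
    obtain ⟨A, y, rfl⟩ := hjs u
    refine ⟨A, _root_.AlgSp.Points.ofScheme (U A) y, ?_⟩
    rw [← ofPt_map_comp, _root_.AlgSp.Points.ofPt_eq_map_ofScheme]
  obtain ⟨hM, m', hm'⟩ := exists_descent D hsurj M e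
  exact ⟨M, hM, m', hm'⟩

/-- Base change along a universal homeomorphism is an equivalence of etale sites. -/
theorem isEquivalence_bc (g : S' ⟶ S) [IsIntegralHom g] [UniversallyInjective g] [Surjective g] :
    (EtCoh.bc g).IsEquivalence := by
  have hb : ∀ (U V : S.Etale), Function.Bijective fun φ : U ⟶ V => (EtCoh.bc g).map φ := fun U V => by
    haveI : Etale ((Scheme.Etale.forget S).obj V).hom := V.prop
    have h := GrothLib.EtSite.pullback_map_bijective g ((Scheme.Etale.forget S).obj V) ((Scheme.Etale.forget S).obj U)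
    have hc : ∀ φ : U ⟶ V, (Scheme.Etale.forget S').map ((EtCoh.bc g).map φ) =
        (Over.pullback g).map ((Scheme.Etale.forget S).map φ) := fun φ => Over.OverMorphism.ext rfl
    refine ⟨fun φ ψ e => (Scheme.Etale.forget S).map_injective (h.1 ?_), fun ψ => ?_⟩
    · exact ((hc φ).symm.trans (congrArg _ e)).trans (hc ψ)
    · obtain ⟨φ0, hφ0⟩ := h.2 ((Scheme.Etale.forget S').map ψ)
      obtain ⟨φ, rfl⟩ := (Scheme.Etale.forget S).map_surjective φ0
      exact ⟨φ, (Scheme.Etale.forget S').map_injective ((hc φ).trans hφ0)⟩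
  haveI : (EtCoh.bc g).Faithful := ⟨fun {U V} => (hb U V).1⟩
  haveI : (EtCoh.bc g).Full := ⟨fun {U V} => (hb U V).2⟩
  haveI : (EtCoh.bc g).EssSurj := ⟨fun X => by
    haveI : Etale X.hom := X.prop
    obtain ⟨M, hM, m, hm, hw⟩ := exists_descent_all (g := g) (f := X.hom)
    refine ⟨Scheme.Etale.mk M.hom, ⟨MorphismProperty.Over.isoMk (@asIso _ _ _ _ m hm) ?_⟩⟩
    exact hw⟩
  exact { }

end GrothLib.UHQuot
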