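import Groth.Agent.Lib.EtSite.PropSplit
import Mathlib.CategoryTheory.Adjunction.FullyFaithful

/-!
# Consequences of conditions (A) and (C); condition (C) for closed embeddings
-/

universe w u

open CategoryTheory CategoryTheory.Limits AlgebraicGeometry Opposite

namespace GrothLib.EtSite

variable {X Y : Scheme.{u}} (f : X ⟶ Y)

/-- The single arrow given by a surjective morphism is separating for sheaves. -/
lemma eq_of_map_surjective {P : X.Etaleᵒᵖ ⥤ Type w}
    (hP : Presieve.IsSheaf X.smallEtaleTopology P) {T U : X.Etale} (h : T ⟶ U)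
    (hh : Function.Surjective h.left.base) (s s' : P.obj (op U))
    (e : P.map h.op s = P.map h.op s') : s = s' := by
  have hR : Sieve.generate (Presieve.singleton h) ∈ X.smallEtaleTopology U :=
    (mem_topology_iff _).2 fun u => by
      obtain ⟨v, hv⟩ := hh u
      exact ⟨T, h, v, Sieve.le_generate _ _ _ (Presieve.singleton_self h), hv⟩
  refine ((Presieve.isSheafFor_iff_generate _).2 (hP _ hR)).isSeparatedFor.ext ?_
  rintro _ _ ⟨⟩
  exact e

/-- Condition (C), on the small etale sites. -/
lemma exists_surjective_bc (hC : BigSite.PropC f) (U : X.Etale) :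
    ∃ (V : Y.Etale) (h : (EtCoh.bc f).obj V ⟶ U), Function.Surjective h.left.base := by
  have : Etale U.hom := U.prop
  obtain ⟨V, v, _, h, hh, hs⟩ := hC U.left U.hom
  refine ⟨Scheme.Etale.mk v, MorphismProperty.Over.homMk ((pullbackSymmetry v f).hom ≫ h) ?_, ?_⟩
  · refine (Category.assoc _ _ _).trans ((congrArg (_ ≫ ·) hh).trans ?_)
    exact pullbackSymmetry_hom_comp_fst _ _
  · intro x
    obtain ⟨z, hz⟩ := hs.surj x
    refine ⟨(pullbackSymmetry v f).inv.base z, ?_⟩
    change ((pullbackSymmetry v f).hom ≫ h).base ((pullbackSymmetry v f).inv.base z) = x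
    rw [← Scheme.Hom.comp_apply, Iso.inv_hom_id_assoc]
    exact hz

/-- Under condition (C), direct image of sheaves of sets is faithful. -/
theorem pushSh_faithful_of_propC (hC : BigSite.PropC f) : (EtDesc.pushSh f).Faithful := by
  refine ⟨fun {F G a b} hab => ?_⟩
  ext U s
  obtain ⟨V, h, hh⟩ := exists_surjective_bc f hC U.unop
  refine eq_of_map_surjective ((isSheaf_iff_isSheaf_of_type _ _).1 G.property) h hh _ _ ?_
  exact ((NatTrans.naturality_apply a.hom h.op s).symm.trans
    (congrArg (fun k : (EtDesc.pushSh f).obj F ⟶ _ => k.hom.app (op V) (F.obj.map h.op s)) hab)).trans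
    (NatTrans.naturality_apply b.hom h.op s)

/-- Condition (A), on the small etale sites. -/
lemma exists_clopen_bc (hA : BigSite.PropA f) (U : X.Etale) (u : U.left) :
    ∃ (V : Y.Etale) (O : ((EtCoh.bc f).obj V).left.Opens)
      (_ : IsClosed (O : Set ↥((EtCoh.bc f).obj V).left))
      (h : opensObj ((EtCoh.bc f).obj V) O ⟶ U), u ∈ Set.range h.left.base := by
  have : Etale U.hom := U.prop
  obtain ⟨V, v, _, W, hW, h, hh, hu⟩ := hA U.left U.hom u
  let σ : pullback v f ≅ pullback f v := pullbackSymmetry v f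
  let k : opensObj ((EtCoh.bc f).obj (Scheme.Etale.mk v)) (σ.hom ⁻¹ᵁ W) ⟶ U :=
    MorphismProperty.Over.homMk ((σ.hom ∣_ W) ≫ h) (by
      refine (Category.assoc _ _ _).trans ((congrArg (_ ≫ ·) hh).trans ?_)
      refine (Category.assoc _ _ _).symm.trans ((congrArg (· ≫ _) (morphismRestrict_ι _ _)).trans ?_)
      refine (Category.assoc _ _ _).trans ?_
      exact congrArg (_ ≫ ·) (pullbackSymmetry_hom_comp_fst _ _))
  obtain ⟨w, hw⟩ := hu
  obtain ⟨z, hz⟩ := (σ.hom ∣_ W).surjective w
  refine ⟨Scheme.Etale.mk v, σ.hom ⁻¹ᵁ W, hW.preimage σ.hom.continuous, k, z, ?_⟩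
  change ((σ.hom ∣_ W) ≫ h).base z = u
  rw [Scheme.Hom.comp_apply, hz, hw]

/-- Under condition (A), direct image of abelian sheaves is faithful. -/
theorem push_faithful_of_propA (hA : BigSite.PropA f) : (EtCoh.push f).Faithful := by
  refine ⟨fun {F G a b} hab => ?_⟩
  ext U s
  let P (H : EtCoh.Ab X) := (sheafCompose X.smallEtaleTopology (forget AddCommGrpCat.{u + 1})).obj H
  have hP : ∀ H, Presieve.IsSheaf X.smallEtaleTopology (P H).obj := fun H =>
    (isSheaf_iff_isSheaf_of_type _ _).1 (P H).property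
  choose V O hO h w hw using fun u => exists_clopen_bc f hA U.unop u
  have hR : Sieve.generate (Presieve.ofArrows _ h) ∈ X.smallEtaleTopology U.unop :=
    (mem_topology_iff _).2 fun u =>
      ⟨_, h u, w u, Sieve.le_generate _ _ _ (Presieve.ofArrows.mk u), hw u⟩
  refine ((Presieve.isSheafFor_iff_generate _).2 (hP G _ hR)).isSeparatedFor.ext ?_
  rintro _ _ ⟨u⟩
  change G.obj.map (h u).op (a.hom.app U s) = G.obj.map (h u).op (b.hom.app U s)
  rw [← NatTrans.naturality_apply, ← NatTrans.naturality_apply]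
  -- extend the section by zero outside the clopen piece
  let T := (EtCoh.bc f).obj (V u)
  let O' : Bool → T.left.Opens := fun c =>
    cond c (O u) ⟨(O u : Set ↥T.left)ᶜ, (hO u).isOpen_compl⟩
  have hdisj : ∀ c d, c ≠ d → Disjoint (O' c) (O' d) := by
    intro c d hcd
    rw [disjoint_iff_inf_le]
    cases c <;> cases d <;> simp_all [O', TopologicalSpace.Opens.mem_mk, SetLike.le_def]
  have hsup : (⨆ c, O' c) = ⊤ := by
    rw [eq_top_iff]
    intro x _
    by_cases hx : x ∈ O u
    · exact TopologicalSpace.Opens.mem_iSup.2 ⟨true, hx⟩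
    · exact TopologicalSpace.Opens.mem_iSup.2 ⟨false, hx⟩
  let z : ∀ c, (P F).obj.obj (op (opensObj T (O' c))) := fun c =>
    match c with
    | true => F.obj.map (h u).op s
    | false => (0 : F.obj.obj (op (opensObj T (O' false))))
  obtain ⟨t, ht, -⟩ := existsUnique_glue (hP F) T O' hdisj hsup z
  have h1 : a.hom.app (op T) t = b.hom.app (op T) t :=
    congrArg (fun k : (EtCoh.push f).obj F ⟶ _ => k.hom.app (op (V u)) t) hab
  have h2 := ht true
  change a.hom.app _ (z true) = b.hom.app _ (z true)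
  rw [← h2]
  change a.hom.app _ (F.obj.map _ t) = b.hom.app _ (F.obj.map _ t)
  rw [NatTrans.naturality_apply, NatTrans.naturality_apply, h1]

/-- Under condition (C) for all base changes, base change is almost cocontinuous. -/
theorem bc_isAlmostCocontinuous
    (hC : ∀ (V : Scheme.{u}) (v : V ⟶ Y) [Etale v], BigSite.PropC (pullback.snd f v))
    (hcl : ∀ (V : Scheme.{u}) (v : V ⟶ Y) [Etale v], IsClosedMap (pullback.snd f v).base) :
    BigSite.IsAlmostCocontinuous (EtCoh.bc f) Y.smallEtaleTopology X.smallEtaleTopology := by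
  intro U R hR
  have : Etale U.hom := U.prop
  let σ : ((EtCoh.bc f).obj U).left ≅ pullback f U.hom := pullbackSymmetry U.hom f
  refine ⟨{ arrows := fun V g =>
      (⊥ : Sieve ((EtCoh.bc f).obj V)) ∈ X.smallEtaleTopology _ ∨ R ((EtCoh.bc f).map g)
            downward_closed := ?_ }, (mem_topology_iff _).2 fun y => ?_, fun V g hg => hg⟩
  · rintro V W g (hg | hg) e
    · refine Or.inl ((mem_topology_iff _).2 fun x => ?_)
      obtain ⟨_, _, _, h, -⟩ := (mem_topology_iff _).1 hg (((EtCoh.bc f).map e).left.base x)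
      exact h.elim
    · refine Or.inr ?_
      rw [Functor.map_comp]
      exact R.downward_closed hg _
  by_cases hy : y ∈ Set.range (pullback.snd f U.hom).base
  · obtain ⟨x, rfl⟩ := hy
    obtain ⟨W, g, w, hg, hw⟩ := (mem_topology_iff _).1 hR (σ.inv x)
    have : Etale g.left := inferInstance
    obtain ⟨V, v, _, h, hh, hs⟩ := hC U.left U.hom W.left (g.left ≫ σ.hom)
    obtain ⟨z, hz⟩ := hs.surj w
    let V' : Y.Etale := Scheme.Etale.mk (v ≫ U.hom)
    let e : V' ⟶ U := MorphismProperty.Over.homMk v rfl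
    let k : ((EtCoh.bc f).obj V').left ⟶ pullback (pullback.snd f U.hom) v :=
      pullback.lift (((EtCoh.bc f).map e).left ≫ σ.hom) (pullback.fst (v ≫ U.hom) f) (by
        refine (Category.assoc _ _ _).trans ((congrArg (_ ≫ ·) (pullbackSymmetry_hom_comp_snd _ _)).trans ?_)
        exact (EtCoh.isPullback_bc_map f e).w)
    have hk : (k ≫ h) ≫ g.left = ((EtCoh.bc f).map e).left := by
      rw [← cancel_mono σ.hom, Category.assoc, Category.assoc, hh]
      exact pullback.lift_fst _ _ _
    let k' : (EtCoh.bc f).obj V' ⟶ W := MorphismProperty.Over.homMk (k ≫ h) (by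
      refine (congrArg (_ ≫ ·) (Over.w g.hom).symm).trans ?_
      refine (Category.assoc _ _ _).symm.trans ((congrArg (· ≫ _) hk).trans ?_)
      exact Over.w ((EtCoh.bc f).map e).hom)
    refine ⟨V', e, (pullback.snd (pullback.snd f U.hom) v).base z, Or.inr ?_, ?_⟩
    · have : k' ≫ g = (EtCoh.bc f).map e := MorphismProperty.Over.Hom.ext hk
      rw [← this]
      exact R.downward_closed hg _
    · change v.base _ = _
      rw [← Scheme.Hom.comp_apply, ← pullback.condition, Scheme.Hom.comp_apply]
      refine congrArg (pullback.snd f U.hom).base ?_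
      have h1 : g.left.base (h.base z) = σ.inv.base x := hz ▸ hw
      have h2 : (pullback.fst (pullback.snd f U.hom) v).base z = (g.left ≫ σ.hom).base (h.base z) := by
        rw [← Scheme.Hom.comp_apply, hh]
      rw [h2, Scheme.Hom.comp_apply, h1, ← Scheme.Hom.comp_apply, Iso.inv_hom_id]
      rfl
  · let O : U.left.Opens := ⟨(Set.range (pullback.snd f U.hom).base)ᶜ,
      ((hcl U.left U.hom).isClosed_range).isOpen_compl⟩
    have hempty : IsEmpty ↥((EtCoh.bc f).obj (opensObj U O)).left := ⟨fun z => by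
      have h1 := congrArg (fun k => k.base z) (EtCoh.isPullback_bc_map f (opensHom U O)).w
      simp only [Scheme.Hom.comp_apply] at h1
      refine ((pullback.fst (opensObj U O).hom f).base z).2
        ⟨σ.hom.base (((EtCoh.bc f).map (opensHom U O)).left.base z), ?_⟩
      exact ((Scheme.Hom.comp_apply _ _ _).symm.trans (congrArg
        (fun q => q.base (((EtCoh.bc f).map (opensHom U O)).left.base z))
        (pullbackSymmetry_hom_comp_snd U.hom f))).trans h1⟩
    exact ⟨_, opensHom U O, ⟨y, hy⟩,
      Or.inl ((mem_topology_iff _).2 fun z => hempty.elim z), rfl⟩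

/-- An integral closed embedding satisfies condition (C). -/
theorem propC_of_integral [IsIntegralHom f] (hf : Function.Injective f.base) :
    BigSite.PropC f := by
  intro U g _
  let η (u : U) := (gpt u ≫ g) ≫ f
  have key : ∀ u : U, ∃ (T : Y.Etale) (r : pullback f T.hom ⟶ U),
      r ≫ g = pullback.fst f T.hom ∧ u ∈ Set.range r.base := fun u => by
    obtain ⟨T, t, ht, r, hr, hω⟩ := exists_nbhd_section f (η u) g
      (fun x hx => ⟨u, hf (by
        rw [hx, Scheme.Hom.comp_apply, Scheme.Hom.comp_apply, gpt_default])⟩)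
      (ι := Fin 1) (fun _ => gpt u ≫ g) (fun _ => rfl) (fun _ _ _ => Subsingleton.elim _ _)
      (fun _ => gpt u) (fun _ => rfl)
    refine ⟨T, (pullbackSymmetry f T.hom).hom ≫ r, ?_,
      (pullback.lift t (gpt u ≫ g) (ht.trans rfl) ≫ (pullbackSymmetry f T.hom).inv).base default, ?_⟩
    · rw [Category.assoc, hr, pullbackSymmetry_hom_comp_snd]
    · rw [← Scheme.Hom.comp_apply, Category.assoc, Iso.inv_hom_id_assoc, hω 0]
      exact gpt_default u
  choose T r hr hru using key
  let v : (∐ fun u => (T u).left) ⟶ Y := Sigma.desc fun u => (T u).hom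
  have : Etale v := IsZariskiLocalAtSource.sigmaDesc fun u => (T u).prop
  let 𝒰 := Scheme.Pullback.openCoverOfRight (sigmaOpenCover fun u => (T u).left) f v
  let k (i : U) : 𝒰.X i ⟶ U :=
    pullback.map f (Sigma.ι (fun u => (T u).left) i ≫ v) f (T i).hom (𝟙 X) (𝟙 _) (𝟙 Y)
      (by simp) (by simp [v]) ≫ r i
  have hglue : ∀ i j, pullback.fst (𝒰.f i) (𝒰.f j) ≫ k i = pullback.snd (𝒰.f i) (𝒰.f j) ≫ k j := by
    intro i j
    by_cases hij : i = j
    · subst hij
      rw [fst_eq_snd_of_mono_eq]
    · have h1 : ∀ i, 𝒰.f i ≫ pullback.snd f v =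
          pullback.snd f (Sigma.ι (fun u => (T u).left) i ≫ v) ≫ Sigma.ι (fun u => (T u).left) i :=
        fun i => pullback.lift_snd _ _ _
      have : IsEmpty ↥(pullback (𝒰.f i) (𝒰.f j)) := by
        refine isEmpty_of_commSq_sigmaι_of_ne (g := fun u => (T u).left)
          (a := pullback.fst (𝒰.f i) (𝒰.f j) ≫ pullback.snd f _)
          (b := pullback.snd (𝒰.f i) (𝒰.f j) ≫ pullback.snd f _) ⟨?_⟩ hij
        refine (Category.assoc _ _ _).trans ?_
        refine Eq.trans ?_ (Category.assoc _ _ _).symm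
        exact ((congrArg (_ ≫ ·) (h1 i).symm).trans (pullback.condition_assoc _)).trans
          (congrArg (_ ≫ ·) (h1 j))
      exact isInitialOfIsEmpty.hom_ext _ _
  let h := 𝒰.glueMorphisms k hglue
  refine ⟨_, v, inferInstance, h, 𝒰.hom_ext _ _ fun i => ?_, ⟨fun x => ?_⟩⟩
  · refine (Scheme.Cover.ι_glueMorphisms_assoc _ _ _ _ _).trans ?_
    refine (Category.assoc _ _ _).trans ((congrArg (_ ≫ ·) (hr i)).trans ?_)
    exact (pullback.lift_fst _ _ _).trans (pullback.lift_fst _ _ _).symm
  · obtain ⟨z, hz⟩ := hru x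
    let m := pullback.map f (T x).hom f (Sigma.ι (fun u => (T u).left) x ≫ v) (𝟙 X) (𝟙 _) (𝟙 Y)
      (by simp) (by simp [v])
    have : m ≫ k x = r x := by
      refine (Category.assoc _ _ _).symm.trans ?_
      refine Eq.trans (congrArg (· ≫ r x) ?_) (Category.id_comp _)
      apply pullback.hom_ext
      · refine ((Category.assoc _ _ _).trans ?_).trans (Category.id_comp _).symm
        exact (congrArg (_ ≫ ·) ((pullback.lift_fst _ _ _).trans (Category.comp_id _))).trans
          ((pullback.lift_fst _ _ _).trans (Category.comp_id _))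
      · refine ((Category.assoc _ _ _).trans ?_).trans (Category.id_comp _).symm
        exact (congrArg (_ ≫ ·) ((pullback.lift_snd _ _ _).trans (Category.comp_id _))).trans
          ((pullback.lift_snd _ _ _).trans (Category.comp_id _))
    refine ⟨(m ≫ 𝒰.f x).base z, ?_⟩
    have h2 : (m ≫ 𝒰.f x) ≫ h = r x :=
      (Category.assoc _ _ _).trans
        ((congrArg (m ≫ ·) (Scheme.Cover.ι_glueMorphisms 𝒰 k hglue x)).trans this)
    exact ((Scheme.Hom.comp_apply _ _ _).symm.trans (congrArg (fun q => q.base z) h2)).trans hz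

end GrothLib.EtSite
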