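import Groth.Agent.Lib.EtSite.GermUnit
import Groth.Agent.Lib.LocConst.Serre
import Groth.Agent.Lib.LocConst.Generic
import Mathlib.AlgebraicGeometry.PullbackCarrier
import Mathlib.FieldTheory.IsAlgClosed.AlgebraicClosure

/-!
# Sections of inverse images along universally submersive morphisms with connected fibres
-/

universe u

open CategoryTheory CategoryTheory.Limits AlgebraicGeometry Opposite
open GrothLib.EtSite GrothLib.LocConst

set_option backward.isDefEq.respectTransparency.types false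

noncomputable section

namespace GrothLib.ConnFibres

variable {X : Scheme.{u}}

/-- The open set of points near which a section vanishes. -/
def zeroLocus (G : EtCoh.Ab X) {W : X.Etale} (d : EtCoh.sect G W) : Set W.left :=
  {z | ∃ (V : X.Etale) (g : V ⟶ W) (v : V.left), g.left.base v = z ∧ G.obj.map g.op d = 0}

theorem etale_left {V W : X.Etale} (g : V ⟶ W) : Etale (g.left : V.left ⟶ W.left) := by
  let wh : W.left ⟶ X := W.hom
  let gl : V.left ⟶ W.left := g.left
  haveI : Etale wh := W.prop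
  haveI : Etale (gl ≫ wh) := by
    have hw : gl ≫ wh = V.hom := MorphismProperty.Over.w g
    rw [hw]
    exact V.prop
  exact Etale.of_comp gl wh

theorem isOpen_zeroLocus (G : EtCoh.Ab X) {W : X.Etale} (d : EtCoh.sect G W) :
    IsOpen (zeroLocus G d) := by
  rw [isOpen_iff_forall_mem_open]
  rintro z ⟨V, g, v, hv, hg⟩
  haveI := etale_left g
  exact ⟨Set.range g.left.base, fun y ⟨v', hv'⟩ => ⟨V, g, v', hv', hg⟩,
    (g.left : V.left ⟶ W.left).isOpenMap.isOpen_range, v, hv⟩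

theorem mem_iff_germ (G : EtCoh.Ab X) {W : X.Etale} (d : EtCoh.sect G W) {Ω : Type u} [Field Ω]
    [IsSepClosed Ω] (ξ : Spec (CommRingCat.of Ω) ⟶ X) (t : (Scheme.pointSmallEtale ξ).fiber.obj W) :
    t.left.base (default : Spec (CommRingCat.of Ω)) ∈ zeroLocus G d ↔ germ ξ G t d = 0 := by
  refine ⟨?_, eq_zero_nhd ξ G t d⟩
  rintro ⟨V, g, v, hv, hg⟩
  let gl : V.left ⟶ W.left := g.left
  haveI : Etale gl := etale_left g
  let tl : Spec (CommRingCat.of Ω) ⟶ W.left := t.left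
  obtain ⟨l, -⟩ := exists_fib tl (U := Scheme.Etale.mk gl) v hv
  let ll : Spec (CommRingCat.of Ω) ⟶ V.left := l.left
  have hl : ll ≫ gl = tl := Over.w l
  have hlV : ll ≫ V.hom = ξ := by
    have hw : gl ≫ W.hom = V.hom := MorphismProperty.Over.w g
    rw [← hw, ← Category.assoc, hl]
    exact Over.w t
  have ht : (Scheme.pointSmallEtale ξ).fiber.map g (fib ξ (U := V) ll hlV) = t :=
    Over.OverMorphism.ext hl
  rw [← ht, ← germ_map, hg, map_zero]

theorem exists_point (W : X.Etale) (z : W.left) :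
    ∃ (Ω : Type u) (_ : Field Ω) (_ : IsSepClosed Ω) (ξ : Spec (CommRingCat.of Ω) ⟶ X)
      (t : (Scheme.pointSmallEtale ξ).fiber.obj W), t.left.base (default : Spec (CommRingCat.of Ω)) = z :=
  ⟨_, inferInstance, inferInstance, gpt (W.hom.base z), exists_fib _ z (gpt_default _).symm⟩

theorem eq_zero_of_univ (G : EtCoh.Ab X) {W : X.Etale} (d : EtCoh.sect G W)
    (h : ∀ z, z ∈ zeroLocus G d) : d = 0 :=
  section_eq_zero_of_germs G W d fun _ _ _ ξ t => (mem_iff_germ G d ξ t).1 (h _)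

theorem mem_map (G : EtCoh.Ab X) {W W' : X.Etale} (g : W' ⟶ W) (d : EtCoh.sect G W) (w : W'.left) :
    w ∈ zeroLocus G (G.obj.map g.op d : EtCoh.sect G W') ↔ g.left.base w ∈ zeroLocus G d := by
  obtain ⟨Ω, _, _, ξ, t, rfl⟩ := exists_point W' w
  exact (mem_iff_germ G _ ξ t).trans ((iff_of_eq (congrArg (· = 0) (germ_map ξ G g t d))).trans
    (mem_iff_germ G d ξ ((Scheme.pointSmallEtale ξ).fiber.map g t)).symm)

theorem mem_congr (G : EtCoh.Ab X) {W : X.Etale} (a b : EtCoh.sect G W) (z : W.left)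
    (h : z ∈ zeroLocus G (a - b)) : z ∈ zeroLocus G a ↔ z ∈ zeroLocus G b := by
  obtain ⟨Ω, _, _, ξ, t, rfl⟩ := exists_point W z
  have h' := (mem_iff_germ G _ ξ t).1 h
  rw [map_sub, sub_eq_zero] at h'
  exact (mem_iff_germ G a ξ t).trans ((iff_of_eq (congrArg (· = 0) h')).trans (mem_iff_germ G b ξ t).symm)

variable {S : Scheme.{u}} (f : X ⟶ S)

/-- The projection of a base change. -/
abbrev proj (U : S.Etale) : ((EtCoh.bc f).obj U).left ⟶ U.left := pullback.fst U.hom f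

theorem mem_unit [EtCoh.BCCont f] (F : EtCoh.Ab S) {U : S.Etale} (d : EtCoh.sect F U)
    (z : ((EtCoh.bc f).obj U).left) :
    z ∈ zeroLocus ((EtCoh.pull f).obj F)
        (((EtCoh.pullPushAdj f).unit.app F).hom.app (op U) d : EtCoh.sect ((EtCoh.pull f).obj F) ((EtCoh.bc f).obj U)) ↔
      proj f U z ∈ zeroLocus F d := by
  obtain ⟨Ω, _, _, ξ, t', rfl⟩ := exists_point ((EtCoh.bc f).obj U) z
  obtain ⟨t, rfl⟩ := exists_fib_bc _ f U t'
  have ht : t.left ≫ 𝟙 _ = ((fiberBcIso ξ f).inv.app U t).left ≫ proj f U :=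
    (Category.comp_id _).trans (pullback.lift_fst _ _ _).symm
  have hz : proj f U (((fiberBcIso ξ f).inv.app U t).left.base (default : Spec (CommRingCat.of Ω))) =
      t.left.base (default : Spec (CommRingCat.of Ω)) :=
    (congrArg (fun m : Spec (CommRingCat.of _) ⟶ U.left => m.base default) ht).symm
  refine (mem_iff_germ _ _ ξ _).trans (Iff.trans ?_
    ((mem_iff_germ F d (ξ ≫ f) t).symm.trans (iff_of_eq (congrArg (· ∈ zeroLocus F d) hz.symm))))
  rw [germ_unit]
  refine ⟨fun h => ?_, fun h => by rw [h, map_zero]⟩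
  apply (ConcreteCategory.bijective_of_isIso ((pullStalkIso ξ f).inv.app F)).injective
  rw [h, map_zero]

theorem injective_unit [EtCoh.BCCont f] [Surjective f] (F : EtCoh.Ab S) (U : S.Etale)
    (a b : EtCoh.sect F U)
    (h : ((EtCoh.pullPushAdj f).unit.app F).hom.app (op U) a = ((EtCoh.pullPushAdj f).unit.app F).hom.app (op U) b) :
    a = b := by
  refine sub_eq_zero.1 (eq_zero_of_univ F _ fun u => ?_)
  haveI : Surjective (proj f U) := MorphismProperty.pullback_fst _ _ inferInstance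
  obtain ⟨z, rfl⟩ := (proj f U).surjective u
  rw [← mem_unit f F (a - b) z]
  have h0 : ((EtCoh.pullPushAdj f).unit.app F).hom.app (op U) (a - b) = 0 :=
    (map_sub _ a b).trans (sub_eq_zero.2 h)
  obtain ⟨Ω, _, _, ξ, t, rfl⟩ := exists_point ((EtCoh.bc f).obj U) z
  refine (mem_iff_germ _ _ ξ t).2 ?_
  rw [h0]
  exact map_zero _

/-- Connected geometric fibres give preconnected fibres after etale base change. -/
theorem isPreconnected_fibre
    (hc : ∀ (Ω : Type u) [Field Ω] [IsAlgClosed Ω] (s : Spec (CommRingCat.of Ω) ⟶ S), ConnectedSpace ↥(pullback f s))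
    (U : S.Etale) (u : U.left) : _root_.IsPreconnected (proj f U ⁻¹' {u}) := by
  let η : Spec (CommRingCat.of (AlgebraicClosure (U.left.residueField u))) ⟶ U.left :=
    Spec.map (CommRingCat.ofHom (algebraMap (U.left.residueField u) (AlgebraicClosure (U.left.residueField u)))) ≫
      U.left.fromSpecResidueField u
  have hη : Set.range η = {u} := by
    ext y
    constructor
    · rintro ⟨a, rfl⟩
      exact U.left.fromSpecResidueField_apply u _
    · rintro rfl
      exact ⟨default, U.left.fromSpecResidueField_apply y _⟩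
  rw [← hη, ← Scheme.Pullback.range_fst]
  let uh : U.left ⟶ S := U.hom
  have sq : IsPullback (pullback.fst (proj f U) η ≫ pullback.snd uh f) (pullback.snd (proj f U) η) f (η ≫ uh) :=
    (IsPullback.of_hasPullback (proj f U) η).paste_horiz (IsPullback.of_hasPullback uh f).flip
  haveI := hc _ (η ≫ uh)
  haveI : ConnectedSpace ↥(pullback (proj f U) η) :=
    sq.isoPullback.inv.homeomorph.surjective.connectedSpace sq.isoPullback.inv.continuous
  exact isPreconnected_range (pullback.fst (proj f U) η).continuous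

theorem isQuotientMap_proj
    (hsub : ∀ (S' : Scheme.{u}) (g : S' ⟶ S), Topology.IsQuotientMap (pullback.snd f g).base)
    (U : S.Etale) : Topology.IsQuotientMap (proj f U).base := by
  let uh : U.left ⟶ S := U.hom
  have h := hsub U.left uh
  have e : pullback.fst uh f = (pullbackSymmetry uh f).hom ≫ pullback.snd f uh :=
    (pullbackSymmetry_hom_comp_snd uh f).symm
  change Topology.IsQuotientMap (pullback.fst uh f).base
  rw [e]
  exact h.comp (pullbackSymmetry uh f).hom.homeomorph.isQuotientMap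

/-- The map to the final object of the site. -/
abbrev toTop (U : S.Etale) : U ⟶ EtCoh.top S := (EtCore.topIsTerminal S).from U

/-- The adjunction unit on sections. -/
abbrev unitS [EtCoh.BCCont f] (F : EtCoh.Ab S) (U : S.Etale) (t : EtCoh.sect F U) :
    EtCoh.sect ((EtCoh.pull f).obj F) ((EtCoh.bc f).obj U) :=
  ((EtCoh.pullPushAdj f).unit.app F).hom.app (op U) t

/-- Restriction of a global section of the inverse image. -/
def resTop [EtCoh.BCCont f] (F : EtCoh.Ab S) (σ : EtCoh.sect ((EtCoh.pull f).obj F) ((EtCoh.bc f).obj (EtCoh.top S)))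
    (U : S.Etale) : EtCoh.sect ((EtCoh.pull f).obj F) ((EtCoh.bc f).obj U) :=
  ((EtCoh.pull f).obj F).obj.map ((EtCoh.bc f).map (toTop U)).op σ

theorem map_resTop [EtCoh.BCCont f] (F : EtCoh.Ab S) (σ : EtCoh.sect ((EtCoh.pull f).obj F) ((EtCoh.bc f).obj (EtCoh.top S)))
    {U V : S.Etale} (p : V ⟶ U) :
    ((EtCoh.pull f).obj F).obj.map ((EtCoh.bc f).map p).op (resTop f F σ U) = resTop f F σ V := by
  unfold resTop
  rw [← Functor.map_comp_apply, ← op_comp, ← Functor.map_comp,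
    (EtCore.topIsTerminal S).hom_ext (p ≫ toTop U) (toTop V)]

theorem unitS_map [EtCoh.BCCont f] (F : EtCoh.Ab S) {U V : S.Etale} (p : V ⟶ U) (t : EtCoh.sect F U) :
    unitS f F V (F.obj.map p.op t) = ((EtCoh.pull f).obj F).obj.map ((EtCoh.bc f).map p).op (unitS f F U t) :=
  NatTrans.naturality_apply ((EtCoh.pullPushAdj f).unit.app F).hom p.op t

theorem unitS_sub [EtCoh.BCCont f] (F : EtCoh.Ab S) {U : S.Etale} (t t' : EtCoh.sect F U) :
    unitS f F U (t - t') = unitS f F U t - unitS f F U t' :=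
  map_sub (((EtCoh.pullPushAdj f).unit.app F).hom.app (op U)).hom t t'

/-- The difference between a global section and a local one. -/
def dSec [EtCoh.BCCont f] (F : EtCoh.Ab S) (σ : EtCoh.sect ((EtCoh.pull f).obj F) ((EtCoh.bc f).obj (EtCoh.top S)))
    (U : S.Etale) (t : EtCoh.sect F U) : EtCoh.sect ((EtCoh.pull f).obj F) ((EtCoh.bc f).obj U) :=
  resTop f F σ U - unitS f F U t

theorem map_dSec [EtCoh.BCCont f] (F : EtCoh.Ab S) (σ : EtCoh.sect ((EtCoh.pull f).obj F) ((EtCoh.bc f).obj (EtCoh.top S)))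
    {U V : S.Etale} (p : V ⟶ U) (t : EtCoh.sect F U) :
    ((EtCoh.pull f).obj F).obj.map ((EtCoh.bc f).map p).op (dSec f F σ U t) = dSec f F σ V (F.obj.map p.op t) := by
  unfold dSec
  exact (map_sub _ _ _).trans (congrArg₂ (fun a b => a - b) (map_resTop f F σ p) (unitS_map f F p t).symm)

theorem exists_start [EtCoh.BCCont f] (F : EtCoh.Ab S)
    (σ : EtCoh.sect ((EtCoh.pull f).obj F) ((EtCoh.bc f).obj (EtCoh.top S)))
    (U₀ : S.Etale) (z : ((EtCoh.bc f).obj U₀).left) :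
    ∃ (U : S.Etale) (p : U ⟶ U₀) (t : EtCoh.sect F U) (z' : ((EtCoh.bc f).obj U).left),
      ((EtCoh.bc f).map p).left.base z' = z ∧ z' ∈ zeroLocus ((EtCoh.pull f).obj F) (dSec f F σ U t) := by
  obtain ⟨Ω, _, _, ζ, τ', hτ'⟩ := exists_point ((EtCoh.bc f).obj U₀) z
  obtain ⟨τ, rfl⟩ := exists_fib_bc ζ f U₀ τ'
  obtain ⟨U₁, τ₁, t₁, h₁⟩ := exists_germ (ζ ≫ f) F
    ((pullStalkIso ζ f).hom.app F (germ ζ ((EtCoh.pull f).obj F) ((fiberBcIso ζ f).inv.app U₀ τ) (resTop f F σ U₀)))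
  obtain ⟨U, w, p, q, hp, hq⟩ := exists_refine₂ (ζ ≫ f) τ τ₁
  have h1 := NatTrans.naturality_apply (fiberBcIso ζ f).inv p w
  rw [hp] at h1
  have hw : (Scheme.pointSmallEtale ζ).fiber.map ((EtCoh.bc f).map p) ((fiberBcIso ζ f).inv.app U w) =
      (fiberBcIso ζ f).inv.app U₀ τ := h1.symm
  refine ⟨U, p, F.obj.map q.op t₁, _, (base_fiber_map ζ _ _ _ hw).trans hτ',
    (mem_iff_germ _ _ ζ ((fiberBcIso ζ f).inv.app U w)).2 ?_⟩
  refine (map_sub _ _ _).trans (sub_eq_zero.2 ?_)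
  have e1 : germ ζ ((EtCoh.pull f).obj F) ((fiberBcIso ζ f).inv.app U w) (unitS f F U (F.obj.map q.op t₁)) =
      (pullStalkIso ζ f).inv.app F (germ (ζ ≫ f) F w (F.obj.map q.op t₁)) := germ_unit ζ f F w _
  have e2 : germ (ζ ≫ f) F w (F.obj.map q.op t₁) = germ (ζ ≫ f) F τ₁ t₁ :=
    (germ_map (ζ ≫ f) F q w t₁).trans (congrArg (germ (ζ ≫ f) F · t₁) hq)
  have e3 : ∀ y, (pullStalkIso ζ f).inv.app F ((pullStalkIso ζ f).hom.app F y) = y := fun y =>
    (ConcreteCategory.comp_apply _ _ _).symm.trans (congrArg (fun m => m y) (Iso.hom_inv_id_app (pullStalkIso ζ f) F))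
  refine Eq.trans ?_ (e1.trans ((congrArg _ (e2.trans h₁)).trans (e3 _))).symm
  refine (congrArg (germ ζ ((EtCoh.pull f).obj F) ((fiberBcIso ζ f).inv.app U w)) (map_resTop f F σ p).symm).trans ?_
  exact (germ_map ζ _ ((EtCoh.bc f).map p) _ _).trans (congrArg (germ ζ _ · (resTop f F σ U₀)) hw)

theorem isSaturated_zeroLocus [EtCoh.BCCont f]
    (hc : ∀ (Ω : Type u) [Field Ω] [IsAlgClosed Ω] (s : Spec (CommRingCat.of Ω) ⟶ S), ConnectedSpace ↥(pullback f s))
    (F : EtCoh.Ab S) (σ : EtCoh.sect ((EtCoh.pull f).obj F) ((EtCoh.bc f).obj (EtCoh.top S)))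
    (U₀ : S.Etale) (t₀ : EtCoh.sect F U₀) :
    proj f U₀ ⁻¹' (proj f U₀ '' zeroLocus ((EtCoh.pull f).obj F) (dSec f F σ U₀ t₀)) =
      zeroLocus ((EtCoh.pull f).obj F) (dSec f F σ U₀ t₀) := by
  refine Set.Subset.antisymm ?_ (Set.subset_preimage_image _ _)
  rintro y₁ ⟨y₂, hy₂Z, hy₂⟩
  by_contra hy₁Z
  let u := proj f U₀ y₁
  let G := (EtCoh.pull f).obj F
  let Z := zeroLocus G (dSec f F σ U₀ t₀)
  let B : Set ((EtCoh.bc f).obj U₀).left :=
    ⋃₀ {N | IsOpen N ∧ ∀ y ∈ N, proj f U₀ y = u → y ∉ Z}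
  have hB : IsOpen B := isOpen_sUnion fun N hN => hN.1
  have hcov : proj f U₀ ⁻¹' {u} ⊆ Z ∪ B := fun y (hy : proj f U₀ y = u) => by
    by_cases hyZ : y ∈ Z
    · exact Or.inl hyZ
    refine Or.inr ?_
    obtain ⟨U₁, p, t₁, z', hz', hZ'⟩ := exists_start f F σ U₀ y
    let pl : U₁.left ⟶ U₀.left := p.left
    haveI : Etale pl := etale_left p
    haveI := GrothLib.LocConst.locallyQuasiFinite_of_etale pl
    let bl : ((EtCoh.bc f).obj U₁).left ⟶ ((EtCoh.bc f).obj U₀).left := ((EtCoh.bc f).map p).left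
    haveI : Etale bl := etale_left ((EtCoh.bc f).map p)
    have hproj : ∀ w, proj f U₀ (bl.base w) = pl (proj f U₁ w) := fun w =>
      congrArg (fun m : ((EtCoh.bc f).obj U₁).left ⟶ U₀.left => m.base w) (EtCoh.isPullback_bc_map f p).w
    have hu₁ : pl (proj f U₁ z') = u := (hproj z').symm.trans ((congrArg (proj f U₀) hz').trans hy)
    obtain ⟨O, hO, hOu⟩ := (isDiscrete_iff_forall_exists_isOpen.1 (pl.isDiscrete_preimage_singleton u))
      (proj f U₁ z') hu₁
    have key : ∀ v, v ∈ zeroLocus G (dSec f F σ U₁ t₁) →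
        (bl.base v ∈ Z ↔ proj f U₁ v ∈ zeroLocus F (t₁ - F.obj.map p.op t₀)) := by
      intro v hv
      refine (mem_map G ((EtCoh.bc f).map p) (dSec f F σ U₀ t₀) v).symm.trans ?_
      rw [map_dSec f F σ p t₀]
      refine Iff.trans ?_ (mem_unit f F (t₁ - F.obj.map p.op t₀) v)
      refine mem_congr G _ _ v ?_
      have e : dSec f F σ U₁ (F.obj.map p.op t₀) - unitS f F U₁ (t₁ - F.obj.map p.op t₀) = dSec f F σ U₁ t₁ := by
        rw [unitS_sub]
        unfold dSec
        abel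
      exact e.symm ▸ hv
    refine Set.mem_sUnion.2 ⟨bl.base '' (zeroLocus G (dSec f F σ U₁ t₁) ∩ proj f U₁ ⁻¹' O), ⟨?_, ?_⟩, z', ⟨hZ', ?_⟩, hz'⟩
    · exact bl.isOpenMap _ ((isOpen_zeroLocus G _).inter (hO.preimage (proj f U₁).continuous))
    · rintro _ ⟨w, ⟨hw₁, hw₂⟩, rfl⟩ hwu hwZ
      have hweq : proj f U₁ w = proj f U₁ z' :=
        hOu.le ⟨hw₂, (hproj w).symm.trans hwu⟩
      have := (key w hw₁).1 hwZ
      rw [hweq] at this
      exact hyZ (hz' ▸ (key z' hZ').2 this)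
    · exact (hOu.ge (rfl : proj f U₁ z' = proj f U₁ z')).1
  obtain ⟨y, hy, hyZ, hyB⟩ := isPreconnected_fibre f hc U₀ u Z B (isOpen_zeroLocus G _) hB hcov
    ⟨y₂, hy₂, hy₂Z⟩ ⟨y₁, rfl, (hcov (rfl : proj f U₀ y₁ = u)).resolve_left hy₁Z⟩
  obtain ⟨N, hN, hyN⟩ := Set.mem_sUnion.1 hyB
  exact hN.2 y hyN hy hyZ

/-- Local lifting of sections of the inverse image. -/
theorem exists_local_lift [EtCoh.BCCont f] [Surjective f]
    (hsub : ∀ (S' : Scheme.{u}) (g : S' ⟶ S), Topology.IsQuotientMap (pullback.snd f g).base)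
    (hc : ∀ (Ω : Type u) [Field Ω] [IsAlgClosed Ω] (s : Spec (CommRingCat.of Ω) ⟶ S), ConnectedSpace ↥(pullback f s))
    (F : EtCoh.Ab S) (σ : EtCoh.sect ((EtCoh.pull f).obj F) ((EtCoh.bc f).obj (EtCoh.top S))) (s : S) :
    ∃ (U : S.Etale) (g : U ⟶ EtCoh.top S) (u : U.left) (t : EtCoh.sect F U), g.left.base u = s ∧
      ((EtCoh.pullPushAdj f).unit.app F).hom.app (op U) t = ((EtCoh.pull f).obj F).obj.map ((EtCoh.bc f).map g).op σ := by
  haveI : Surjective (proj f (EtCoh.top S)) := MorphismProperty.pullback_fst _ _ inferInstance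
  obtain ⟨zt, hzt⟩ := (proj f (EtCoh.top S)).surjective s
  obtain ⟨U₀, p₀, t₀, z₀, hz₀, hZ₀⟩ := exists_start f F σ (EtCoh.top S) zt
  let G := (EtCoh.pull f).obj F
  let Z := zeroLocus G (dSec f F σ U₀ t₀)
  have hsat : proj f U₀ ⁻¹' (proj f U₀ '' Z) = Z := isSaturated_zeroLocus f hc F σ U₀ t₀
  let O : U₀.left.Opens := ⟨proj f U₀ '' Z,
    (isQuotientMap_proj f hsub U₀).isOpen_preimage.1 (by rw [hsat]; exact isOpen_zeroLocus G _)⟩
  let uh : U₀.left ⟶ S := U₀.hom
  haveI : Etale uh := U₀.prop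
  let U : S.Etale := Scheme.Etale.mk (O.ι ≫ uh)
  let p : U ⟶ U₀ := MorphismProperty.Over.homMk O.ι rfl
  have hm : proj f U₀ z₀ ∈ O := ⟨z₀, hZ₀, rfl⟩
  refine ⟨U, p ≫ p₀, ⟨proj f U₀ z₀, hm⟩, F.obj.map p.op t₀, ?_, ?_⟩
  · refine Eq.trans ?_ hzt
    refine Eq.trans ?_ (congrArg (proj f (EtCoh.top S)) hz₀)
    exact (congrArg (fun m : ((EtCoh.bc f).obj U₀).left ⟶ (EtCoh.top S).left => m.base z₀)
      (EtCoh.isPullback_bc_map f p₀).w).symm
  · have h0 : dSec f F σ U (F.obj.map p.op t₀) = 0 := eq_zero_of_univ G _ fun w => by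
      rw [← map_dSec f F σ p t₀]
      refine (mem_map G _ _ w).2 ?_
      refine hsat.le ?_
      have : proj f U₀ (((EtCoh.bc f).map p).left.base w) = O.ι (proj f U w) :=
        congrArg (fun m : ((EtCoh.bc f).obj U).left ⟶ U₀.left => m.base w) (EtCoh.isPullback_bc_map f p).w
      exact Set.mem_preimage.2 (Set.mem_of_eq_of_mem this (proj f U w).2)
    refine (sub_eq_zero.1 h0).symm.trans ?_
    exact congrArg (fun m => G.obj.map ((EtCoh.bc f).map m).op σ) ((EtCore.topIsTerminal S).hom_ext _ _)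

/-- Sections of `F` and of its inverse image agree. -/
theorem bijective_unit_top [EtCoh.BCCont f]
    (hsub : ∀ (S' : Scheme.{u}) (g : S' ⟶ S), Topology.IsQuotientMap (pullback.snd f g).base)
    (hc : ∀ (Ω : Type u) [Field Ω] [IsAlgClosed Ω] (s : Spec (CommRingCat.of Ω) ⟶ S), ConnectedSpace ↥(pullback f s))
    (F : EtCoh.Ab S) :
    Function.Bijective (((EtCoh.pullPushAdj f).unit.app F).hom.app (op (EtCoh.top S))) := by
  haveI : Surjective f := ⟨fun s => by
    obtain ⟨z, hz⟩ := (hsub S (𝟙 S)).surjective s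
    exact ⟨pullback.fst f (𝟙 S) z, (congrArg (fun m : pullback f (𝟙 S) ⟶ S => m.base z)
      (pullback.condition.trans (Category.comp_id _))).trans hz⟩⟩
  refine ⟨fun a b h => injective_unit f F _ a b h, fun σ => ?_⟩
  let G := (EtCoh.pull f).obj F
  let R : Sieve (EtCoh.top S) :=
    { arrows := fun V g => ∃ t : EtCoh.sect F V,
        ((EtCoh.pullPushAdj f).unit.app F).hom.app (op V) t = G.obj.map ((EtCoh.bc f).map g).op σ
      downward_closed := by
        rintro V W g ⟨t, ht⟩ k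
        refine ⟨F.obj.map k.op t, (NatTrans.naturality_apply _ k.op t).trans ?_⟩
        rw [ht, Functor.map_comp, op_comp, Functor.map_comp_apply]
        rfl }
  have hR : R ∈ S.smallEtaleTopology (EtCoh.top S) := by
    rw [mem_topology_iff]
    intro s
    obtain ⟨U, g, u, t, hu, ht⟩ := exists_local_lift f hsub hc F σ s
    exact ⟨U, g, u, ⟨t, ht⟩, hu⟩
  let x : Presieve.FamilyOfElements (F.obj ⋙ CategoryTheory.forget AddCommGrpCat.{u + 1}) R.arrows :=
    fun V g hg => hg.choose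
  have hx : x.Compatible := by
    intro V₁ V₂ W g₁ g₂ f₁ f₂ h₁ h₂ e
    refine injective_unit f F W _ _ ?_
    refine (NatTrans.naturality_apply ((EtCoh.pullPushAdj f).unit.app F).hom g₁.op _).trans
      (Eq.trans ?_ (NatTrans.naturality_apply ((EtCoh.pullPushAdj f).unit.app F).hom g₂.op _).symm)
    rw [h₁.choose_spec, h₂.choose_spec]
    change G.obj.map ((EtCoh.bc f).map g₁).op (G.obj.map _ σ) = G.obj.map ((EtCoh.bc f).map g₂).op (G.obj.map _ σ)
    rw [← Functor.map_comp_apply, ← Functor.map_comp_apply, ← op_comp, ← op_comp, ← Functor.map_comp,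
      ← Functor.map_comp, e]
  have hsh := ((isSheaf_iff_isSheaf_of_type _ _).1
    (Presheaf.isSheaf_comp_of_isSheaf S.smallEtaleTopology F.obj (forget AddCommGrpCat.{u+1}) F.property) R hR)
  obtain ⟨t, ht, -⟩ := hsh x hx
  refine ⟨t, sub_eq_zero.1 (eq_zero_of_univ G _ fun z => ?_)⟩
  obtain ⟨U, g, u, hu, hug⟩ := (mem_topology_iff R).1 hR (proj f (EtCoh.top S) z)
  obtain ⟨z', hz', -⟩ := Scheme.exists_preimage_of_isPullback (EtCoh.isPullback_bc_map f g) z u hug.symm
  rw [← hz', ← mem_map]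
  obtain ⟨Ω, _, _, ξ, τ, hτ⟩ := exists_point ((EtCoh.bc f).obj U) z'
  rw [← hτ]
  refine (mem_iff_germ _ _ ξ τ).2 ?_
  refine (congrArg _ ?_).trans (map_zero _)
  refine (map_sub _ _ _).trans (sub_eq_zero.2 ?_)
  refine (NatTrans.naturality_apply ((EtCoh.pullPushAdj f).unit.app F).hom g.op t).symm.trans ?_
  exact (congrArg _ (ht g hu)).trans hu.choose_spec

end GrothLib.ConnFibres
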