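import Groth.Agent.Lib.EtSite.PropSplit
import Groth.Agent.Lib.EtSite.Pull
import Mathlib.RingTheory.IntegralClosure.IsIntegral.Basic
import Mathlib.FieldTheory.IsAlgClosed.Basic

/-!
# Neighbourhoods of geometric points and integral morphisms, on the small etale sites

For an integral `f : X ⟶ Y` and a geometric point `η` of `Y`, families covering the fibre over
`η` split over a neighbourhood; equality of sections of a direct image is detected at the
geometric points over `η`.
-/

universe w u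

open CategoryTheory CategoryTheory.Limits AlgebraicGeometry Opposite

namespace GrothLib.EtSite

variable {X Y : Scheme.{u}} (f : X ⟶ Y) {Ω : Type u} [Field Ω] [IsSepClosed Ω]
  {η : Spec (CommRingCat.of Ω) ⟶ Y}

/-- The lift to `U ×_Y X` given by a lift of `η` to `U` and a point of `X` over `η`. -/
noncomputable def liftPt {U : Y.Etale} (t : (Scheme.pointSmallEtale η).fiber.obj U)
    (ξ : Spec (CommRingCat.of Ω) ⟶ X) (hξ : ξ ≫ f = η) :
    (Scheme.pointSmallEtale ξ).fiber.obj ((EtCoh.bc f).obj U) :=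
  fib ξ (pullback.lift t.left ξ ((Over.w t).trans hξ.symm)) (pullback.lift_snd _ _ _)

lemma map_bc_liftPt {U V : Y.Etale} (e : V ⟶ U) (v : (Scheme.pointSmallEtale η).fiber.obj V)
    (ξ : Spec (CommRingCat.of Ω) ⟶ X) (hξ : ξ ≫ f = η) :
    (Scheme.pointSmallEtale ξ).fiber.map ((EtCoh.bc f).map e) (liftPt f v ξ hξ) =
      liftPt f ((Scheme.pointSmallEtale η).fiber.map e v) ξ hξ := by
  apply Over.OverMorphism.ext
  change pullback.lift v.left ξ _ ≫ ((EtCoh.bc f).map e).left = pullback.lift (v.left ≫ e.left) ξ _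
  apply pullback.hom_ext
  · refine (Category.assoc _ _ _).trans ((congrArg (_ ≫ ·) (EtCoh.isPullback_bc_map f e).w).trans ?_)
    exact (pullback.lift_fst_assoc _ _ _ _).trans (pullback.lift_fst _ _ _).symm
  · refine (Category.assoc _ _ _).trans ((congrArg (_ ≫ ·) (Over.w ((EtCoh.bc f).map e).hom)).trans ?_)
    exact (pullback.lift_snd _ _ _).trans (pullback.lift_snd _ _ _).symm

/-- Families covering the fibre over a geometric point split over a neighbourhood, with prescribed
values at finitely many points. -/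
theorem exists_site_nbhd [IsIntegralHom f] (U : Y.Etale)
    (t : (Scheme.pointSmallEtale η).fiber.obj U) {ι : Type u} (W : ι → X.Etale)
    (g : ∀ i, W i ⟶ (EtCoh.bc f).obj U)
    (hsurj : ∀ x : ((EtCoh.bc f).obj U).left,
      (pullback.fst U.hom f).base x = t.left.base (default : Spec (CommRingCat.of Ω)) →
        ∃ i, x ∈ Set.range (g i).left.base)
    {μ : Type*} [Finite μ] (ξ : μ → (Spec (CommRingCat.of Ω) ⟶ X)) (hξ : ∀ m, ξ m ≫ f = η)
    (hinj : Function.Injective ξ) (j : μ → ι)
    (ω : ∀ m, (Scheme.pointSmallEtale (ξ m)).fiber.obj (W (j m)))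
    (hω : ∀ m, (Scheme.pointSmallEtale (ξ m)).fiber.map (g (j m)) (ω m) =
      liftPt f t (ξ m) (hξ m)) :
    ∃ (V : Y.Etale) (e : V ⟶ U) (v : (Scheme.pointSmallEtale η).fiber.obj V)
      (O : ι → ((EtCoh.bc f).obj V).left.Opens)
      (k : ∀ i, opensObj ((EtCoh.bc f).obj V) (O i) ⟶ W i),
      (Scheme.pointSmallEtale η).fiber.map e v = t ∧
      (∀ a b, a ≠ b → Disjoint (O a) (O b)) ∧ (⨆ i, O i) = ⊤ ∧
      (∀ i, k i ≫ g i = opensHom _ (O i) ≫ (EtCoh.bc f).map e) ∧
      ∀ m, ∃ p : (Scheme.pointSmallEtale (ξ m)).fiber.obj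
          (opensObj ((EtCoh.bc f).obj V) (O (j m))),
        (Scheme.pointSmallEtale (ξ m)).fiber.map (opensHom _ (O (j m))) p =
            liftPt f v (ξ m) (hξ m) ∧
          (Scheme.pointSmallEtale (ξ m)).fiber.map (k (j m)) p = ω m := by
  have : Etale U.hom := U.prop
  let f' : ((EtCoh.bc f).obj U).left ⟶ U.left := pullback.fst U.hom f
  have : IsIntegralHom f' := MorphismProperty.pullback_fst U.hom f ‹_›
  let G : (∐ fun i => (W i).left) ⟶ ((EtCoh.bc f).obj U).left := Sigma.desc fun i => (g i).left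
  have : Etale G := IsZariskiLocalAtSource.sigmaDesc fun i => (inferInstance : Etale (g i).left)
  let ξ' : μ → (Spec (CommRingCat.of Ω) ⟶ ((EtCoh.bc f).obj U).left) := fun m =>
    (liftPt f t (ξ m) (hξ m)).left
  have hinj' : Function.Injective ξ' := fun m m' h => hinj
    (((Over.w (liftPt f t (ξ m) (hξ m))).symm.trans (congrArg (· ≫ pullback.snd U.hom f) h)).trans
      (Over.w (liftPt f t (ξ m') (hξ m'))))
  obtain ⟨U', t', ht', r, hr, hω'⟩ := exists_nbhd_section f'
    (t.left : Spec (CommRingCat.of Ω) ⟶ U.left) G (fun x hx => by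
      obtain ⟨i, z, hz⟩ := hsurj x hx
      refine ⟨(Sigma.ι (fun i => (W i).left) i).base z, ?_⟩
      refine Eq.trans ?_ hz
      exact (Scheme.Hom.comp_apply _ _ _).symm.trans
        (congrArg (fun q : (W i).left ⟶ ((EtCoh.bc f).obj U).left => q.base z)
          (Sigma.ι_desc (fun i => (g i).left) i)))
    ξ' (fun m => pullback.lift_fst _ _ _) hinj'
    (fun m => (ω m).left ≫ Sigma.ι (fun i => (W i).left) (j m))
    (fun m => (Category.assoc _ _ _).trans ((congrArg ((ω m).left ≫ ·) (Sigma.ι_desc (fun i => (g i).left) (j m))).trans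
      (congrArg CommaMorphism.left (hω m))))
  let u' : U'.left ⟶ U.left := U'.hom
  have : Etale u' := U'.prop
  let V : Y.Etale := Scheme.Etale.mk (u' ≫ U.hom)
  let e : V ⟶ U := MorphismProperty.Over.homMk u' rfl
  let v : (Scheme.pointSmallEtale η).fiber.obj V :=
    fib η (U := V) t' ((Category.assoc _ _ _).symm.trans
      ((congrArg (· ≫ U.hom) ht').trans (Over.w t)))
  have hev : (Scheme.pointSmallEtale η).fiber.map e v = t := Over.OverMorphism.ext ht'
  let c : ((EtCoh.bc f).obj V).left ⟶ pullback U'.hom f' :=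
    pullback.lift (pullback.fst V.hom f) ((EtCoh.bc f).map e).left
      (EtCoh.isPullback_bc_map f e).w.symm
  let r' := c ≫ r
  have hr' : r' ≫ G = ((EtCoh.bc f).map e).left :=
    (Category.assoc _ _ _).trans ((congrArg (c ≫ ·) hr).trans (pullback.lift_snd _ _ _))
  let O : ι → ((EtCoh.bc f).obj V).left.Opens := fun i =>
    r' ⁻¹ᵁ (Sigma.ι (fun i => (W i).left) i).opensRange
  have hOι : ∀ i, IsOpenImmersion (O i).ι := fun i => Scheme.Opens.instIsOpenImmersionι (O i)
  have hsub : ∀ i, Set.range ((O i).ι ≫ r').base ⊆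
      Set.range (Sigma.ι (fun i => (W i).left) i).base := by
    rintro i _ ⟨x, rfl⟩
    exact x.2
  let k₀ (i : ι) : (O i).toScheme ⟶ (W i).left :=
    IsOpenImmersion.lift (Sigma.ι (fun i => (W i).left) i) _ (hsub i)
  have hk₀ : ∀ i, k₀ i ≫ (g i).left = (O i).ι ≫ ((EtCoh.bc f).map e).left := fun i => by
    have h : k₀ i ≫ Sigma.ι (fun i => (W i).left) i ≫ G = (O i).ι ≫ r' ≫ G :=
      IsOpenImmersion.lift_fac_assoc _ _ _ _
    refine Eq.trans ?_ (h.trans (congrArg (_ ≫ ·) hr'))
    exact congrArg (k₀ i ≫ ·) (Sigma.ι_desc (fun i => (g i).left) i).symm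
  let k (i : ι) : opensObj ((EtCoh.bc f).obj V) (O i) ⟶ W i :=
    MorphismProperty.Over.homMk (k₀ i) (by
      refine (congrArg (_ ≫ ·) (Over.w (g i).hom).symm).trans ?_
      refine (Category.assoc _ _ _).symm.trans ((congrArg (· ≫ _) (hk₀ i)).trans ?_)
      refine (Category.assoc _ _ _).trans ?_
      exact congrArg (_ ≫ ·) (Over.w ((EtCoh.bc f).map e).hom))
  refine ⟨V, e, v, O, k, hev, fun a b hab => ?_, ?_,
    fun i => MorphismProperty.Over.Hom.ext (hk₀ i), fun m => ?_⟩
  · rw [disjoint_iff_inf_le]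
    exact fun x hx => ((disjoint_opensRange_sigmaι _ a b hab).le_bot
      (show r' x ∈ (Sigma.ι (fun i => (W i).left) a).opensRange ⊓
        (Sigma.ι (fun i => (W i).left) b).opensRange from hx)).elim
  · rw [eq_top_iff]
    intro x _
    obtain ⟨⟨i, z⟩, hz⟩ := (sigmaMk fun i => (W i).left).surjective (r' x)
    exact TopologicalSpace.Opens.mem_iSup.2 ⟨i, z, (sigmaMk_mk (fun i => (W i).left) i z).symm.trans hz⟩
  · let q : Spec (CommRingCat.of Ω) ⟶ ((EtCoh.bc f).obj V).left :=
      (liftPt f v (ξ m) (hξ m)).left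
    have hq : q ≫ r' = (ω m).left ≫ Sigma.ι (fun i => (W i).left) (j m) := by
      refine Eq.trans ?_ (hω' m)
      refine (Category.assoc _ _ _).symm.trans (congrArg (· ≫ r) ?_)
      apply pullback.hom_ext
      · refine ((Category.assoc _ _ _).trans (congrArg (q ≫ ·) (pullback.lift_fst _ _ _))).trans ?_
        exact (pullback.lift_fst _ _ _).trans (pullback.lift_fst _ _ _).symm
      · refine ((Category.assoc _ _ _).trans (congrArg (q ≫ ·) (pullback.lift_snd _ _ _))).trans ?_
        refine Eq.trans ?_ (pullback.lift_snd _ _ _).symm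
        exact congrArg CommaMorphism.left ((map_bc_liftPt f e v (ξ m) (hξ m)).trans
          (congrArg (fun t => liftPt f t (ξ m) (hξ m)) hev))
    have hmem : Set.range q.base ⊆ Set.range (O (j m)).ι.base := by
      rintro _ ⟨a, rfl⟩
      rw [Scheme.Opens.range_ι]
      change (r'.base (q.base a)) ∈ Set.range (Sigma.ι (fun i => (W i).left) (j m)).base
      rw [← Scheme.Hom.comp_apply, hq, Scheme.Hom.comp_apply]
      exact ⟨_, rfl⟩
    let p₀ : Spec (CommRingCat.of Ω) ⟶ (O (j m)).toScheme :=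
      @IsOpenImmersion.lift _ _ _ (O (j m)).ι q (hOι _) hmem
    have hp₀ : p₀ ≫ (O (j m)).ι = q := @IsOpenImmersion.lift_fac _ _ _ (O (j m)).ι q (hOι _) hmem
    refine ⟨fib (ξ m) (U := opensObj _ (O (j m))) p₀ ?_, Over.OverMorphism.ext hp₀,
      Over.OverMorphism.ext ?_⟩
    · exact ((Category.assoc _ _ _).symm.trans (congrArg (· ≫ _) hp₀)).trans
        (Over.w (liftPt f v (ξ m) (hξ m)))
    · refine (cancel_mono (Sigma.ι (fun i => (W i).left) (j m))).1 ?_
      refine Eq.trans ?_ hq
      refine (Category.assoc _ _ _).trans ?_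
      refine Eq.trans (congrArg (p₀ ≫ ·) (IsOpenImmersion.lift_fac _ _ (hsub (j m)))) ?_
      exact (Category.assoc _ _ _).symm.trans (congrArg (· ≫ r') hp₀)

/-- Every point of `U ×_Y X` over a geometric point with algebraically closed field is the image
of a geometric point over it. -/
lemma exists_liftPt [IsAlgClosed Ω] [IsIntegralHom f] {U : Y.Etale}
    (t : (Scheme.pointSmallEtale η).fiber.obj U) (x : ((EtCoh.bc f).obj U).left)
    (hx : (pullback.fst U.hom f).base x = t.left.base (default : Spec (CommRingCat.of Ω))) :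
    ∃ (ξ : Spec (CommRingCat.of Ω) ⟶ X) (hξ : ξ ≫ f = η),
      (liftPt f t ξ hξ).left.base (default : Spec (CommRingCat.of Ω)) = x := by
  let f' := pullback.fst U.hom f
  have : IsIntegralHom f' := MorphismProperty.pullback_fst U.hom f ‹_›
  let t₀ : Spec (CommRingCat.of Ω) ⟶ U.left := t.left
  let Q := pullback f' t₀
  have : IsIntegralHom (pullback.snd f' t₀) := MorphismProperty.pullback_snd f' t₀ ‹_›
  have : IsAffine Q := isAffine_of_isAffineHom (pullback.snd f' t₀)
  obtain ⟨z, hz, -⟩ := Scheme.Pullback.exists_preimage_pullback (f := f') (g := t₀) x default hx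
  obtain ⟨φ, hφ⟩ := Spec.map_surjective (Q.isoSpec.inv ≫ pullback.snd f' t₀)
  have hint : φ.hom.IsIntegral := by
    rw [← IsIntegralHom.SpecMap_iff, hφ]
    infer_instance
  let z' : PrimeSpectrum Γ(Q, ⊤) := Q.isoSpec.hom.base z
  let _ : Algebra Ω Γ(Q, ⊤) := φ.hom.toAlgebra
  have : Algebra.IsIntegral Ω Γ(Q, ⊤) := ⟨hint⟩
  have : Algebra.IsIntegral Ω (Γ(Q, ⊤) ⧸ z'.asIdeal) := Algebra.IsIntegral.tower_top (R := Ω)
  let e : Ω ≃+* (Γ(Q, ⊤) ⧸ z'.asIdeal) :=
    RingEquiv.ofBijective (algebraMap Ω (Γ(Q, ⊤) ⧸ z'.asIdeal))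
      IsAlgClosed.algebraMap_bijective_of_isIntegral
  let ψ : Γ(Q, ⊤) ⟶ CommRingCat.of Ω :=
    CommRingCat.ofHom (e.symm.toRingHom.comp (Ideal.Quotient.mk z'.asIdeal))
  have hψ : φ ≫ ψ = 𝟙 _ := CommRingCat.hom_ext (RingHom.ext fun a => e.symm_apply_apply a)
  let q := Spec.map ψ ≫ Q.isoSpec.inv
  have hq : q ≫ pullback.snd f' t₀ = 𝟙 _ := by
    rw [Category.assoc, ← hφ, ← Spec.map_comp, hψ, Spec.map_id]
  have hqz : q.base default = z := by
    have h1 : (Spec.map ψ).base default = z' := by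
      refine PrimeSpectrum.ext ?_
      refine (congrArg (Ideal.comap ψ.hom) (Ideal.eq_bot_of_prime _)).trans ?_
      ext a
      rw [Ideal.mem_comap, Ideal.mem_bot]
      exact (map_eq_zero_iff _ e.symm.injective).trans Ideal.Quotient.eq_zero_iff_mem
    rw [Scheme.Hom.comp_apply, h1]
    change Q.isoSpec.inv.base (Q.isoSpec.hom.base z) = z
    rw [← Scheme.Hom.comp_apply, Iso.hom_inv_id]
    rfl
  let p := q ≫ pullback.fst f' t₀
  have hp : p ≫ f' = t₀ := by
    rw [Category.assoc, pullback.condition, ← Category.assoc, hq, Category.id_comp]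
  have hξ : (p ≫ pullback.snd U.hom f) ≫ f = η := by
    refine (Category.assoc _ _ _).trans ((congrArg (p ≫ ·) pullback.condition.symm).trans ?_)
    exact ((Category.assoc _ _ _).symm.trans (congrArg (· ≫ U.hom) hp)).trans (Over.w t)
  refine ⟨p ≫ pullback.snd U.hom f, hξ, ?_⟩
  have : (liftPt f t (p ≫ pullback.snd U.hom f) hξ).left = p := by
    apply pullback.hom_ext
    · exact (pullback.lift_fst _ _ _).trans hp.symm
    · exact pullback.lift_snd _ _ _
  refine (congrArg (fun m : Spec (CommRingCat.of Ω) ⟶ _ => m.base default) this).trans ?_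
  exact (Scheme.Hom.comp_apply _ _ _).trans ((congrArg (pullback.fst f' t₀).base hqz).trans hz)

/-- Sections of a direct image along an integral morphism which agree near all geometric points
over `η` agree near `η`. -/
theorem exists_nbhd_eq [IsAlgClosed Ω] [IsIntegralHom f] {P : X.Etaleᵒᵖ ⥤ Type w}
    (hP : Presieve.IsSheaf X.smallEtaleTopology P) {U : Y.Etale}
    (t : (Scheme.pointSmallEtale η).fiber.obj U) (s s' : P.obj (op ((EtCoh.bc f).obj U)))
    (h : ∀ (ξ : Spec (CommRingCat.of Ω) ⟶ X) (hξ : ξ ≫ f = η),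
      ∃ (W : X.Etale) (g : W ⟶ (EtCoh.bc f).obj U) (w : (Scheme.pointSmallEtale ξ).fiber.obj W),
        (Scheme.pointSmallEtale ξ).fiber.map g w = liftPt f t ξ hξ ∧
          P.map g.op s = P.map g.op s') :
    ∃ (V : Y.Etale) (e : V ⟶ U) (v : (Scheme.pointSmallEtale η).fiber.obj V),
      (Scheme.pointSmallEtale η).fiber.map e v = t ∧
        P.map ((EtCoh.bc f).map e).op s = P.map ((EtCoh.bc f).map e).op s' := by
  choose ξ hξ hpt using fun x : {x : ((EtCoh.bc f).obj U).left //
      (pullback.fst U.hom f).base x = t.left.base (default : Spec (CommRingCat.of Ω))} =>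
    exists_liftPt f t x.1 x.2
  choose W g w hw hs using fun x => h (ξ x) (hξ x)
  obtain ⟨V, e, v, O, k, hev, hdisj, hsup, hk, -⟩ := exists_site_nbhd f U t W g (fun x hx =>
      ⟨⟨x, hx⟩, (w ⟨x, hx⟩).left.base (default : Spec (CommRingCat.of Ω)),
        (base_fiber_map _ (g ⟨x, hx⟩) (w ⟨x, hx⟩) _ (hw _)).trans (hpt ⟨x, hx⟩)⟩)
    (μ := Fin 0) (fun i => i.elim0) (fun i => i.elim0) (fun i => i.elim0) Fin.elim0
    (fun i => i.elim0) (fun i => i.elim0)
  refine ⟨V, e, v, hev, eq_of_glue hP _ O hsup _ _ fun i => ?_⟩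
  rw [← ConcreteCategory.comp_apply, ← ConcreteCategory.comp_apply, ← P.map_comp, ← op_comp,
    ← hk i, op_comp, P.map_comp, ConcreteCategory.comp_apply, ConcreteCategory.comp_apply, hs i]

end GrothLib.EtSite
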