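import Groth.Agent.Lib.EtSite.StageSep
import Groth.Agent.Lib.EtSite.SiteNbhd

/-!
# Open sets of geometric fibres come from etale neighbourhoods
-/

universe u

open CategoryTheory CategoryTheory.Limits AlgebraicGeometry Opposite TensorProduct
open GrothLib.Hensel (Nbhd)

namespace GrothLib.EtSite

/-- For `W` etale over `X` integral over `Y`, an open neighbourhood of a point in the geometric
fibre of `W` at `η` contains the points of an open subscheme of `W ×_Y V`, for some etale
neighbourhood `V` of `η`. -/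
theorem exists_stage_open {X Y : Scheme.{u}} (f : X ⟶ Y) [IsIntegralHom f] {Ω : Type u} [Field Ω]
    [IsAlgClosed Ω] {η : Spec (CommRingCat.of Ω) ⟶ Y} (W : X.Etale)
    {ξ₀ : Spec (CommRingCat.of Ω) ⟶ X} (hξ₀ : ξ₀ ≫ f = η)
    (w : (Scheme.pointSmallEtale ξ₀).fiber.obj W) (O : (pullback (W.hom ≫ f) η).Opens)
    (hw : ∀ l : Spec (CommRingCat.of Ω) ⟶ pullback (W.hom ≫ f) η,
      l ≫ pullback.fst _ _ = w.left → l ≫ pullback.snd _ _ = 𝟙 _ → l.base default ∈ O) :
    ∃ (V : Y.Etale) (v : (Scheme.pointSmallEtale η).fiber.obj V) (T : X.Etale) (a : T ⟶ W)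
      (b : T ⟶ (EtCoh.bc f).obj V) (p₀ : (Scheme.pointSmallEtale ξ₀).fiber.obj T),
      (Scheme.pointSmallEtale ξ₀).fiber.map b p₀ = liftPt f v ξ₀ hξ₀ ∧
      ∀ (ξ : Spec (CommRingCat.of Ω) ⟶ X) (hξ : ξ ≫ f = η)
        (p : (Scheme.pointSmallEtale ξ).fiber.obj T),
        (Scheme.pointSmallEtale ξ).fiber.map b p = liftPt f v ξ hξ →
          ∃ l : Spec (CommRingCat.of Ω) ⟶ pullback (W.hom ≫ f) η,
            l ≫ pullback.fst _ _ = ((Scheme.pointSmallEtale ξ).fiber.map a p).left ∧
              l ≫ pullback.snd _ _ = 𝟙 _ ∧ l.base default ∈ O := by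
  obtain ⟨A, jY, _, hy, -⟩ := AlgebraicGeometry.Scheme.exists_affine_mem_range_and_range_subset
    (x := η.base default) (U := ⊤) (by simp)
  obtain ⟨ηA, hηA⟩ := exists_lift_of_mem_range jY η hy
  let X' := pullback f jY
  have : IsIntegralHom (pullback.snd f jY) := MorphismProperty.pullback_snd _ _ inferInstance
  have : IsAffine X' := isAffine_of_isAffineHom (pullback.snd f jY)
  let B : CommRingCat.{u} := Γ(X', ⊤)
  let k : Spec B ⟶ X := X'.isoSpec.inv ≫ pullback.fst f jY
  have : IsOpenImmersion (pullback.fst f jY) := inferInstance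
  have : IsOpenImmersion k := inferInstanceAs (IsOpenImmersion (X'.isoSpec.inv ≫ _))
  obtain ⟨φ, hφ⟩ := Spec.map_surjective (X'.isoSpec.inv ≫ pullback.snd f jY)
  have hsq : IsPullback k (Spec.map φ) f jY := by
    rw [hφ]
    exact (IsPullback.of_hasPullback f jY).of_iso X'.isoSpec (Iso.refl _) (Iso.refl _) (Iso.refl _)
      (by simp [k]) (by simp) (by simp) (by simp)
  have hint : φ.hom.IsIntegral := by
    rw [← IsIntegralHom.SpecMap_iff, hφ]
    infer_instance
  let _ : Algebra A B := φ.hom.toAlgebra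
  have : Algebra.IsIntegral A B := ⟨hint⟩
  obtain ⟨ρ, hρ⟩ := Spec.map_surjective ηA
  let _ : Algebra A Ω := ρ.hom.toAlgebra
  let W₀ : Scheme.{u} := W.left
  let gW : W₀ ⟶ X := W.hom
  have : Etale gW := W.prop
  let gB := pullback.snd gW k
  have : Etale gB := MorphismProperty.pullback_snd _ _ inferInstance
  let w₀ : Spec (CommRingCat.of Ω) ⟶ W₀ := w.left
  have hw₀ : w₀ ≫ gW = ξ₀ := Over.w w
  let ωB : Fin 1 → (Spec (CommRingCat.of Ω) ⟶ pullback gW k) := fun _ =>
    pullback.lift w₀ (hsq.lift ξ₀ ηA (hξ₀.trans hηA.symm)) (hw₀.trans (hsq.lift_fst _ _ _).symm)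
  obtain ⟨E, a, haE, ωE, -, hωE⟩ :=
    exists_affine_etale_cover gB ∅ isCompact_empty (Set.empty_subset _) ωB
  obtain ⟨χ, hχ⟩ := Spec.map_surjective (a ≫ gB)
  let _ : Algebra B E := χ.hom.toAlgebra
  have : Algebra.Etale B E := by
    have : χ.hom.Etale := by
      rw [← HasRingHomProperty.Spec_iff (P := @Etale), hχ]; exact haE
    exact this
  let _ : Algebra A E := (χ.hom.comp φ.hom).toAlgebra
  have : IsScalarTower A B E := IsScalarTower.of_algebraMap_eq fun _ => rfl
  let aW : Spec E ⟶ W₀ := a ≫ pullback.fst gW k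
  have haW : aW ≫ gW = Spec.map χ ≫ k := by
    rw [hχ, Category.assoc, Category.assoc, pullback.condition]
  have haWet : Etale (aW ≫ gW) := by
    rw [haW, hχ]
    infer_instance
  have haWf : aW ≫ gW ≫ f = Spec.map (CommRingCat.ofHom (algebraMap A E)) ≫ jY := by
    rw [← Category.assoc, haW, Category.assoc, hsq.w, ← Category.assoc, ← Spec.map_comp]
    rfl
  obtain ⟨θ, hθ⟩ := Spec.map_surjective (ωE 0)
  let ψ₀ : (E : Type u) →ₐ[A] Ω :=
    { θ.hom with
      commutes' := fun x => by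
        have h : (φ ≫ χ) ≫ θ = ρ := by
          apply Spec.map_injective
          rw [Spec.map_comp, Spec.map_comp, hθ, hχ]
          simp only [Category.assoc]
          rw [reassoc_of% (hωE 0), hρ]
          exact ((Category.assoc _ _ _).symm.trans (congrArg (· ≫ Spec.map φ) (pullback.lift_snd _ _ _))).trans (hsq.lift_snd _ _ _)
        exact congrArg (fun m : A ⟶ CommRingCat.of Ω => m.hom x) h }
  let iL {C : Type u} [CommRing C] [Algebra A C] :
      Spec (CommRingCat.of ((E : Type u) ⊗[A] C)) ⟶ Spec E :=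
    Spec.map (CommRingCat.ofHom Algebra.TensorProduct.includeLeftRingHom)
  let iR {C : Type u} [CommRing C] [Algebra A C] :
      Spec (CommRingCat.of ((E : Type u) ⊗[A] C)) ⟶ Spec (CommRingCat.of C) :=
    Spec.map (CommRingCat.ofHom (Algebra.TensorProduct.includeRight (R := A) (A := E)).toRingHom)
  have hLR : ∀ (C : Type u) [CommRing C] [Algebra A C],
      iL (C := C) ≫ aW ≫ gW ≫ f =
        iR (C := C) ≫ Spec.map (CommRingCat.ofHom (algebraMap A C)) ≫ jY := by
    intro C _ _
    rw [haWf, ← Category.assoc, ← Category.assoc, ← Spec.map_comp, ← Spec.map_comp]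
    congr 2
    exact CommRingCat.hom_ext (RingHom.ext fun x =>
      ((Algebra.TensorProduct.includeLeft : (E : Type u) →ₐ[A] _ ⊗[A] C).commutes x).trans
        ((Algebra.TensorProduct.includeRight : C →ₐ[A] (E : Type u) ⊗[A] C).commutes x).symm)
  have hηΩ : Spec.map (CommRingCat.ofHom (algebraMap A Ω)) ≫ jY = η := by
    rw [← hηA, ← hρ]
    rfl
  let c : Spec (CommRingCat.of ((E : Type u) ⊗[A] Ω)) ⟶ pullback (W.hom ≫ f) η :=
    pullback.lift (iL ≫ aW) iR (by
      refine (Category.assoc _ _ _).trans ((hLR Ω).trans ?_)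
      rw [hηΩ])
  let P (ψ : (E : Type u) →ₐ[A] Ω) : Spec (CommRingCat.of Ω) ⟶ pullback (W.hom ≫ f) η :=
    Spec.map (CommRingCat.ofHom (R := (E : Type u) ⊗[A] Ω) (ptHom ψ).toRingHom) ≫ c
  have hP1 : ∀ ψ, P ψ ≫ pullback.fst _ _ = Spec.map (CommRingCat.ofHom ψ.toRingHom) ≫ aW := by
    intro ψ
    refine (Category.assoc _ _ _).trans ((congrArg (_ ≫ ·) (pullback.lift_fst _ _ _)).trans ?_)
    rw [← Category.assoc, ← Spec.map_comp]
    congr 2
    exact CommRingCat.hom_ext (RingHom.ext fun e => by simp)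
  have hP2 : ∀ ψ, P ψ ≫ pullback.snd _ _ = 𝟙 _ := by
    intro ψ
    refine (Category.assoc _ _ _).trans ((congrArg (_ ≫ ·) (pullback.lift_snd _ _ _)).trans ?_)
    rw [← Spec.map_comp, ← Spec.map_id]
    congr 1
    exact CommRingCat.hom_ext (RingHom.ext fun e => by simp)
  have hPpt : ∀ ψ, (P ψ).base default =
      c.base ⟨RingHom.ker (ptHom ψ).toRingHom, (ker_ptHom_isMaximal ψ).isPrime⟩ := fun ψ => by
    refine (Scheme.Hom.comp_apply _ _ _).trans (congrArg c.base (PrimeSpectrum.ext ?_))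
    exact congrArg (Ideal.comap (ptHom ψ).toRingHom) (Ideal.eq_bot_of_prime _)
  have hψ₀ : Spec.map (CommRingCat.ofHom ψ₀.toRingHom) ≫ aW = w₀ := by
    change Spec.map θ ≫ a ≫ pullback.fst gW k = w₀
    rw [hθ, ← Category.assoc, hωE]
    exact pullback.lift_fst _ _ _
  obtain ⟨N, d, hd₀, hd⟩ := exists_stage_nhd (B := (B : Type u)) ψ₀ (c.base ⁻¹' O)
    (c.continuous.isOpen_preimage _ O.2) (by
      change c.base _ ∈ O
      rw [← hPpt]
      exact hw _ ((hP1 ψ₀).trans hψ₀) (hP2 ψ₀))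
  let u := Spec.map (CommRingCat.ofHom (algebraMap A N.Ring))
  have hu : Etale u := by
    rw [HasRingHomProperty.Spec_iff (P := @Etale)]
    exact RingHom.etale_algebraMap.2 N.etale
  let V : Y.Etale := Scheme.Etale.mk (u ≫ jY)
  let t : Spec (CommRingCat.of Ω) ⟶ Spec (CommRingCat.of N.Ring) :=
    Spec.map (CommRingCat.ofHom N.pt.toRingHom)
  let v : (Scheme.pointSmallEtale η).fiber.obj V := fib η (U := V) t (by
    change t ≫ u ≫ jY = η
    rw [← Category.assoc, ← Spec.map_comp, ← hηΩ]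
    congr 2
    exact CommRingCat.hom_ext N.pt.comp_algebraMap)
  let R : Type u := (E : Type u) ⊗[A] N.Ring
  let Rd : Type u := Localization.Away (d : R)
  let loc : Spec (CommRingCat.of Rd) ⟶ Spec (CommRingCat.of R) :=
    Spec.map (CommRingCat.ofHom (algebraMap R Rd))
  have hloc : IsOpenImmersion loc := IsOpenImmersion.of_isLocalization (S := Rd) (d : R)
  have hiL : Etale (iL (C := N.Ring)) := by
    rw [HasRingHomProperty.Spec_iff (P := @Etale)]
    have : Algebra.Etale A N.Ring := N.etale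
    exact RingHom.etale_algebraMap.2 (inferInstance : Algebra.Etale E ((E : Type u) ⊗[A] N.Ring))
  let sT : Spec (CommRingCat.of Rd) ⟶ W₀ := loc ≫ iL (C := N.Ring) ≫ aW
  have : Etale (sT ≫ gW) := by
    have h : sT ≫ gW = loc ≫ iL (C := N.Ring) ≫ (aW ≫ gW) := by
      simp only [sT, Category.assoc]
    rw [h]
    infer_instance
  let T : X.Etale := Scheme.Etale.mk (sT ≫ gW)
  let aT : T ⟶ W := MorphismProperty.Over.homMk sT rfl
  let bT : T ⟶ (EtCoh.bc f).obj V := MorphismProperty.Over.homMk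
    (pullback.lift (loc ≫ iR (C := N.Ring)) (sT ≫ gW) (by
      change (loc ≫ iR (C := N.Ring)) ≫ u ≫ jY = (sT ≫ gW) ≫ f
      simp only [sT, Category.assoc, hLR N.Ring, u])) (pullback.lift_snd _ _ _)
  -- the base point
  let ν : R →+* Ω := (Algebra.TensorProduct.lift ψ₀ N.pt (fun _ _ => .all _ _)).toRingHom
  let q₀ : Spec (CommRingCat.of Ω) ⟶ Spec (CommRingCat.of Rd) :=
    Spec.map (CommRingCat.ofHom (IsLocalization.Away.lift (S := Rd) (d : R)
      (g := ν) (show IsUnit (ν d) from isUnit_iff_ne_zero.2 hd₀)))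
  have hq₀ : q₀ ≫ loc = Spec.map (CommRingCat.ofHom ν) := by
    rw [← Spec.map_comp]
    congr 1
    rw [← CommRingCat.ofHom_comp, IsLocalization.Away.lift_comp]
  have hq₀L : q₀ ≫ loc ≫ iL (C := N.Ring) = Spec.map (CommRingCat.ofHom ψ₀.toRingHom) := by
    rw [← Category.assoc, hq₀, ← Spec.map_comp]
    congr 1
    exact CommRingCat.hom_ext (RingHom.ext fun e =>
      (Algebra.TensorProduct.lift_tmul ψ₀ N.pt (fun _ _ => .all _ _) e 1).trans (by rw [map_one, mul_one]; rfl))
  have hq₀R : q₀ ≫ loc ≫ iR (C := N.Ring) = t := by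
    rw [← Category.assoc, hq₀, ← Spec.map_comp]
    simp only [t]
    congr 1
    exact CommRingCat.hom_ext (RingHom.ext fun e =>
      (Algebra.TensorProduct.lift_tmul ψ₀ N.pt (fun _ _ => .all _ _) 1 e).trans (by rw [map_one, one_mul]; rfl))
  let p₀ : (Scheme.pointSmallEtale ξ₀).fiber.obj T := fib ξ₀ (U := T) q₀ (by
    change q₀ ≫ (loc ≫ iL (C := N.Ring) ≫ aW) ≫ gW = ξ₀
    rw [← hw₀, ← hψ₀, ← hq₀L]
    simp only [Category.assoc])
  refine ⟨V, v, T, aT, bT, p₀, ?_, fun ξ hξ p hp => ?_⟩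
  · apply Over.OverMorphism.ext
    apply pullback.hom_ext
    · refine (Category.assoc _ _ _).trans ((congrArg (q₀ ≫ ·) (pullback.lift_fst _ _ _)).trans ?_)
      exact hq₀R.trans (pullback.lift_fst _ _ _).symm
    · refine (Category.assoc _ _ _).trans ((congrArg (q₀ ≫ ·) (pullback.lift_snd _ _ _)).trans ?_)
      exact (Over.w p₀).trans (pullback.lift_snd _ _ _).symm
  · let q : Spec (CommRingCat.of Ω) ⟶ Spec (CommRingCat.of Rd) := p.left
    obtain ⟨κ, hκ⟩ := Spec.map_surjective q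
    let κR : R →+* Ω := (CommRingCat.ofHom (algebraMap R Rd) ≫ κ).hom
    have hκR : q ≫ loc = Spec.map (CommRingCat.ofHom κR) := by
      rw [← hκ, ← Spec.map_comp]
      rfl
    have hR : q ≫ loc ≫ iR (C := N.Ring) = t := by
      have h := congrArg (fun m => m.left ≫ pullback.fst V.hom f) hp
      refine Eq.trans ?_ (h.trans (pullback.lift_fst _ _ _))
      exact ((Category.assoc _ _ _).trans (congrArg (q ≫ ·) (pullback.lift_fst _ _ _))).symm
    have hκpt : ∀ y : N.Ring, κR ((1 : E) ⊗ₜ y) = N.pt y := fun y => by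
      rw [← Category.assoc, hκR, ← Spec.map_comp] at hR
      exact congrArg (fun m : CommRingCat.of N.Ring ⟶ CommRingCat.of Ω => m.hom y)
        (Spec.map_injective hR)
    let ψ : (E : Type u) →ₐ[A] Ω :=
      { κR.comp Algebra.TensorProduct.includeLeftRingHom with
        commutes' := fun x => by
          change κR (algebraMap A E x ⊗ₜ 1) = algebraMap A Ω x
          rw [Algebra.algebraMap_eq_smul_one, TensorProduct.smul_tmul, hκpt,
            ← Algebra.algebraMap_eq_smul_one, AlgHom.commutes] }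
    have hκψ : ∀ z : R, κR z = stageVal ψ z := by
      intro z
      induction z using TensorProduct.induction_on with
      | zero => simp
      | tmul e y =>
        have h : (e ⊗ₜ[A] y : (E : Type u) ⊗[A] N.Ring) = (e ⊗ₜ 1) * (1 ⊗ₜ y) := by simp
        conv_lhs => rw [h, map_mul, hκpt]
        simp [stageVal, ψ]
        exact Or.inl rfl
      | add a b ha hb => simp only [stageVal, map_add] at ha hb ⊢; rw [ha, hb]
    have hne : stageVal ψ d ≠ 0 := by
      rw [← hκψ]
      exact (show IsUnit (κ.hom (algebraMap R Rd d)) from (IsLocalization.Away.algebraMap_isUnit (S := Rd) (d : R)).map κ.hom).ne_zero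
    refine ⟨P ψ, (hP1 ψ).trans ?_, hP2 ψ, (hPpt ψ).symm ▸ hd ψ hne⟩
    change _ = q ≫ loc ≫ iL (C := N.Ring) ≫ aW
    rw [← Category.assoc loc, ← Category.assoc q, ← Category.assoc q, hκR, ← Spec.map_comp]
    congr 2

end GrothLib.EtSite
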