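import Groth.Agent.Lib.EtSite.Pull
import Groth.Prelude.Def_SGA4b

/-!
# Geometric stalks of etale sheaves of sets

Monomorphisms, epimorphisms and isomorphisms of etale sheaves of sets are detected on the stalks
at any family of geometric points meeting every point of the scheme; stalks of inverse images.
-/

universe u

open CategoryTheory CategoryTheory.Limits AlgebraicGeometry Opposite

namespace GrothLib.EtSite

instance ab5OfSize_shrink_type : AB5OfSize.{u, u} (Type (u + 1)) := by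
  have : AB5OfSize.{u + 1, u + 1} (Type (u + 1)) := inferInstanceAs (AB5 (Type (u + 1)))
  exact AB5OfSize_of_univLE.{u, u, u + 1, u + 1} (Type (u + 1))

variable {X Y : Scheme.{u}}

/-- Stalk of a sheaf of sets at a geometric point. -/
noncomputable abbrev stalkSh {Ω : Type u} [Field Ω] [IsSepClosed Ω]
    (ξ : Spec (CommRingCat.of Ω) ⟶ X) : EtDesc.Sh X ⥤ Type (u + 1) :=
  (Scheme.pointSmallEtale ξ).sheafFiber

lemma app_injective_of_stalksSh {F G : EtDesc.Sh X} (a : F ⟶ G)
    (h : ∀ x : X, ∃ (Ω : Type u) (_ : Field Ω) (_ : IsSepClosed Ω)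
      (ξ : Spec (CommRingCat.of Ω) ⟶ X), ξ.base default = x ∧
        Function.Injective ((stalkSh ξ).map a)) (U : X.Etale) :
    Function.Injective (a.hom.app (op U)) := by
  intro s₁ s₂ he
  let R : Sieve U :=
    { arrows := fun V g => F.obj.map g.op s₁ = F.obj.map g.op s₂
      downward_closed := by
        intro V W g hg k
        rw [op_comp, Functor.map_comp, ConcreteCategory.comp_apply, hg, ConcreteCategory.comp_apply] }
  have hR : R ∈ X.smallEtaleTopology U := by
    rw [mem_topology_iff]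
    intro u
    obtain ⟨Ω, _, _, ξ, hξ, hinj⟩ := h (U.hom.base u)
    obtain ⟨t, ht⟩ := exists_fib ξ u hξ.symm
    have h' : (Scheme.pointSmallEtale ξ).toPresheafFiber U t F.obj s₁ =
        (Scheme.pointSmallEtale ξ).toPresheafFiber U t F.obj s₂ := by
      apply hinj
      exact ((Scheme.pointSmallEtale ξ).toPresheafFiber_naturality_apply a.hom U t s₁).trans
        ((congrArg _ he).trans
          ((Scheme.pointSmallEtale ξ).toPresheafFiber_naturality_apply a.hom U t s₂).symm)
    obtain ⟨V, g, v, hv, hg⟩ :=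
      ((Scheme.pointSmallEtale ξ).toPresheafFiber_eq_iff' (P := F.obj) U t s₁ s₂).1 h'
    exact ⟨V, g, _, hg, (base_fiber_map ξ g v t hv).trans ht⟩
  exact (((isSheaf_iff_isSheaf_of_type _ _).1 F.property) R hR).isSeparatedFor.ext fun V g hg => hg

lemma mono_of_stalksSh {F G : EtDesc.Sh X} (a : F ⟶ G)
    (h : ∀ x : X, ∃ (Ω : Type u) (_ : Field Ω) (_ : IsSepClosed Ω)
      (ξ : Spec (CommRingCat.of Ω) ⟶ X), ξ.base default = x ∧
        Function.Injective ((stalkSh ξ).map a)) : Mono a := by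
  have : Sheaf.IsLocallyInjective a :=
    Sheaf.isLocallyInjective_iff_injective a |>.2 fun U => app_injective_of_stalksSh a h U.unop
  exact Sheaf.mono_of_isLocallyInjective a

lemma isLocallySurjective_of_stalksSh {F G : EtDesc.Sh X} (a : F ⟶ G)
    (h : ∀ x : X, ∃ (Ω : Type u) (_ : Field Ω) (_ : IsSepClosed Ω)
      (ξ : Spec (CommRingCat.of Ω) ⟶ X), ξ.base default = x ∧
        Function.Surjective ((stalkSh ξ).map a)) : Sheaf.IsLocallySurjective a := by
  refine ⟨fun {U} s => ?_⟩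
  rw [mem_topology_iff]
  intro u
  obtain ⟨Ω, _, _, ξ, hξ, hsurj⟩ := h (U.hom.base u)
  obtain ⟨t, ht⟩ := exists_fib ξ u hξ.symm
  let Φ := Scheme.pointSmallEtale ξ
  obtain ⟨p, hp⟩ := hsurj (Φ.toPresheafFiber U t G.obj s)
  obtain ⟨W, w, z, rfl⟩ := Φ.toPresheafFiber_jointly_surjective (P := F.obj) p
  replace hp := (Φ.toPresheafFiber_naturality_apply a.hom W w z).symm.trans hp
  obtain ⟨⟨V₀, v₀⟩, ⟨k, hk⟩, ⟨g, hg⟩, -⟩ :=
    IsCofilteredOrEmpty.cone_objs (C := Φ.fiber.Elements) ⟨W, w⟩ ⟨U, t⟩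
  dsimp only at k g hk hg
  rw [← hk, ← hg] at hp
  rw [← Φ.toPresheafFiber_w_apply k v₀, ← Φ.toPresheafFiber_w_apply g v₀] at hp
  obtain ⟨V, r, v, hv, he⟩ := (Φ.toPresheafFiber_eq_iff' (P := G.obj) V₀ v₀ _ _).1 hp
  refine ⟨V, r ≫ g, v.left.base (default : Spec (CommRingCat.of Ω)), ⟨F.obj.map (r ≫ k).op z, ?_⟩,
    (base_fiber_map ξ (r ≫ g) v t ?_).trans ht⟩
  · rw [NatTrans.naturality_apply, op_comp, Functor.map_comp, ConcreteCategory.comp_apply,
      op_comp, Functor.map_comp, ConcreteCategory.comp_apply, ← he]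
  · rw [Functor.map_comp, ConcreteCategory.comp_apply, hv, hg]

lemma epi_of_stalksSh {F G : EtDesc.Sh X} (a : F ⟶ G)
    (h : ∀ x : X, ∃ (Ω : Type u) (_ : Field Ω) (_ : IsSepClosed Ω)
      (ξ : Spec (CommRingCat.of Ω) ⟶ X), ξ.base default = x ∧
        Function.Surjective ((stalkSh ξ).map a)) : Epi a := by
  have := isLocallySurjective_of_stalksSh a h
  exact Sheaf.epi_of_isLocallySurjective a

lemma isIso_of_stalksSh {F G : EtDesc.Sh X} (a : F ⟶ G)
    (h : ∀ x : X, ∃ (Ω : Type u) (_ : Field Ω) (_ : IsSepClosed Ω)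
      (ξ : Spec (CommRingCat.of Ω) ⟶ X), ξ.base default = x ∧
        Function.Bijective ((stalkSh ξ).map a)) : IsIso a := by
  have := mono_of_stalksSh a fun x => by
    obtain ⟨Ω, i, j, ξ, h1, h2⟩ := h x; exact ⟨Ω, i, j, ξ, h1, h2.injective⟩
  have := epi_of_stalksSh a fun x => by
    obtain ⟨Ω, i, j, ξ, h1, h2⟩ := h x; exact ⟨Ω, i, j, ξ, h1, h2.surjective⟩
  exact Balanced.isIso_of_mono_of_epi a

lemma hom_ext_of_stalksSh {F G : EtDesc.Sh X} (a b : F ⟶ G)
    (h : ∀ x : X, ∃ (Ω : Type u) (_ : Field Ω) (_ : IsSepClosed Ω)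
      (ξ : Spec (CommRingCat.of Ω) ⟶ X), ξ.base default = x ∧
        (stalkSh ξ).map a = (stalkSh ξ).map b) : a = b := by
  ext U s
  let R : Sieve U.unop :=
    { arrows := fun V g => G.obj.map g.op (a.hom.app U s) = G.obj.map g.op (b.hom.app U s)
      downward_closed := by
        intro V W g hg k
        rw [op_comp, Functor.map_comp, ConcreteCategory.comp_apply, hg, ConcreteCategory.comp_apply] }
  have hR : R ∈ X.smallEtaleTopology U.unop := by
    rw [mem_topology_iff]
    intro u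
    obtain ⟨Ω, _, _, ξ, hξ, he⟩ := h (U.unop.hom.base u)
    obtain ⟨t, ht⟩ := exists_fib ξ u hξ.symm
    let Φ := Scheme.pointSmallEtale ξ
    have h' : Φ.toPresheafFiber U.unop t G.obj (a.hom.app U s) =
        Φ.toPresheafFiber U.unop t G.obj (b.hom.app U s) :=
      (Φ.toPresheafFiber_naturality_apply a.hom U.unop t s).symm.trans
        ((ConcreteCategory.congr_hom he _).trans
          (Φ.toPresheafFiber_naturality_apply b.hom U.unop t s))
    obtain ⟨V, g, v, hv, hg⟩ := (Φ.toPresheafFiber_eq_iff' (P := G.obj) U.unop t _ _).1 h'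
    exact ⟨V, g, _, hg, (base_fiber_map ξ g v t hv).trans ht⟩
  exact (((isSheaf_iff_isSheaf_of_type _ _).1 G.property) R hR).isSeparatedFor.ext fun V g hg => hg

variable {Ω : Type u} [Field Ω] [IsSepClosed Ω] (ξ : Spec (CommRingCat.of Ω) ⟶ X) (f : X ⟶ Y)

/-- The stalk of an inverse image of a sheaf of sets is the stalk at the image point. -/
noncomputable def pullStalkShIso : EtDesc.pullSh f ⋙ stalkSh ξ ≅ stalkSh (ξ ≫ f) :=
  ((Scheme.pointSmallEtale ξ).sheafFiberComapIso (EtCoh.bc f) (EtCoh.coverPreserving_bc f)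
    (Type (u + 1))).symm ≪≫
  { hom := (comapPointIso ξ f).inv.sheafFiber
    inv := (comapPointIso ξ f).hom.sheafFiber
    hom_inv_id := by
      rw [← GrothendieckTopology.Point.Hom.sheafFiber_comp, Iso.hom_inv_id,
        GrothendieckTopology.Point.Hom.sheafFiber_id]
    inv_hom_id := by
      rw [← GrothendieckTopology.Point.Hom.sheafFiber_comp, Iso.inv_hom_id,
        GrothendieckTopology.Point.Hom.sheafFiber_id] }

end GrothLib.EtSite
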