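import Groth.Agent.Lib.EtSite.Immersion
import Groth.Agent.Lib.EtSite.SetPoints

/-!
# Direct image of sheaves of sets along an immersion
-/

universe u

open CategoryTheory CategoryTheory.Limits AlgebraicGeometry Opposite

namespace GrothLib.EtSite

variable {Z X : Scheme.{u}} (i : Z ⟶ X)

/-- For an immersion the counit for sheaves of sets is an isomorphism. -/
theorem isIso_counitSh [IsImmersion i] (G : EtDesc.Sh Z) :
    IsIso ((EtDesc.adjSh i).counit.app G) := inferInstance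

lemma sect_unique_of_isEmpty (F : EtDesc.Sh X) (U : X.Etale) [IsEmpty U.left] :
    Nonempty (Unique (EtDesc.sect F U)) := by
  have hR : (⊥ : Sieve U) ∈ X.smallEtaleTopology U :=
    (mem_topology_iff _).2 fun u => IsEmpty.elim ‹IsEmpty U.left› u
  have h := ((isSheaf_iff_isSheaf_of_type _ _).1 F.property) _ hR
  obtain ⟨t, -, ht⟩ := h (fun _ _ hg => hg.elim) (fun _ _ _ _ _ _ _ h => h.elim)
  exact ⟨{ default := t, uniq := fun s => ht s fun _ _ hg => hg.elim }⟩

/-- A sheaf of sets has a one-point stalk at a point near which all its sections are unique. -/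
lemma stalkSh_unique_of_nhds (F : EtDesc.Sh X) {Ω : Type u} [Field Ω] [IsSepClosed Ω]
    (ξ : Spec (CommRingCat.of Ω) ⟶ X) (O : X.Opens) (hO : ξ.base default ∈ O)
    (hF : ∀ U : X.Etale, (∀ x : U.left, U.hom.base x ∈ O) →
      Nonempty (Unique (EtDesc.sect F U))) :
    Nonempty (Unique ((stalkSh ξ).obj F)) := by
  have step : ∀ (U : X.Etale) (t : (Scheme.pointSmallEtale ξ).fiber.obj U),
      ∃ (V : X.Etale) (g : V ⟶ U) (v : (Scheme.pointSmallEtale ξ).fiber.obj V),
        (Scheme.pointSmallEtale ξ).fiber.map g v = t ∧ ∀ x : V.left, V.hom.base x ∈ O := by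
    intro U t
    let f : U.left ⟶ X := U.hom
    have : Etale f := U.prop
    have hι : IsOpenImmersion (f ⁻¹ᵁ O).ι := Scheme.Opens.instIsOpenImmersionι _
    let V : X.Etale := Scheme.Etale.mk ((f ⁻¹ᵁ O).ι ≫ f)
    let g : V ⟶ U := MorphismProperty.Over.homMk (f ⁻¹ᵁ O).ι rfl
    let l : Spec (CommRingCat.of Ω) ⟶ U.left := t.left
    have hl : l ≫ f = ξ := Over.w t
    have hr : Set.range l.base ⊆ Set.range (f ⁻¹ᵁ O).ι.base := by
      rintro _ ⟨p, rfl⟩
      rw [Subsingleton.elim p default, Scheme.Opens.range_ι]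
      change f.base _ ∈ O
      rw [← Scheme.Hom.comp_apply, hl]
      exact hO
    refine ⟨V, g, fib ξ (U := V) (@IsOpenImmersion.lift _ _ _ (f ⁻¹ᵁ O).ι l hι hr) ?_, ?_,
      fun z => z.2⟩
    · exact ((Category.assoc _ _ _).symm.trans (congrArg (· ≫ f)
        (@IsOpenImmersion.lift_fac _ _ _ (f ⁻¹ᵁ O).ι l hι hr))).trans hl
    · exact Over.OverMorphism.ext (@IsOpenImmersion.lift_fac _ _ _ (f ⁻¹ᵁ O).ι l hι hr)
  let Φ := Scheme.pointSmallEtale ξ
  obtain ⟨t₀⟩ : Nonempty (Φ.fiber.obj (EtCoh.top X)) := ⟨fib ξ (U := EtCoh.top X) ξ (Category.comp_id _)⟩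
  obtain ⟨V₀, g₀, v₀, -, hV₀⟩ := step _ t₀
  obtain ⟨u₀⟩ := hF V₀ hV₀
  refine ⟨{ default := Φ.toPresheafFiber V₀ v₀ F.obj u₀.default, uniq := fun p => ?_ }⟩
  obtain ⟨U, t, s, rfl⟩ := Φ.toPresheafFiber_jointly_surjective (P := F.obj) p
  obtain ⟨⟨W₀, w₀⟩, ⟨k, hk⟩, ⟨g, hg⟩, -⟩ :=
    IsCofilteredOrEmpty.cone_objs (C := Φ.fiber.Elements) ⟨U, t⟩ ⟨V₀, v₀⟩
  dsimp only at k g hk hg
  obtain ⟨W, r, w, hw, hW⟩ := step W₀ w₀
  obtain ⟨uW⟩ := hF W hW
  have hk' : Φ.fiber.map (r ≫ k) w = t := by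
    rw [Functor.map_comp, ConcreteCategory.comp_apply, hw, hk]
  have hg' : Φ.fiber.map (r ≫ g) w = v₀ := by
    rw [Functor.map_comp, ConcreteCategory.comp_apply, hw, hg]
  subst hk'
  rw [← Φ.toPresheafFiber_w_apply (r ≫ k) w]
  conv_rhs => rw [← hg', ← Φ.toPresheafFiber_w_apply (r ≫ g) w]
  exact congrArg _ ((uW.uniq _).trans (uW.uniq _).symm)

/-- The stalks of a direct image along a closed immersion are points off the closed subscheme. -/
theorem stalkSh_push_unique [IsClosedImmersion i] (G : EtDesc.Sh Z) {Ω : Type u} [Field Ω]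
    [IsSepClosed Ω] (ξ : Spec (CommRingCat.of Ω) ⟶ X) (hξ : ξ.base default ∉ Set.range i.base) :
    Nonempty (Unique ((stalkSh ξ).obj ((EtDesc.pushSh i).obj G))) := by
  refine stalkSh_unique_of_nhds _ ξ
    ⟨(Set.range i.base)ᶜ, i.isClosedEmbedding.isClosed_range.isOpen_compl⟩ hξ fun U hU => ?_
  have : IsEmpty ((EtCoh.bc i).obj U).left := ⟨fun p => by
    let p : ↥(pullback U.hom i) := p
    refine hU (pullback.fst U.hom i p) ⟨pullback.snd U.hom i p, ?_⟩
    rw [← Scheme.Hom.comp_apply, ← pullback.condition]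
    rfl⟩
  exact sect_unique_of_isEmpty G ((EtCoh.bc i).obj U)

/-- The stalks of the terminal sheaf are points. -/
lemma stalkSh_terminal_unique {Ω : Type u} [Field Ω] [IsSepClosed Ω]
    (ξ : Spec (CommRingCat.of Ω) ⟶ X) :
    Nonempty (Unique ((stalkSh ξ).obj (⊤_ (EtDesc.Sh X)))) :=
  ⟨(Types.isTerminalEquivUnique _) (IsTerminal.isTerminalObj (stalkSh ξ) _ terminalIsTerminal)⟩

lemma bijective_of_unique {α β : Type*} (f : α → β) (hα : Nonempty (Unique α))
    (hβ : Nonempty (Unique β)) : Function.Bijective f := by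
  obtain ⟨a⟩ := hα
  obtain ⟨b⟩ := hβ
  exact ⟨fun x y _ => Subsingleton.elim x y, fun y => ⟨default, Subsingleton.elim _ _⟩⟩

/-- Essential image of the direct image along a closed immersion. -/
theorem essImage_pushSh [IsClosedImmersion i] {U : Scheme.{u}} (j : U ⟶ X) [IsOpenImmersion j]
    (hU : Set.range j.base = (Set.range i.base)ᶜ) (F : EtDesc.Sh X) :
    (EtDesc.pushSh i).essImage F ↔ IsIso (terminal.from ((EtDesc.pullSh j).obj F)) := by
  have hout : ∀ {Ω : Type u} [Field Ω] [IsSepClosed Ω] (ζ : Spec (CommRingCat.of Ω) ⟶ U),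
      (ζ ≫ j).base default ∉ Set.range i.base := by
    intro Ω _ _ ζ
    change (ζ ≫ j).base default ∈ (Set.range i.base)ᶜ
    rw [← hU]
    exact ⟨ζ.base default, rfl⟩
  constructor
  · rintro ⟨G, ⟨e⟩⟩
    refine isIso_of_stalksSh _ fun x => ⟨_, _, inferInstance, gpt x, gpt_default x, ?_⟩
    refine bijective_of_unique _ ?_ (stalkSh_terminal_unique _)
    obtain ⟨h⟩ := stalkSh_push_unique i G (gpt x ≫ j) (hout _)
    exact ⟨((pullStalkShIso (gpt x) j).app F ≪≫ (stalkSh (gpt x ≫ j)).mapIso e.symm).toEquiv.unique⟩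
  · intro hF
    have : IsIso ((EtDesc.adjSh i).unit.app F) := by
      refine isIso_of_stalksSh _ fun x => ?_
      by_cases hx : x ∈ Set.range i.base
      · obtain ⟨z, rfl⟩ := hx
        refine ⟨_, _, inferInstance, gpt z ≫ i, ?_, ?_⟩
        · rw [Scheme.Hom.comp_apply, gpt_default]
        have := isIso_counitSh i ((EtDesc.pullSh i).obj F)
        have : IsIso (𝟙 ((EtDesc.pullSh i).obj F)) := IsIso.id _
        have : IsIso ((EtDesc.pullSh i).map ((EtDesc.adjSh i).unit.app F)) :=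
          IsIso.of_isIso_fac_right ((EtDesc.adjSh i).left_triangle_components F)
        rw [← isIso_iff_bijective]
        exact (NatIso.isIso_map_iff (pullStalkShIso (gpt z) i) _).1
          (inferInstanceAs (IsIso ((stalkSh (gpt z)).map
            ((EtDesc.pullSh i).map ((EtDesc.adjSh i).unit.app F)))))
      · obtain ⟨w, rfl⟩ : x ∈ Set.range j.base := by rw [hU]; exact hx
        refine ⟨_, _, inferInstance, gpt w ≫ j, ?_, ?_⟩
        · rw [Scheme.Hom.comp_apply, gpt_default]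
        refine bijective_of_unique _ ?_ (stalkSh_push_unique i _ _ (hout _))
        obtain ⟨h⟩ := stalkSh_terminal_unique (gpt w)
        exact ⟨((pullStalkShIso (gpt w) j).app F).symm ≪≫
          (stalkSh (gpt w)).mapIso (asIso (terminal.from ((EtDesc.pullSh j).obj F))) |>.toEquiv.unique⟩
    exact ⟨_, ⟨(asIso ((EtDesc.adjSh i).unit.app F)).symm⟩⟩

end GrothLib.EtSite
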