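import Groth.Agent.Lib.EtSite.ZeroDim
import Groth.Agent.Lib.Hensel.Hull
import Mathlib.LinearAlgebra.DirectSum.Finsupp
import Mathlib.LinearAlgebra.TensorProduct.RightExactness
import Mathlib.RingTheory.Flat.FaithfullyFlat.Basic
import Mathlib.RingTheory.Ideal.GoingUp
import Mathlib.RingTheory.IntegralClosure.Algebra.Basic

/-!
# Sections of etale algebras over integral algebras, near a geometric point

Let `B` be an integral `A`-algebra, `Ω` a separably closed field over `A`, and `E` an etale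
`B`-algebra whose spectrum meets the whole fibre of `Spec B` over the image of `Ω`. Then after an
etale base change `A → N` with a point in `Ω` there is a map `E → B ⊗ N` over `B`, with prescribed
values at finitely many geometric points.
-/

universe u

open Polynomial TensorProduct
open GrothLib.Hensel (Nbhd Hull)

namespace GrothLib.EtSite

variable {A : Type u} [CommRing A]

section stage

variable {C : Type u} [CommRing C] [Algebra A C]

lemma exists_stage_finsupp {κ : Type*} {N : Nbhd A C} (w : κ →₀ N.Ring)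
    (hw : ∀ i, Hull.ι N (w i) = 0) :
    ∃ (M : Nbhd A C) (f : N ⟶ M), ∀ i, f.map (w i) = 0 := by
  classical
  suffices ∀ s : Finset κ, ∃ (M : Nbhd A C) (f : N ⟶ M), ∀ i ∈ s, f.map (w i) = 0 by
    obtain ⟨M, f, h⟩ := this w.support
    exact ⟨M, f, fun i => if hi : i ∈ w.support then h i hi else by
      rw [Finsupp.notMem_support_iff.1 hi, map_zero]⟩
  intro s
  induction s using Finset.induction with
  | empty => exact ⟨N, CategoryTheory.CategoryStruct.id N, by simp⟩
  | @insert a s _ ih =>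
    obtain ⟨M, f, hf⟩ := ih
    obtain ⟨M', g, hg⟩ := Hull.exists_map_eq_zero
      (show Hull.ι M (f.map (w a)) = 0 by rw [Hull.ι_map, hw])
    refine ⟨M', CategoryTheory.CategoryStruct.comp f g, fun i hi => ?_⟩
    rcases Finset.mem_insert.1 hi with rfl | hi
    · exact hg
    · show g.map (f.map (w i)) = 0
      rw [hf i hi, map_zero]

lemma lTensor_rTensor_apply {P Q X Y : Type u} [AddCommGroup P] [Module A P] [AddCommGroup Q]
    [Module A Q] [AddCommGroup X] [Module A X] [AddCommGroup Y] [Module A Y] (a : P →ₗ[A] Q)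
    (h : X →ₗ[A] Y) (x : P ⊗[A] X) :
    h.lTensor Q (a.rTensor X x) = a.rTensor Y (h.lTensor P x) := by
  induction x with
  | zero => simp
  | tmul a b => simp
  | add x y hx hy => simp only [map_add, hx, hy]

lemma exists_stage_tensor {P : Type u} [AddCommGroup P] [Module A P]
    (z : P ⊗[A] Hull A C) :
    ∃ (N : Nbhd A C) (y : P ⊗[A] N.Ring), (Hull.ι N).toLinearMap.lTensor P y = z := by
  induction z with
  | zero => exact ⟨Classical.arbitrary _, 0, map_zero _⟩
  | tmul p s =>
    obtain ⟨N, a, rfl⟩ := Hull.exists_ι s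
    exact ⟨N, p ⊗ₜ a, by simp⟩
  | add x y hx hy =>
    obtain ⟨N, a, rfl⟩ := hx
    obtain ⟨M, b, rfl⟩ := hy
    obtain ⟨L, ⟨f⟩, ⟨g⟩⟩ : ∃ L : Nbhd A C, Nonempty (N ⟶ L) ∧ Nonempty (M ⟶ L) :=
      ⟨CategoryTheory.IsFiltered.max N M, ⟨CategoryTheory.IsFiltered.leftToMax N M⟩,
        ⟨CategoryTheory.IsFiltered.rightToMax N M⟩⟩
    refine ⟨L, f.map.toLinearMap.lTensor P a + g.map.toLinearMap.lTensor P b, ?_⟩
    rw [map_add, ← LinearMap.lTensor_comp_apply, ← LinearMap.lTensor_comp_apply]
    congr 2 <;> (congr 1; ext x; exact Hull.ι_map _ x)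

lemma exists_stage_tensor_eq_zero {P : Type u} [AddCommGroup P] [Module A P] {N : Nbhd A C}
    (z : P ⊗[A] N.Ring) (hz : (Hull.ι N).toLinearMap.lTensor P z = 0) :
    ∃ (M : Nbhd A C) (f : N ⟶ M), f.map.toLinearMap.lTensor P z = 0 := by
  classical
  let π : (P →₀ A) →ₗ[A] P := Finsupp.linearCombination A id
  have hπ : Function.Surjective π := fun p => ⟨Finsupp.single p 1, by simp [π]⟩
  obtain ⟨z', rfl⟩ := LinearMap.rTensor_surjective N.Ring hπ z
  let K := {x : P →₀ A // π x = 0}
  let inc : (K →₀ A) →ₗ[A] (P →₀ A) := Finsupp.linearCombination A Subtype.val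
  have hincπ : π ∘ₗ inc = 0 := Finsupp.lhom_ext fun k r => by
    simp [inc, show π k.1 = 0 from k.2]
  have h0 : Function.Exact inc π := fun x =>
    ⟨fun hx => ⟨Finsupp.single ⟨x, hx⟩ 1, by simp [inc]⟩, by
      rintro ⟨k, rfl⟩; exact LinearMap.congr_fun hincπ k⟩
  have hex : Function.Exact (inc.rTensor (Hull A C)) (π.rTensor (Hull A C)) :=
    rTensor_exact (Hull A C) h0 hπ
  obtain ⟨w, hw⟩ := (hex _).1 (show π.rTensor (Hull A C)
    ((Hull.ι N).toLinearMap.lTensor _ z') = 0 by
      rw [← lTensor_rTensor_apply, hz])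
  obtain ⟨M₀, y, rfl⟩ := exists_stage_tensor w
  obtain ⟨L, ⟨f⟩, ⟨g⟩⟩ : ∃ L : Nbhd A C, Nonempty (N ⟶ L) ∧ Nonempty (M₀ ⟶ L) :=
    ⟨CategoryTheory.IsFiltered.max N M₀, ⟨CategoryTheory.IsFiltered.leftToMax N M₀⟩,
      ⟨CategoryTheory.IsFiltered.rightToMax N M₀⟩⟩
  let d : (P →₀ A) ⊗[A] L.Ring := f.map.toLinearMap.lTensor _ z' -
    inc.rTensor L.Ring (g.map.toLinearMap.lTensor _ y)
  have hd : (Hull.ι L).toLinearMap.lTensor _ d = 0 := by
    have h1 : (Hull.ι L).toLinearMap ∘ₗ f.map.toLinearMap = (Hull.ι N).toLinearMap :=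
      LinearMap.ext fun x => Hull.ι_map f x
    have h2 : (Hull.ι L).toLinearMap ∘ₗ g.map.toLinearMap = (Hull.ι M₀).toLinearMap :=
      LinearMap.ext fun x => Hull.ι_map g x
    rw [map_sub, ← LinearMap.lTensor_comp_apply, h1, sub_eq_zero, ← hw, lTensor_rTensor_apply,
      ← LinearMap.lTensor_comp_apply, h2]
  have hcoeff : ∀ (Q Q' : Type u) [AddCommGroup Q] [Module A Q] [AddCommGroup Q'] [Module A Q']
      (h : Q →ₗ[A] Q') (x : (P →₀ A) ⊗[A] Q) (i : P),
      finsuppScalarLeft A Q' P (h.lTensor _ x) i = h (finsuppScalarLeft A Q P x i) := by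
    intro Q Q' _ _ _ _ h x i
    induction x with
    | zero => simp
    | tmul a b => simp
    | add x y hx hy => simp only [map_add, Finsupp.add_apply, hx, hy]
  obtain ⟨M, k, hk⟩ := exists_stage_finsupp (finsuppScalarLeft A L.Ring P d) fun i => by
    refine Eq.trans (hcoeff _ _ (Hull.ι L).toLinearMap d i).symm ?_
    rw [hd, map_zero, Finsupp.zero_apply]
  refine ⟨M, CategoryTheory.CategoryStruct.comp f k, ?_⟩
  have hkd : k.map.toLinearMap.lTensor _ d = 0 := by
    apply (finsuppScalarLeft A M.Ring P).injective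
    rw [map_zero]
    ext i
    exact (hcoeff _ _ k.map.toLinearMap d i).trans (hk i)
  have h3 := congrArg (π.rTensor M.Ring) hkd
  rw [map_zero, map_sub, map_sub, sub_eq_zero, ← LinearMap.lTensor_comp_apply] at h3
  change (k.map.toLinearMap ∘ₗ f.map.toLinearMap).lTensor P (π.rTensor N.Ring z') = 0
  rw [lTensor_rTensor_apply, h3, lTensor_rTensor_apply, ← LinearMap.rTensor_comp_apply, hincπ,
    LinearMap.rTensor_zero, LinearMap.zero_apply]

/-- Base change of a map of stages. -/
noncomputable abbrev stageMap (B : Type u) [CommRing B] [Algebra A B] {X Y : Type u} [CommRing X]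
    [Algebra A X] [CommRing Y] [Algebra A Y] (g : X →ₐ[A] Y) : B ⊗[A] X →ₐ[B] B ⊗[A] Y :=
  Algebra.TensorProduct.map (AlgHom.id B B) g

lemma stageMap_eq_lTensor {B : Type u} [CommRing B] [Algebra A B] {X Y : Type u} [CommRing X]
    [Algebra A X] [CommRing Y] [Algebra A Y] (g : X →ₐ[A] Y) (z : B ⊗[A] X) :
    stageMap B g z = g.toLinearMap.lTensor B z := by
  induction z with
  | zero => rw [map_zero, map_zero]
  | tmul a b => simp
  | add x y hx hy => rw [map_add, map_add, hx, hy]

lemma stageMap_comp {B : Type u} [CommRing B] [Algebra A B] {X Y Z : Type u} [CommRing X]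
    [Algebra A X] [CommRing Y] [Algebra A Y] [CommRing Z] [Algebra A Z] (g : X →ₐ[A] Y)
    (h : Y →ₐ[A] Z) (z : B ⊗[A] X) :
    stageMap B h (stageMap B g z) = stageMap B (h.comp g) z := by
  rw [stageMap_eq_lTensor, stageMap_eq_lTensor, stageMap_eq_lTensor, AlgHom.comp_toLinearMap,
    LinearMap.lTensor_comp_apply]

lemma exists_algHom_fac {B P E : Type u} [CommRing B] [Algebra A B] [CommRing P] [CommRing E]
    [Algebra B P] [Algebra B E] {X : Type u} [CommRing X] [Algebra A X] (f : P →ₐ[B] E)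
    (hf : Function.Surjective f) (F : P →ₐ[B] B ⊗[A] X)
    (h : RingHom.ker f.toRingHom ≤ RingHom.ker F.toRingHom) :
    ∃ L : E →ₐ[B] B ⊗[A] X, ∀ x, L (f x) = F x := by
  have key : ∀ x y, f x = f y → F x = F y := fun x y hxy => by
    have h0 : x - y ∈ RingHom.ker f.toRingHom := by
      rw [RingHom.mem_ker, map_sub, sub_eq_zero]; exact hxy
    have h1 := h h0
    rw [RingHom.mem_ker, map_sub, sub_eq_zero] at h1
    exact h1
  choose g hg using hf
  refine ⟨{ toFun := fun e => F (g e), map_one' := ?_, map_mul' := fun a b => ?_, map_zero' := ?_,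
            map_add' := fun a b => ?_, commutes' := fun r => ?_ }, fun x => key _ _ (hg (f x))⟩
  · exact (key _ _ ((hg 1).trans (map_one f).symm)).trans (map_one F)
  · rw [← map_mul]; exact key _ _ (by rw [hg, map_mul, hg, hg])
  · exact (key _ _ ((hg 0).trans (map_zero f).symm)).trans (map_zero F)
  · rw [← map_add]; exact key _ _ (by rw [hg, map_add, hg, hg])
  · exact (key _ _ ((hg _).trans (f.commutes r).symm)).trans (F.commutes r)

/-- An algebra map from a finitely presented algebra to `B ⊗ Hull` comes from a finite stage. -/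
lemma exists_stage_algHom {C : Type u} [CommRing C] [Algebra A C] {B : Type u} [CommRing B]
    [Algebra A B] {E : Type u} [CommRing E] [Algebra B E] [Algebra.FinitePresentation B E]
    (τ : E →ₐ[B] B ⊗[A] Hull A C) :
    ∃ (M : Nbhd A C) (τ' : E →ₐ[B] B ⊗[A] M.Ring),
      ∀ e, Algebra.TensorProduct.map (AlgHom.id B B) (Hull.ι M) (τ' e) = τ e := by
  classical
  -- descend to a finite stage
  obtain ⟨n, f, hf, hker⟩ := (inferInstance : Algebra.FinitePresentation B E).out
  obtain ⟨G, hG⟩ := hker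
  choose N₀ y hy using fun k => exists_stage_tensor (τ (f (MvPolynomial.X k)))
  obtain ⟨N, hN⟩ := CategoryTheory.IsFiltered.sup_objs_exists (Finset.univ.image N₀)
  let hom : ∀ k, N₀ k ⟶ N := fun k => (hN (Finset.mem_image.2 ⟨k, Finset.mem_univ k, rfl⟩)).some
  let gen : ∀ M : Nbhd A C, (N ⟶ M) → Fin n → B ⊗[A] M.Ring := fun M g k =>
    stageMap B (g.map.comp (hom k).map) (y k)
  have hgen : ∀ M (g : N ⟶ M) k,
      stageMap B (Hull.ι M) (gen M g k) = τ (f (MvPolynomial.X k)) := fun M g k => by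
    have h1 : ((Hull.ι M).comp (g.map.comp (hom k).map)) = Hull.ι (N₀ k) :=
      AlgHom.ext fun x => (Hull.ι_map g _).trans (Hull.ι_map (hom k) x)
    rw [stageMap_comp, h1, stageMap_eq_lTensor, hy k]
  let F : ∀ M : Nbhd A C, (N ⟶ M) → MvPolynomial (Fin n) B →ₐ[B] B ⊗[A] M.Ring :=
    fun M g => MvPolynomial.aeval (gen M g)
  have hF : ∀ M (g : N ⟶ M) P,
      stageMap B (Hull.ι M) (F M g P) = τ (f P) := by
    intro M g P
    have : (stageMap B (Hull.ι M)).comp (F M g) = τ.comp f :=
      MvPolynomial.algHom_ext fun k => by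
        simp only [AlgHom.comp_apply, F, MvPolynomial.aeval_X]; exact hgen M g k
    exact AlgHom.congr_fun this P
  have hstage : ∀ s : Finset (MvPolynomial (Fin n) B), (∀ P ∈ s, f P = 0) →
      ∃ (M : Nbhd A C) (g : N ⟶ M), ∀ P ∈ s, F M g P = 0 := by
    intro s
    induction s using Finset.induction with
    | empty => exact fun _ => ⟨N, CategoryTheory.CategoryStruct.id N, by simp⟩
    | @insert P s _ ih =>
      intro hs
      obtain ⟨M, g, hg⟩ := ih fun Q hQ => hs Q (Finset.mem_insert_of_mem hQ)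
      obtain ⟨M', k, hk⟩ := exists_stage_tensor_eq_zero (F M g P) (by
        have := hF M g P
        rw [hs P (Finset.mem_insert_self ..), map_zero, stageMap_eq_lTensor] at this
        exact this)
      rw [← stageMap_eq_lTensor] at hk
      have hFk : ∀ Q, stageMap B k.map (F M g Q) =
          F M' (CategoryTheory.CategoryStruct.comp g k) Q := by
        intro Q
        have : (stageMap B k.map).comp (F M g) =
            F M' (CategoryTheory.CategoryStruct.comp g k) := MvPolynomial.algHom_ext fun l => by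
          simp only [AlgHom.comp_apply, F, MvPolynomial.aeval_X, gen]
          rw [stageMap_comp]
          exact congrArg (fun h => stageMap B h (y l)) (AlgHom.ext fun _ => rfl)
        exact AlgHom.congr_fun this Q
      refine ⟨M', CategoryTheory.CategoryStruct.comp g k, fun Q hQ => ?_⟩
      rw [← hFk]
      rcases Finset.mem_insert.1 hQ with rfl | hQ
      · exact hk
      · rw [hg Q hQ, map_zero]
  have hG' : ∀ P ∈ G, f P = 0 := fun P hP => by
    have : P ∈ RingHom.ker f.toRingHom := hG ▸ Ideal.subset_span hP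
    exact this
  obtain ⟨M, g, hg⟩ := hstage G hG'
  have hkerF : RingHom.ker f.toRingHom ≤ RingHom.ker (F M g).toRingHom := by
    rw [← hG, Ideal.span_le]; exact hg
  obtain ⟨L, hL⟩ := exists_algHom_fac f hf (F M g) hkerF
  refine ⟨M, L, fun e => ?_⟩
  obtain ⟨P, rfl⟩ := hf e
  rw [hL]
  exact hF M g P

end stage

section residue

variable {Ω : Type u} [Field Ω] [IsSepClosed Ω] [Algebra A Ω]

/-- The kernel of the point of the strict henselization. -/
noncomputable def hullKer (A : Type u) [CommRing A] (Ω : Type u) [Field Ω] [Algebra A Ω] :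
    Ideal (Hull A Ω) :=
  RingHom.ker (Hull.proj : Hull A Ω →ₐ[A] Ω).toRingHom

omit [IsSepClosed Ω] in
instance isMaximal_hullKer : (hullKer A Ω).IsMaximal := by
  refine Ideal.Quotient.maximal_of_isField _ ⟨⟨0, 1, ?_⟩, mul_comm, fun {a} ha => ?_⟩
  · intro h
    rw [← map_zero (Ideal.Quotient.mk (hullKer A Ω)), ← map_one (Ideal.Quotient.mk (hullKer A Ω)),
      Ideal.Quotient.eq] at h
    exact one_ne_zero (α := Ω) (by simpa [hullKer] using h)
  · obtain ⟨a, rfl⟩ := Ideal.Quotient.mk_surjective a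
    have : IsUnit a := Hull.isUnit_of_isUnit_proj (isUnit_iff_ne_zero.2 fun h => ha
      (Ideal.Quotient.eq_zero_iff_mem.2 h))
    obtain ⟨u, rfl⟩ := this
    exact ⟨Ideal.Quotient.mk _ ↑u⁻¹, by rw [← map_mul, Units.mul_inv, map_one]⟩

/-- The residue field of the strict henselization is separably closed. -/
lemma isSepClosed_hullKer :
    letI := Ideal.Quotient.field (hullKer A Ω); IsSepClosed (Hull A Ω ⧸ hullKer A Ω) := by
  let J := hullKer A Ω
  let _ : Field (Hull A Ω ⧸ J) := Ideal.Quotient.field J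
  let j : Hull A Ω ⧸ J →+* Ω := Ideal.Quotient.lift J (Hull.proj : Hull A Ω →ₐ[A] Ω).toRingHom
    fun a ha => ha
  have hj : ∀ x, j (Ideal.Quotient.mk J x) = Hull.proj x := fun x => rfl
  refine IsSepClosed.of_exists_root _ fun p hp hirr hsep => ?_
  obtain ⟨q, hq, -, hqm⟩ := Polynomial.lifts_and_natDegree_eq_and_monic
    (f := Ideal.Quotient.mk J) (p := p) ((Polynomial.mem_lifts _).2
      (Polynomial.map_surjective _ Ideal.Quotient.mk_surjective p)) hp
  obtain ⟨N, a, ha⟩ := Hull.exists_ι_family fun i : Fin q.natDegree => q.coeff i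
  let P : N.Ring[X] := X ^ q.natDegree + ∑ i : Fin q.natDegree, Polynomial.C (a i) * X ^ (i : ℕ)
  have hPq : P.map (Hull.ι N).toRingHom = q := by
    conv_rhs => rw [hqm.as_sum]
    rw [← Fin.sum_univ_eq_sum_range (fun i => Polynomial.C (q.coeff i) * X ^ i)]
    simp [P, Polynomial.map_sum, ha]
  have hPm : P.Monic := monic_X_pow_add ((degree_sum_le _ _).trans_lt ((Finset.sup_lt_iff
    (WithBot.bot_lt_coe _)).mpr fun i _ => (degree_C_mul_X_pow_le _ _).trans_lt
      (Nat.cast_lt.mpr i.isLt)))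
  let _ : Algebra N.Ring Ω := N.pt.toRingHom.toAlgebra
  have : IsScalarTower A N.Ring Ω :=
    IsScalarTower.of_algebraMap_eq (R := A) (S := N.Ring) (A := Ω) fun r => (N.pt.commutes r).symm
  have hPΩ : P.map (algebraMap N.Ring Ω) = p.map j := by
    rw [← hq, Polynomial.map_map, ← hPq, Polynomial.map_map]
    congr 1
    exact RingHom.ext fun x => (Hull.proj_ι N x).symm
  obtain ⟨w, hw⟩ := IsSepClosed.exists_root (p.map j)
    (by rw [Polynomial.degree_map]; exact hirr.degree_pos.ne') hsep.map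
  let SP : StandardEtalePair N.Ring := ⟨P, hPm, derivative P, 1, 0, 1, by simp⟩
  have hmap : SP.HasMap w := by
    refine ⟨?_, ?_⟩
    · rw [aeval_def, eval₂_eq_eval_map, hPΩ]
      exact hw
    · have h2 : (p.map j).Separable := hsep.map
      refine isUnit_iff_ne_zero.2 fun h => h2.aeval_derivative_ne_zero (x := w) ?_ ?_
      · rw [Polynomial.coe_aeval_eq_eval]; exact hw
      · rw [Polynomial.coe_aeval_eq_eval, ← hPΩ, derivative_map, ← eval₂_eq_eval_map, ← aeval_def]
        exact h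
  have : Algebra.Etale A N.Ring := N.etale
  let _ : Algebra A SP.Ring := ((algebraMap N.Ring SP.Ring).comp (algebraMap A N.Ring)).toAlgebra
  have : IsScalarTower A N.Ring SP.Ring :=
    IsScalarTower.of_algebraMap_eq (R := A) (S := N.Ring) (A := SP.Ring) fun _ => rfl
  have : Algebra.Etale A SP.Ring := Algebra.Etale.comp A N.Ring SP.Ring
  let φ : SP.Ring →ₐ[A] Ω := (SP.lift w hmap).restrictScalars A
  refine ⟨Ideal.Quotient.mk J (Hull.of φ SP.X), j.injective ?_⟩
  rw [← Polynomial.eval_map_apply, map_zero, hj]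
  have hX : Hull.proj (Hull.of φ SP.X) = w :=
    (AlgHom.congr_fun (Hull.proj_comp_of φ) SP.X).trans (SP.lift_X w hmap)
  rw [hX]
  exact hw

end residue

section main

variable {B : Type u} [CommRing B] [Algebra A B] [Algebra.IsIntegral A B]
  {E : Type u} [CommRing E] [Algebra B E] [Algebra.Etale B E]
  {Ω : Type u} [Field Ω] [IsSepClosed Ω] [Algebra A Ω]

attribute [local instance] Algebra.TensorProduct.rightAlgebra

lemma isIntegral_hull_tensor : Algebra.IsIntegral (Hull A Ω) (B ⊗[A] Hull A Ω) := by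
  refine ⟨fun z => ?_⟩
  obtain ⟨p, hp, hpz⟩ : IsIntegral (Hull A Ω) (Algebra.TensorProduct.comm A B (Hull A Ω) z) :=
    Algebra.IsIntegral.isIntegral _
  refine ⟨p, hp, ?_⟩
  apply (Algebra.TensorProduct.comm A B (Hull A Ω)).injective
  rw [map_zero, ← hpz]
  have hc : (Algebra.TensorProduct.comm A B (Hull A Ω) : B ⊗[A] Hull A Ω →+* Hull A Ω ⊗[A] B).comp
      (algebraMap (Hull A Ω) (B ⊗[A] Hull A Ω)) =
        algebraMap (Hull A Ω) (Hull A Ω ⊗[A] B) := by
    ext s; simp [Algebra.TensorProduct.right_algebraMap_apply]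
  rw [← hc]
  exact Polynomial.hom_eval₂ p (algebraMap (Hull A Ω) (B ⊗[A] Hull A Ω))
    (Algebra.TensorProduct.comm A B (Hull A Ω) : B ⊗[A] Hull A Ω →+* Hull A Ω ⊗[A] B) z

/-- Sections of etale algebras over an integral algebra, near a geometric point. -/
theorem exists_stage_section
    (hsurj : ∀ P : Ideal B, P.IsPrime → P.comap (algebraMap A B) = RingHom.ker (algebraMap A Ω) →
      ∃ Q : Ideal E, Q.IsPrime ∧ Q.comap (algebraMap B E) = P)
    {ι : Type*} [Finite ι] (ξ : ι → B →ₐ[A] Ω) (hξ : Function.Injective ξ) (ω : ι → E →+* Ω)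
    (hω : ∀ i, (ω i).comp (algebraMap B E) = (ξ i).toRingHom) :
    ∃ (N : Nbhd A Ω) (τ : E →ₐ[B] B ⊗[A] N.Ring),
      ∀ i e, Algebra.TensorProduct.lift (ξ i) N.pt (fun _ _ => .all _ _) (τ e) = ω i e := by
  classical
  let S := Hull A Ω
  let J : Ideal S := hullKer A Ω
  have : HenselianRing S J := Hull.henselianRing
  let T := B ⊗[A] S
  have : Algebra.IsIntegral S T := isIntegral_hull_tensor
  let I : Ideal T := J.map (algebraMap S T)
  have : HenselianRing T I := GrothLib.Hensel.henselianRing_of_isIntegral J T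
  let R := T ⧸ I
  let _ : Field (S ⧸ J) := Ideal.Quotient.field J
  have hKsc : IsSepClosed (S ⧸ J) := isSepClosed_hullKer
  let ψ : S ⧸ J →+* R := Ideal.Quotient.lift J ((Ideal.Quotient.mk I).comp (algebraMap S T))
    fun a ha => Ideal.Quotient.eq_zero_iff_mem.2 (Ideal.mem_map_of_mem _ ha)
  have hψ : ψ.IsIntegral := by
    have h : ((Ideal.Quotient.mk I).comp (algebraMap S T)).IsIntegral :=
      RingHom.IsIntegral.trans _ _ (fun x => Algebra.IsIntegral.isIntegral x)
        (RingHom.isIntegral_of_surjective _ Ideal.Quotient.mk_surjective)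
    refine RingHom.IsIntegral.tower_top (Ideal.Quotient.mk J) ψ ?_
    rwa [Ideal.Quotient.lift_comp_mk]
  have hbot : ∀ p : Ideal R, p.IsPrime → p.comap ψ = ⊥ := fun p hp =>
    have := hp.comap ψ
    Ideal.eq_bot_of_prime _
  have hdim : ∀ p : Ideal R, p.IsPrime → p.IsMaximal := fun p hp =>
    Ideal.isMaximal_of_isIntegral_of_isMaximal_comap' ψ hψ p (by
      rw [hbot p hp]; exact Ideal.bot_isMaximal)
  have hsc : ∀ (p : Ideal R) [p.IsMaximal], letI := Ideal.Quotient.field p;
      IsSepClosed (R ⧸ p) := by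
    intro p _
    let _ : Field (R ⧸ p) := Ideal.Quotient.field p
    let _ : Algebra (S ⧸ J) (R ⧸ p) := ((Ideal.Quotient.mk p).comp ψ).toAlgebra
    have : Algebra.IsIntegral (S ⧸ J) (R ⧸ p) := ⟨RingHom.IsIntegral.trans _ _ hψ
      (RingHom.isIntegral_of_surjective _ Ideal.Quotient.mk_surjective)⟩
    have : Algebra.IsAlgebraic (S ⧸ J) (R ⧸ p) := Algebra.IsIntegral.isAlgebraic
    exact Algebra.IsAlgebraic.isSepClosed (F := S ⧸ J)
  have hAR : ∀ a, algebraMap B R (algebraMap A B a) =
      ψ (Ideal.Quotient.mk J (algebraMap A S a)) := fun a => by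
    change Ideal.Quotient.mk I (algebraMap A B a ⊗ₜ 1) =
      Ideal.Quotient.mk I (1 ⊗ₜ algebraMap A S a)
    rw [Algebra.algebraMap_eq_smul_one, Algebra.algebraMap_eq_smul_one, TensorProduct.smul_tmul]
  have hsurjR : ∀ p : Ideal R, p.IsPrime →
      ∃ Q : Ideal (R ⊗[B] E), Q.IsPrime ∧ Q.comap (algebraMap R (R ⊗[B] E)) = p := by
    intro p hp
    have := hdim p hp
    let _ : Field (R ⧸ p) := Ideal.Quotient.field p
    let P := p.comap (algebraMap B R)
    have : P.IsPrime := hp.comap _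
    obtain ⟨Q₀, hQ₀, hQP⟩ := hsurj P inferInstance (by
      ext a
      simp only [P, Ideal.mem_comap, hAR, RingHom.mem_ker]
      rw [← Ideal.mem_comap, hbot p hp, Ideal.mem_bot, Ideal.Quotient.eq_zero_iff_mem]
      exact iff_of_eq (congrArg (· = 0) ((Hull.proj : S →ₐ[A] Ω).commutes a)))
    have hnt : Nontrivial (P.ResidueField ⊗[B] E) :=
      (PrimeSpectrum.nontrivial_iff_mem_rangeComap (S := E) ⟨P, inferInstance⟩).2
        ⟨⟨Q₀, hQ₀⟩, PrimeSpectrum.ext hQP⟩
    let g : B ⧸ P →+* R ⧸ p := Ideal.quotientMap p (algebraMap B R) le_rfl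
    have hg : Function.Injective g := Ideal.quotientMap_injective
    let _ : Algebra P.ResidueField (R ⧸ p) :=
      (IsFractionRing.lift (A := B ⧸ P) (K := P.ResidueField) hg).toAlgebra
    have : IsScalarTower B P.ResidueField (R ⧸ p) := IsScalarTower.of_algebraMap_eq fun b => by
      rw [IsScalarTower.algebraMap_apply B (B ⧸ P) P.ResidueField]
      exact (IsFractionRing.lift_algebraMap hg (Ideal.Quotient.mk P b)).symm
    have : Nontrivial ((R ⧸ p) ⊗[P.ResidueField] (P.ResidueField ⊗[B] E)) :=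
      Module.FaithfullyFlat.lTensor_nontrivial P.ResidueField (R ⧸ p) _
    have : Nontrivial ((R ⧸ p) ⊗[B] E) :=
      (TensorProduct.AlgebraTensorModule.cancelBaseChange B P.ResidueField P.ResidueField
        (R ⧸ p) E).symm.toEquiv.nontrivial
    obtain ⟨m, hm⟩ := Ideal.exists_maximal ((R ⧸ p) ⊗[B] E)
    let red : R ⊗[B] E →ₐ[B] (R ⧸ p) ⊗[B] E :=
      Algebra.TensorProduct.map (Ideal.Quotient.mkₐ B p) (AlgHom.id B E)
    refine ⟨m.comap red.toRingHom, hm.isPrime.comap _, ?_⟩
    have hcomp : red.toRingHom.comp (algebraMap R (R ⊗[B] E)) =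
        (algebraMap (R ⧸ p) ((R ⧸ p) ⊗[B] E)).comp (Ideal.Quotient.mk p) := by
      exact RingHom.ext fun r => (Algebra.TensorProduct.map_tmul _ _ r 1).trans (by rw [map_one]; rfl)
    rw [Ideal.comap_comap, hcomp, ← Ideal.comap_comap]
    have := hm.isPrime.comap (algebraMap (R ⧸ p) ((R ⧸ p) ⊗[B] E))
    rw [Ideal.eq_bot_of_prime (Ideal.comap (algebraMap (R ⧸ p) ((R ⧸ p) ⊗[B] E)) m),
      ← RingHom.ker_eq_comap_bot, Ideal.mk_ker]
  -- the prescribed points
  let θ : ι → T →ₐ[A] Ω := fun i =>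
    Algebra.TensorProduct.lift (ξ i) (Hull.proj : S →ₐ[A] Ω) fun _ _ => .all _ _
  have hθI : ∀ i, I ≤ RingHom.ker (θ i).toRingHom := fun i => Ideal.map_le_iff_le_comap.2
    fun x hx => by
      change θ i ((1 : B) ⊗ₜ x) = 0
      refine (Algebra.TensorProduct.lift_tmul _ _ _ _ _).trans ?_
      rw [map_one, one_mul]
      exact hx
  let θR : ∀ i, R →+* Ω := fun i => Ideal.Quotient.lift I (θ i).toRingHom (hθI i)
  have hθR : ∀ i b, θR i (algebraMap B R b) = ξ i b := fun i b => by
    change θ i (b ⊗ₜ (1 : S)) = _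
    refine (Algebra.TensorProduct.lift_tmul _ _ _ _ _).trans ?_
    rw [map_one, mul_one]
  let q : ι → Ideal R := fun i => RingHom.ker (θR i)
  have hqp : ∀ i, (q i).IsPrime := fun i => RingHom.ker_isPrime _
  have hinj : Function.Injective q := by
    intro i j hij
    have := hdim _ (hqp i)
    let _ : Field (R ⧸ q i) := Ideal.Quotient.field _
    let _ : Algebra (S ⧸ J) (R ⧸ q i) := ((Ideal.Quotient.mk (q i)).comp ψ).toAlgebra
    have : Algebra.IsIntegral (S ⧸ J) (R ⧸ q i) := ⟨RingHom.IsIntegral.trans _ _ hψ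
      (RingHom.isIntegral_of_surjective _ Ideal.Quotient.mk_surjective)⟩
    have : Algebra.IsAlgebraic (S ⧸ J) (R ⧸ q i) := Algebra.IsIntegral.isAlgebraic
    let Li : R ⧸ q i →+* Ω := Ideal.Quotient.lift _ (θR i) fun a ha => ha
    let Lj : R ⧸ q i →+* Ω := Ideal.Quotient.lift _ (θR j) fun a ha => hij.le ha
    have hL : Li = Lj := IsPurelyInseparable.injective_comp_algebraMap (S ⧸ J) (R ⧸ q i) Ω (by
      refine Ideal.Quotient.ringHom_ext (RingHom.ext fun x => ?_)
      change θ i ((1 : B) ⊗ₜ x) = θ j ((1 : B) ⊗ₜ x)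
      refine (Algebra.TensorProduct.lift_tmul _ _ _ _ _).trans
        (Eq.trans ?_ (Algebra.TensorProduct.lift_tmul _ _ _ _ _).symm)
      rw [map_one, map_one])
    refine hξ (AlgHom.ext fun b => ?_)
    rw [← hθR i, ← hθR j]
    exact RingHom.congr_fun hL (Ideal.Quotient.mk _ (algebraMap B R b))
  have hφ : ∀ i, ∃ φ : R ⊗[B] E →ₐ[R] R ⧸ q i,
      ∀ e, Ideal.Quotient.lift (q i) (θR i) (fun a ha => ha) (φ (1 ⊗ₜ e)) = ω i e := by
    intro i
    have := hdim _ (hqp i)
    let _ : Field (R ⧸ q i) := Ideal.Quotient.field _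
    have : IsSepClosed (R ⧸ q i) := hsc (q i)
    have : IsSepClosed (IsLocalRing.ResidueField (R ⧸ q i)) :=
      isSepClosed_of_surjective (IsLocalRing.residue (R ⧸ q i)) IsLocalRing.residue_surjective
    let ρ : R ⧸ q i →+* Ω := Ideal.Quotient.lift (q i) (θR i) fun a ha => ha
    let _ : Algebra B Ω := (ξ i).toRingHom.toAlgebra
    let _ : Algebra (R ⧸ q i) Ω := ρ.toAlgebra
    have : IsScalarTower B (R ⧸ q i) Ω := IsScalarTower.of_algebraMap_eq fun b => (hθR i b).symm
    let ωₐ : E →ₐ[B] Ω := ⟨ω i, fun b => RingHom.congr_fun (hω i) b⟩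
    let Φ : (R ⧸ q i) ⊗[B] E →ₐ[R ⧸ q i] Ω :=
      Algebra.TensorProduct.lift (Algebra.ofId (R ⧸ q i) Ω) ωₐ fun _ _ => .all _ _
    obtain ⟨s, hs⟩ := exists_algHom_etale (R := R ⧸ q i) Φ.toRingHom ρ
      (RingHom.ext fun r => Φ.commutes r) (by
        rw [(RingHom.injective_iff_ker_eq_bot _).1 ρ.injective, IsLocalRing.maximalIdeal_eq_bot])
    let sB : E →ₐ[B] R ⧸ q i :=
      (s.restrictScalars B).comp Algebra.TensorProduct.includeRight
    refine ⟨Algebra.TensorProduct.lift (Algebra.ofId R (R ⧸ q i)) sB fun _ _ => .all _ _,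
      fun e => ?_⟩
    have h1 := RingHom.congr_fun hs ((1 : R ⧸ q i) ⊗ₜ e)
    simp only [Algebra.TensorProduct.lift_tmul, map_one, one_mul]
    refine h1.trans ?_
    simp [Φ, ωₐ]
  choose φ hφ using hφ
  obtain ⟨σ, hσ⟩ := exists_section_zeroDim (R := R) (E := R ⊗[B] E) hdim hsc hsurjR q hqp hinj φ
  obtain ⟨τ, hτ⟩ := GrothLib.Hensel.exists_algHom_lift (R := B) (A := T) (I := I)
    ((σ.restrictScalars B).comp Algebra.TensorProduct.includeRight)
  have hτω : ∀ i e, θ i (τ e) = ω i e := fun i e => by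
    have h1 : θ i (τ e) = θR i (σ (1 ⊗ₜ e)) :=
      congrArg (θR i) (AlgHom.congr_fun hτ e)
    rw [h1, ← hφ i e, ← hσ i]
    rfl
  obtain ⟨M, τ', hM⟩ := exists_stage_algHom (A := A) (C := Ω) τ
  refine ⟨M, τ', fun i e => ?_⟩
  have h2 : (Algebra.TensorProduct.lift (ξ i) M.pt fun _ _ => .all _ _) =
      (θ i).comp ((Algebra.TensorProduct.map (AlgHom.id B B) (Hull.ι M)).restrictScalars A) := by
    apply Algebra.TensorProduct.ext
    · refine AlgHom.ext fun b => ?_
      simp only [AlgHom.comp_apply, AlgHom.restrictScalars_apply,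
        Algebra.TensorProduct.includeLeft_apply, Algebra.TensorProduct.map_tmul,
        Algebra.TensorProduct.lift_tmul, map_one, mul_one, AlgHom.coe_id, id_eq]
      exact (mul_one _).symm.trans ((congrArg (ξ i b * ·) (map_one (Hull.proj : S →ₐ[A] Ω)).symm).trans
        (Algebra.TensorProduct.lift_tmul _ _ _ _ _).symm)
    · refine AlgHom.ext fun x => ?_
      simp only [AlgHom.comp_apply, AlgHom.restrictScalars_apply,
        Algebra.TensorProduct.includeRight_apply, Algebra.TensorProduct.map_tmul,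
        Algebra.TensorProduct.lift_tmul, map_one, one_mul, AlgHom.coe_id, id_eq]
      refine (Hull.proj_ι M x).symm.trans (Eq.trans ?_ (Algebra.TensorProduct.lift_tmul _ _ _ _ _).symm)
      rw [map_one, one_mul]
  rw [h2]
  exact (congrArg (θ i) (hM e)).trans (hτω i _)

end main

end GrothLib.EtSite
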