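import Groth.Agent.Lib.EtSite.IntegralAlg
import Mathlib.FieldTheory.AlgebraicClosure
import Mathlib.RingTheory.Unramified.Finite
import Mathlib.RingTheory.Spectrum.Prime.Topology

/-!
# Separation of geometric points by etale neighbourhoods

For `E` etale over an integral `A`-algebra `B` and an algebraically closed field `Ω` over `A`,
the topology of `Spec (E ⊗ Ω)` comes from the rings `E ⊗ N` with `N` etale neighbourhoods.
-/

universe u

open TensorProduct
open GrothLib.Hensel (Nbhd Hull)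

namespace GrothLib.EtSite

variable {A B E : Type u} [CommRing A] [CommRing B] [CommRing E] [Algebra A B]
  [Algebra.IsIntegral A B] [Algebra B E] [Algebra.Etale B E] [Algebra A E] [IsScalarTower A B E]

include B in
/-- Values of an etale algebra over an integral algebra are algebraic. -/
lemma isIntegral_of_etale_algHom {K L : Type u} [Field K] [Field L] [Algebra A K] [Algebra K L]
    [Algebra A L] [IsScalarTower A K L] (θ : E →ₐ[A] L) (e : E) : IsIntegral K (θ e) := by
  let M := algebraicClosure K L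
  let β : B →+* M :=
    ((θ.toRingHom.comp (algebraMap B E)).codRestrict M.toSubalgebra.toSubring fun b => by
      have h1 : IsIntegral A b := Algebra.IsIntegral.isIntegral b
      have h2 : IsIntegral A (θ (algebraMap B E b)) :=
        (h1.map (IsScalarTower.toAlgHom A B E)).map θ
      exact h2.tower_top)
  let _ : Algebra B M := β.toAlgebra
  let _ : Algebra B L := (θ.toRingHom.comp (algebraMap B E)).toAlgebra
  have : IsScalarTower B M L := IsScalarTower.of_algebraMap_eq fun b => rfl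
  let θB : E →ₐ[B] L := ⟨θ.toRingHom, fun b => rfl⟩
  let Φ : M ⊗[B] E →ₐ[M] L :=
    Algebra.TensorProduct.lift (Algebra.ofId M L) θB fun _ _ => .all _ _
  have : Module.Finite M (M ⊗[B] E) := Algebra.FormallyUnramified.finite_of_free _ _
  have h : IsIntegral M (θ e) := by
    have := (Algebra.IsIntegral.isIntegral (R := M) ((1 : M) ⊗ₜ[B] e)).map Φ
    simpa [Φ, θB] using this
  exact isIntegral_trans (θ e) h

variable {Ω : Type u} [Field Ω] [Algebra A Ω]

/-- The point of `E ⊗ Ω` given by a map to `Ω`. -/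
noncomputable abbrev ptHom (ψ : E →ₐ[A] Ω) : E ⊗[A] Ω →ₐ[A] Ω :=
  Algebra.TensorProduct.lift ψ (AlgHom.id A Ω) fun _ _ => .all _ _

lemma ker_ptHom_isMaximal (ψ : E →ₐ[A] Ω) : (RingHom.ker (ptHom ψ).toRingHom).IsMaximal :=
  RingHom.ker_isMaximal_of_surjective _ fun a => ⟨(1 : E) ⊗ₜ a, by simp⟩

variable [IsAlgClosed Ω]

include B in
/-- All primes of `E ⊗ Ω` are rational points. -/
theorem exists_ptHom_ker (P : Ideal (E ⊗[A] Ω)) [P.IsPrime] :
    ∃ ψ : E →ₐ[A] Ω, P = RingHom.ker (ptHom ψ).toRingHom := by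
  let L := FractionRing ((E ⊗[A] Ω) ⧸ P)
  let π : E ⊗[A] Ω →ₐ[A] L :=
    (IsScalarTower.toAlgHom A ((E ⊗[A] Ω) ⧸ P) L).comp (Ideal.Quotient.mkₐ A P)
  let j : Ω →ₐ[A] L := π.comp Algebra.TensorProduct.includeRight
  let _ : Algebra Ω L := j.toRingHom.toAlgebra
  have : IsScalarTower A Ω L := IsScalarTower.of_algebraMap_eq fun a => (j.commutes a).symm
  let θ : E →ₐ[A] L := π.comp Algebra.TensorProduct.includeLeft
  have hθ : ∀ e, ∃ c : Ω, j c = θ e := fun e => by
    have h := isIntegral_of_etale_algHom (B := B) (K := Ω) θ e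
    obtain ⟨c, hc⟩ := (IsAlgClosed.algebraMap_bijective_of_isIntegral
      (k := Ω) (K := (algebraicClosure Ω L))).2 ⟨θ e, h⟩
    exact ⟨c, congrArg Subtype.val hc⟩
  choose c hc using hθ
  have hjinj : Function.Injective j := j.toRingHom.injective
  let ψ : E →ₐ[A] Ω :=
    { toFun := c
      map_one' := hjinj (by rw [hc, map_one, map_one])
      map_mul' := fun a b => hjinj (by rw [hc, map_mul, map_mul, hc, hc])
      map_zero' := hjinj (by rw [hc, map_zero, map_zero])
      map_add' := fun a b => hjinj (by rw [hc, map_add, map_add, hc, hc])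
      commutes' := fun a => hjinj (by rw [hc, AlgHom.commutes, AlgHom.commutes]) }
  refine ⟨ψ, ?_⟩
  have h : π = j.comp (ptHom ψ) := by
    apply Algebra.TensorProduct.ext
    · ext e
      simpa [θ, ψ] using (hc e).symm
    · ext a
      simp [j]
  ext x
  rw [RingHom.mem_ker, ← Ideal.Quotient.eq_zero_iff_mem]
  change _ ↔ ptHom ψ x = 0
  rw [← map_eq_zero_iff j hjinj, ← AlgHom.comp_apply, ← h]
  exact (map_eq_zero_iff (algebraMap ((E ⊗[A] Ω) ⧸ P) L) (IsFractionRing.injective _ _)).symm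

/-- The value of an element of a stage at a point. -/
noncomputable abbrev stageVal {N : Nbhd A Ω} (ψ : E →ₐ[A] Ω) (d : E ⊗[A] N.Ring) : Ω :=
  Algebra.TensorProduct.lift ψ N.pt (fun _ _ => .all _ _) d

lemma stageVal_map {N M : Nbhd A Ω} (f : N ⟶ M) (ψ : E →ₐ[A] Ω) (d : E ⊗[A] N.Ring) :
    stageVal ψ (Algebra.TensorProduct.map (AlgHom.id A E) f.map d) = stageVal ψ d := by
  induction d with
  | zero => simp
  | tmul e x =>
    simp only [stageVal, Algebra.TensorProduct.map_tmul, Algebra.TensorProduct.lift_tmul,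
      AlgHom.coe_id, id_eq]
    rw [← AlgHom.comp_apply M.pt f.map, f.comp_pt]
  | add a b ha hb => simp only [stageVal, map_add] at ha hb ⊢; rw [ha, hb]

include B in
/-- Two distinct points are separated by an element of a stage. -/
theorem exists_stage_ne {ψ ψ' : E →ₐ[A] Ω} (h : ψ ≠ ψ') :
    ∃ (N : Nbhd A Ω) (d : E ⊗[A] N.Ring), stageVal ψ d ≠ 0 ∧ stageVal ψ' d = 0 := by
  obtain ⟨e, he⟩ : ∃ e, ψ e ≠ ψ' e := by
    by_contra hc
    push Not at hc
    exact h (AlgHom.ext hc)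
  let J := hullKer A Ω
  let _ : Field (Hull A Ω ⧸ J) := Ideal.Quotient.field J
  have : IsSepClosed (Hull A Ω ⧸ J) := isSepClosed_hullKer
  let j : Hull A Ω ⧸ J →+* Ω := Ideal.Quotient.lift J (Hull.proj : Hull A Ω →ₐ[A] Ω).toRingHom
    fun a ha => ha
  let _ : Algebra (Hull A Ω ⧸ J) Ω := j.toAlgebra
  have : IsScalarTower A (Hull A Ω ⧸ J) Ω :=
    IsScalarTower.of_algebraMap_eq fun a => ((Hull.proj : Hull A Ω →ₐ[A] Ω).commutes a).symm
  let K := Hull A Ω ⧸ J
  have hint : IsIntegral K (ψ' e) := isIntegral_of_etale_algHom (B := B) (K := K) ψ' e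
  let M := algebraicClosure K Ω
  obtain ⟨p, hp⟩ := ExpChar.exists K
  obtain ⟨n, y, hy⟩ := IsPurelyInseparable.pow_mem K p (⟨ψ' e, hint⟩ : M)
  obtain ⟨y, rfl⟩ := Ideal.Quotient.mk_surjective y
  obtain ⟨N, c, rfl⟩ := Hull.exists_ι y
  have hc : N.pt c = ψ' e ^ p ^ n := by
    have h1 := congrArg Subtype.val hy
    rw [← Hull.proj_ι N c]
    exact h1
  refine ⟨N, (e ^ p ^ n) ⊗ₜ 1 - 1 ⊗ₜ c, ?_, ?_⟩
  · have : ExpChar Ω p := expChar_of_injective_algebraMap j.injective p
    simp only [stageVal, map_sub, Algebra.TensorProduct.lift_tmul, map_one, mul_one, one_mul,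
      map_pow, hc, sub_ne_zero]
    exact fun heq => he (iterateFrobenius_inj Ω p n heq)
  · simp [stageVal, hc]

include B in
/-- Every open neighbourhood of a point of `Spec (E ⊗ Ω)` contains one cut out by a stage. -/
theorem exists_stage_nhd (ψ₀ : E →ₐ[A] Ω) (O : Set (PrimeSpectrum (E ⊗[A] Ω))) (hO : IsOpen O)
    (h₀ : ⟨RingHom.ker (ptHom ψ₀).toRingHom, (ker_ptHom_isMaximal ψ₀).isPrime⟩ ∈ O) :
    ∃ (N : Nbhd A Ω) (d : E ⊗[A] N.Ring), stageVal ψ₀ d ≠ 0 ∧
      ∀ ψ : E →ₐ[A] Ω, stageVal ψ d ≠ 0 →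
        ⟨RingHom.ker (ptHom ψ).toRingHom, (ker_ptHom_isMaximal ψ).isPrime⟩ ∈ O := by
  classical
  let R := E ⊗[A] Ω
  let pt : (E →ₐ[A] Ω) → PrimeSpectrum R := fun ψ =>
    ⟨RingHom.ker (ptHom ψ).toRingHom, (ker_ptHom_isMaximal ψ).isPrime⟩
  have hdim : ∀ p : Ideal R, p.IsPrime → p.IsMaximal := fun p hp => by
    obtain ⟨ψ, rfl⟩ := exists_ptHom_ker (B := B) p
    exact ker_ptHom_isMaximal ψ
  let img {N : Nbhd A Ω} (d : E ⊗[A] N.Ring) : R :=
    Algebra.TensorProduct.map (AlgHom.id A E) N.pt d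
  have himg : ∀ {N : Nbhd A Ω} (d : E ⊗[A] N.Ring) ψ, ptHom ψ (img d) = stageVal ψ d := by
    intro N d ψ
    induction d with
    | zero => simp [img, stageVal]
    | tmul a b => simp [img, stageVal]
    | add a b ha hb =>
      simp only [img, stageVal, map_add] at ha hb ⊢
      rw [ha, hb]
  choose N d hd using fun c : (Oᶜ : Set (PrimeSpectrum R)) => (show ∃ (N : Nbhd A Ω)
      (d : E ⊗[A] N.Ring), stageVal ψ₀ d ≠ 0 ∧ img d ∈ c.1.asIdeal from by
    obtain ⟨ψ, hψ⟩ := exists_ptHom_ker (B := B) c.1.asIdeal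
    have hne : ψ₀ ≠ ψ := by
      rintro rfl
      exact c.2 (by convert h₀ using 1; exact PrimeSpectrum.ext hψ)
    obtain ⟨N, d, h1, h2⟩ := exists_stage_ne (B := B) hne
    refine ⟨N, d, h1, ?_⟩
    rw [hψ, RingHom.mem_ker]
    exact (himg d ψ).trans h2)
  have hopen : ∀ a : R, IsOpen (PrimeSpectrum.zeroLocus {a}) := fun a => by
    obtain ⟨n, b, hab⟩ := exists_pow_mul_one_sub_eq_zero hdim (a ^ 1)
    have : PrimeSpectrum.zeroLocus {a} = (PrimeSpectrum.basicOpen (1 - a * b) : Set _) := by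
      rw [pow_one] at hab
      ext q
      simp only [PrimeSpectrum.mem_zeroLocus, Set.singleton_subset_iff, SetLike.mem_coe,
        PrimeSpectrum.mem_basicOpen]
      refine ⟨fun ha h1 => q.isPrime.ne_top ((Ideal.eq_top_iff_one _).2 ?_), fun h1 => ?_⟩
      · have := q.asIdeal.add_mem h1 (q.asIdeal.mul_mem_right b ha)
        simpa using this
      · exact q.isPrime.mem_of_pow_mem n
          ((q.isPrime.mem_or_mem (by rw [hab]; exact q.asIdeal.zero_mem)).resolve_right h1)
    rw [this]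
    exact (PrimeSpectrum.basicOpen _).2
  obtain ⟨t, ht⟩ := (hO.isClosed_compl.isCompact).elim_finite_subcover
    (fun c : (Oᶜ : Set (PrimeSpectrum R)) => PrimeSpectrum.zeroLocus {img (d c)})
    (fun c => hopen _) fun q hq => Set.mem_iUnion.2 ⟨⟨q, hq⟩, by simpa using (hd ⟨q, hq⟩).2⟩
  obtain ⟨M, hM⟩ := CategoryTheory.IsFiltered.sup_objs_exists (t.image N)
  let φ : ∀ c : (t : Set _), E ⊗[A] (N c.1).Ring →ₐ[A] E ⊗[A] M.Ring := fun c =>
    Algebra.TensorProduct.map (AlgHom.id A E) (hM (Finset.mem_image.2 ⟨c.1, c.2, rfl⟩)).some.map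
  refine ⟨M, ∏ c : (t : Set _), φ c (d c.1), ?_, fun ψ hψ => ?_⟩
  · simp only [stageVal, map_prod]
    exact Finset.prod_ne_zero_iff.2 fun c _ => by
      have := (hd c.1).1
      rwa [← stageVal_map] at this
  · by_contra hn
    obtain ⟨c, hc, hcq⟩ := Set.mem_iUnion₂.1 (ht hn)
    apply hψ
    simp only [stageVal, map_prod]
    refine Finset.prod_eq_zero (i := ⟨c, hc⟩) (Finset.mem_univ _) ?_
    have h0 : ptHom ψ (img (d c)) = 0 := hcq (Set.mem_singleton _)
    rw [himg] at h0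
    exact (stageVal_map _ ψ (d c)).trans h0

end GrothLib.EtSite
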