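import Mathlib.RingTheory.Henselian
import Mathlib.RingTheory.Unramified.LocalStructure
import Mathlib.FieldTheory.IsSepClosed
import Mathlib.AlgebraicGeometry.Morphisms.Etale
import Mathlib.AlgebraicGeometry.AffineScheme

/-!
# Sections of etale algebras over strictly henselian local rings

If `R` is a henselian local ring with separably closed residue field, every geometric point of an
etale `R`-scheme lying over the closed point extends uniquely to a section.
-/

universe u

open CategoryTheory AlgebraicGeometry Polynomial IsLocalRing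

namespace GrothLib.EtSite

/-- Existence of a section of an etale algebra through a given geometric point over the
closed point of a strictly henselian local ring. -/
lemma exists_algHom_etale {R A Ω : Type u} [CommRing R] [HenselianLocalRing R]
    [IsSepClosed (ResidueField R)] [CommRing A] [Algebra R A] [Algebra.Etale R A] [Field Ω]
    (φ : A →+* Ω) (ρ : R →+* Ω) (hφ : φ.comp (algebraMap R A) = ρ)
    (hρ : RingHom.ker ρ = maximalIdeal R) :
    ∃ s : A →ₐ[R] R, ρ.comp s.toRingHom = φ := by
  let _ := ρ.toAlgebra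
  let φₐ : A →ₐ[R] Ω := ⟨φ, fun r => RingHom.congr_fun hφ r⟩
  let q : Ideal A := RingHom.ker φ
  have : q.IsPrime := RingHom.ker_isPrime φ
  obtain ⟨f, hf, hstd⟩ := Algebra.IsEtaleAt.exists_isStandardEtale (R := R) (S := A) (Q := q)
  obtain ⟨P⟩ := hstd.nonempty_standardEtalePresentation
  let ψ : Localization.Away f →ₐ[R] Ω :=
    IsLocalization.liftAlgHom (M := Submonoid.powers f) (f := φₐ) fun y => by
      obtain ⟨n, hn⟩ := y.2
      rw [← hn, map_pow]
      exact (isUnit_iff_ne_zero.2 fun h => hf h).pow n
  have hψ : ∀ a, ψ (algebraMap A (Localization.Away f) a) = φ a := fun a =>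
    IsLocalization.lift_eq _ a
  let ρ' : ResidueField R →+* Ω :=
    Ideal.Quotient.lift _ ρ fun a ha => RingHom.mem_ker.1 (hρ.ge ha)
  let _ := ρ'.toAlgebra
  have : IsScalarTower R (ResidueField R) Ω := IsScalarTower.of_algebraMap_eq fun r => rfl
  set ξ := ψ P.x with hξdef
  have hmap := P.hasMap.map ψ
  have hder : aeval ξ (derivative P.f) ≠ 0 := hmap.isUnit_derivative_f.ne_zero
  set fb := P.f.map (residue R) with hfb
  have h0 : aeval ξ fb = 0 := by
    rw [hfb, ← ResidueField.algebraMap_eq, aeval_map_algebraMap]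
    exact hmap.1
  have hfb0 : fb ≠ 0 := (P.monic_f.map _).ne_zero
  have hint : IsIntegral (ResidueField R) ξ := ⟨fb, P.monic_f.map _, h0⟩
  have hsep : (minpoly (ResidueField R) ξ).Separable := by
    rw [Polynomial.separable_iff_derivative_ne_zero (minpoly.irreducible hint)]
    intro hd
    obtain ⟨c, hc⟩ := minpoly.dvd (ResidueField R) ξ h0
    apply hder
    have : aeval ξ (derivative fb) = 0 := by
      rw [hc, derivative_mul, hd, zero_mul, zero_add, map_mul, minpoly.aeval, zero_mul]
    rwa [hfb, derivative_map, ← ResidueField.algebraMap_eq, aeval_map_algebraMap] at this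
  obtain ⟨a₀, ha₀⟩ : ξ ∈ (algebraMap (ResidueField R) Ω).range :=
    minpoly.natDegree_eq_one_iff.1 (Polynomial.natDegree_eq_of_degree_eq_some
      (IsSepClosed.degree_eq_one_of_irreducible _ (minpoly.irreducible hint) hsep))
  have hH : ∀ p : R[X], p.Monic → ∀ b : ResidueField R, aeval b p = 0 →
      aeval b (derivative p) ≠ 0 → ∃ a : R, p.IsRoot a ∧ residue R a = b :=
    ((HenselianLocalRing.TFAE R).out 0 1).1 ‹_›
  obtain ⟨r, hr, hra⟩ := hH P.f P.monic_f a₀
    (by
      apply (algebraMap (ResidueField R) Ω).injective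
      rw [map_zero, ← aeval_algebraMap_apply, ha₀]
      exact hmap.1)
    (by
      intro h
      apply hder
      rw [← ha₀, aeval_algebraMap_apply, h, map_zero])
  have hrξ : ρ r = ξ := by rw [← ha₀, ← hra]; rfl
  have hρr : ∀ p : R[X], ρ (aeval r p) = aeval ξ p := by
    intro p
    rw [← hrξ]
    exact (aeval_algebraMap_apply Ω r p).symm
  have hrm : P.P.HasMap r := by
    refine ⟨hr, ?_⟩
    by_contra hu
    have hm : aeval r P.g ∈ maximalIdeal R := hu
    rw [← hρ, RingHom.mem_ker, hρr] at hm
    exact hmap.2.ne_zero hm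
  let s₀ : Localization.Away f →ₐ[R] R := (P.P.lift r hrm).comp P.equivRing.toAlgHom
  have hs₀ : (Algebra.ofId R Ω).comp s₀ = ψ := by
    refine P.hom_ext ?_
    simp [s₀, StandardEtalePair.lift_X]
    exact hrξ
  refine ⟨s₀.comp (IsScalarTower.toAlgHom R A (Localization.Away f)), ?_⟩
  ext a
  exact (AlgHom.congr_fun hs₀ _).trans (hψ a)

end GrothLib.EtSite
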