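import Groth.Agent.Lib.EtSite.RadicialEtale
import Groth.Agent.Lib.EtSite.Points
import Groth.Agent.Lib.AlgSp.Quotient
import Groth.Agent.Lib.AlgSp.LocP
import Mathlib.AlgebraicGeometry.Sites.Fpqc

/-!
# Descending etale schemes along universal homeomorphisms: the quotient

Let `g : S' → S` be integral, universally injective and surjective, `X'` etale over `S'`, `U` etale
over `S` and `a : U ×_S S' → X'` a morphism over `S'`. The pairs of points of `U` with equal image
under `a` form an open subscheme of `U ×_S U`, an etale equivalence relation, whose quotient is the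
descent of the image of `a` as soon as it is a scheme.
-/

universe u

open CategoryTheory CategoryTheory.Limits AlgebraicGeometry Opposite

set_option backward.isDefEq.respectTransparency.types false

noncomputable section

namespace GrothLib.UHQuot

open GrothLib.AlgSp

variable {S S' : Scheme.{u}} (g : S' ⟶ S)

/-- Base change of a morphism of `S`-schemes. -/
abbrev bcMap {T T' : Over S} (x : T ⟶ T') : pullback T.hom g ⟶ pullback T'.hom g :=
  pullback.lift (pullback.fst T.hom g ≫ x.left) (pullback.snd T.hom g)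
    (by rw [Category.assoc, Over.w, pullback.condition])

theorem bcMap_fst {T T' : Over S} (x : T ⟶ T') :
    bcMap g x ≫ pullback.fst T'.hom g = pullback.fst T.hom g ≫ x.left := pullback.lift_fst _ _ _

theorem bcMap_snd {T T' : Over S} (x : T ⟶ T') :
    bcMap g x ≫ pullback.snd T'.hom g = pullback.snd T.hom g := pullback.lift_snd _ _ _

theorem bcMap_comp {T T' T'' : Over S} (x : T ⟶ T') (y : T' ⟶ T'') :
    bcMap g (x ≫ y) = bcMap g x ≫ bcMap g y := by
  apply pullback.hom_ext
  · rw [Category.assoc, bcMap_fst, bcMap_fst, ← Category.assoc (bcMap g x), bcMap_fst, Over.comp_left,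
      Category.assoc]
  · rw [Category.assoc, bcMap_snd, bcMap_snd, bcMap_snd]

variable [IsIntegralHom g] [UniversallyInjective g] [Surjective g]

/-- A chart: an etale `S`-scheme whose base change maps to `X'`. -/
structure Datum {X' : Scheme.{u}} (f : X' ⟶ S') where
  /-- the etale scheme -/
  U : Over S
  etale : Etale U.hom
  /-- the chart -/
  a : pullback U.hom g ⟶ X'
  w : a ≫ f = pullback.snd U.hom g

variable {g} {X' : Scheme.{u}} {f : X' ⟶ S'} [Etale f] (D : Datum g f)

instance : Etale D.U.hom := D.etale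

instance etale_prod : Etale (D.U ⨯ D.U).hom := by
  have h : (D.U ⨯ D.U).hom = (Over.prodLeftIsoPullback D.U D.U).hom ≫ pullback.fst D.U.hom D.U.hom ≫ D.U.hom := by
    rw [← Category.assoc, Over.prodLeftIsoPullback_hom_fst, Over.w]
  rw [h]
  infer_instance

instance etale_fst : Etale (prod.fst : D.U ⨯ D.U ⟶ D.U).left :=
  haveI : Etale ((prod.fst : D.U ⨯ D.U ⟶ D.U).left ≫ D.U.hom) := by rw [Over.w]; infer_instance
  Etale.of_comp _ D.U.hom

instance etale_snd : Etale (prod.snd : D.U ⨯ D.U ⟶ D.U).left :=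
  haveI : Etale ((prod.snd : D.U ⨯ D.U ⟶ D.U).left ≫ D.U.hom) := by rw [Over.w]; infer_instance
  Etale.of_comp _ D.U.hom

theorem etale_a : Etale D.a := by
  haveI : Etale (pullback.snd D.U.hom g) := MorphismProperty.pullback_snd _ _ inferInstance
  haveI : Etale (D.a ≫ f) := by rw [D.w]; infer_instance
  exact Etale.of_comp _ f

/-- the projection to `U ×_S U` -/
abbrev π : pullback (D.U ⨯ D.U).hom g ⟶ (D.U ⨯ D.U).left := pullback.fst _ _

theorem exists_V : ∃ V : (pullback (D.U ⨯ D.U).hom g).Opens,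
    V.ι ≫ bcMap g prod.fst ≫ D.a = V.ι ≫ bcMap g prod.snd ≫ D.a ∧
      (IsSeparated f → IsClosed (V : Set ↥(pullback (D.U ⨯ D.U).hom g))) ∧
      ∀ (Ω : Type u) [Field Ω] (t : Spec (CommRingCat.of Ω) ⟶ pullback (D.U ⨯ D.U).hom g),
        t ≫ bcMap g prod.fst ≫ D.a = t ≫ bcMap g prod.snd ≫ D.a → t.base default ∈ V :=
  GrothLib.EtSite.exists_eqLocus f _ _ (by
    rw [Category.assoc, Category.assoc, D.w, bcMap_snd, bcMap_snd])

/-- the locus of equality -/
def V : (pullback (D.U ⨯ D.U).hom g).Opens := (exists_V D).choose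

theorem V_eq : (V D).ι ≫ bcMap g prod.fst ≫ D.a = (V D).ι ≫ bcMap g prod.snd ≫ D.a :=
  (exists_V D).choose_spec.1

theorem mem_V (Ω : Type u) [Field Ω] (t : Spec (CommRingCat.of Ω) ⟶ pullback (D.U ⨯ D.U).hom g)
    (h : t ≫ bcMap g prod.fst ≫ D.a = t ≫ bcMap g prod.snd ≫ D.a) : t.base default ∈ V D :=
  (exists_V D).choose_spec.2.2 Ω t h

theorem π_bijective : Function.Bijective (π D) := by
  haveI : UniversallyInjective (π D) := MorphismProperty.pullback_fst _ _ inferInstance
  haveI : Surjective (π D) := MorphismProperty.pullback_fst _ _ inferInstance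
  exact ⟨(π D).injective, (π D).surjective⟩

theorem π_isClosedMap : IsClosedMap (π D) := by
  haveI : IsIntegralHom (π D) := MorphismProperty.pullback_fst _ _ inferInstance
  exact (π D).isClosedMap

/-- the open subset of `U ×_S U` -/
def O : (D.U ⨯ D.U).left.Opens :=
  ⟨π D '' (V D : Set ↥(pullback (D.U ⨯ D.U).hom g)), by
    rw [← isClosed_compl_iff, ← Set.image_compl_eq (π_bijective D)]
    exact π_isClosedMap D _ (V D).2.isClosed_compl⟩

theorem π_mem_O_iff (y : ↥(pullback (D.U ⨯ D.U).hom g)) : π D y ∈ O D ↔ y ∈ V D :=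
  (π_bijective D).1.mem_set_image

theorem isClosed_O (hs : IsSeparated f) : IsClosed (O D : Set ↥(D.U ⨯ D.U).left) :=
  π_isClosedMap D _ ((exists_V D).choose_spec.2.1 hs)

/-- the relation -/
abbrev R : Over S := Over.mk ((O D).ι ≫ (D.U ⨯ D.U).hom)

/-- its inclusion -/
abbrev incl : R D ⟶ D.U ⨯ D.U := Over.homMk (O D).ι

/-- first projection -/
abbrev t : R D ⟶ D.U := incl D ≫ prod.fst

/-- second projection -/
abbrev s : R D ⟶ D.U := incl D ≫ prod.snd

theorem mono_incl : Mono (incl D) :=
  ⟨fun a b h => Over.OverMorphism.ext ((cancel_mono (O D).ι).1 (congrArg (fun k => k.left) h))⟩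

theorem bc_t_eq : bcMap g (t D) ≫ D.a = bcMap g (s D) ≫ D.a := by
  rw [bcMap_comp, bcMap_comp, Category.assoc, Category.assoc]
  have hr : Set.range (bcMap g (incl D)) ⊆ Set.range (V D).ι := by
    rw [Scheme.Opens.range_ι]
    rintro _ ⟨z, rfl⟩
    refine (π_mem_O_iff D _).1 ?_
    have h : π D (bcMap g (incl D) z) = (O D).ι (pullback.fst (R D).hom g z) :=
      congrArg (fun m : pullback (R D).hom g ⟶ (D.U ⨯ D.U).left => m z) (bcMap_fst g (incl D))
    exact Set.mem_of_eq_of_mem h (pullback.fst (R D).hom g z).2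
  rw [← IsOpenImmersion.lift_fac (V D).ι (bcMap g (incl D)) hr, Category.assoc, Category.assoc, V_eq]

theorem exists_rel {T : Over S} (x y : T ⟶ D.U)
    (h : ∀ p : T.left, ∃ v ∈ V D, π D v = (prod.lift x y).left p) :
    ∃ r : T ⟶ R D, r ≫ t D = x ∧ r ≫ s D = y := by
  have hr : Set.range (prod.lift x y).left ⊆ Set.range (O D).ι := by
    rw [Scheme.Opens.range_ι]
    rintro _ ⟨p, rfl⟩
    obtain ⟨v, hv, e⟩ := h p
    exact ⟨v, hv, e⟩
  let l := IsOpenImmersion.lift (O D).ι (prod.lift x y).left hr
  have hl : l ≫ (O D).ι = (prod.lift x y).left := IsOpenImmersion.lift_fac _ _ _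
  let r : T ⟶ R D := Over.homMk l (by
    change l ≫ (O D).ι ≫ (D.U ⨯ D.U).hom = T.hom
    rw [← Category.assoc, hl, Over.w])
  have hri : r ≫ incl D = prod.lift x y := Over.OverMorphism.ext hl
  exact ⟨r, by rw [← Category.assoc, hri, prod.lift_fst], by rw [← Category.assoc, hri, prod.lift_snd]⟩

theorem rel_iff {T : Over S} (x y : T ⟶ D.U) :
    (∃ r : T ⟶ R D, r ≫ t D = x ∧ r ≫ s D = y) ↔ bcMap g x ≫ D.a = bcMap g y ≫ D.a := by
  constructor
  · rintro ⟨r, rfl, rfl⟩
    rw [bcMap_comp g r (t D), bcMap_comp g r (s D), Category.assoc, Category.assoc, bc_t_eq]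
  · intro h
    refine exists_rel D x y fun p => ?_
    haveI : Surjective (pullback.fst T.hom g) := MorphismProperty.pullback_fst _ _ inferInstance
    obtain ⟨p', rfl⟩ := (pullback.fst T.hom g).surjective p
    refine ⟨bcMap g (prod.lift x y) p', ?_,
      congrArg (fun m : pullback T.hom g ⟶ (D.U ⨯ D.U).left => m p') (bcMap_fst g (prod.lift x y))⟩
    have := mem_V D _ (GrothLib.EtSite.gpt p' ≫ bcMap g (prod.lift x y)) (by
      simp only [Category.assoc]
      rw [← Category.assoc (bcMap g (prod.lift x y)), ← bcMap_comp, prod.lift_fst,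
        ← Category.assoc (bcMap g (prod.lift x y)), ← bcMap_comp, prod.lift_snd, h])
    exact Set.mem_of_eq_of_mem (congrArg (bcMap g (prod.lift x y)) (GrothLib.EtSite.gpt_default p')).symm this

theorem isEqvRel : _root_.AlgSp.IsEqvRel (s D) (t D) where
  injective T r r' h1 h2 := by
    haveI := mono_incl D
    refine (cancel_mono (incl D)).1 (prod.hom_ext ?_ ?_) <;> simpa only [Category.assoc] using ‹_›
  equivalence T :=
    ⟨fun x => (rel_iff D x x).2 rfl, fun h => (rel_iff D _ _).2 ((rel_iff D _ _).1 h).symm,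
      fun h h' => (rel_iff D _ _).2 (((rel_iff D _ _).1 h).trans ((rel_iff D _ _).1 h'))⟩

instance etale_t : Etale (t D).left :=
  inferInstanceAs (Etale ((O D).ι ≫ (prod.fst : D.U ⨯ D.U ⟶ D.U).left))

instance etale_s : Etale (s D).left :=
  inferInstanceAs (Etale ((O D).ι ≫ (prod.snd : D.U ⨯ D.U ⟶ D.U).left))

/-- the quotient sheaf -/
abbrev F : _root_.AlgSp.Sp S := QuotSh.quot Scheme.fppfPrecoverage (s D) (t D)

/-- the quotient map -/
abbrev p : (_root_.AlgSp.yon S).obj D.U ⟶ F D := yonQuotπ (s D) (t D)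

theorem sq : IsPullback ((_root_.AlgSp.yon S).map (t D)) ((_root_.AlgSp.yon S).map (s D)) (p D) (p D) :=
  isPullback_yonQuotπ (isEqvRel D)

theorem space : _root_.AlgSp.IsAlgSpace (F D) ∧ _root_.AlgSp.RepWith @Etale (p D) ∧
    _root_.AlgSp.RepWith @Surjective (p D) :=
  haveI := isLocallySurjective_yonQuotπ (s D) (t D)
  isAlgSpace_of_kernelPair (sq D) inferInstance inferInstance

/-- If the quotient is a scheme, it descends the image of the chart. -/
theorem exists_descent (hsurj : Surjective D.a) (M : Over S) (e : (_root_.AlgSp.yon S).obj M ≅ F D) :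
    ∃ (_ : Etale M.hom) (m : pullback M.hom g ⟶ X'), IsIso m ∧ m ≫ f = pullback.snd M.hom g := by
  obtain ⟨p', hp'⟩ := (_root_.AlgSp.yon S).map_surjective (p D ≫ e.inv)
  have hrep : ∀ {P : MorphismProperty Scheme.{u}} [P.IsStableUnderBaseChange] [P.ContainsIdentities]
      [P.IsStableUnderComposition], _root_.AlgSp.RepWith P (p D) → P p'.left := fun {P} _ _ _ hP =>
    (_root_.AlgSp.repWith_yon_map_iff P p').1 (hp' ▸ repWith_comp hP (repWith_iso e.inv))
  haveI hpe : Etale p'.left := hrep (space D).2.1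
  haveI hps : Surjective p'.left := hrep (space D).2.2
  haveI hM : Etale M.hom := by
    refine etaleSourceDescends_etale p'.left M.hom hpe hps ?_
    rw [Over.w]
    infer_instance
  have sqM : IsPullback (t D) (s D) p' p' := by
    refine IsPullback.of_map (_root_.AlgSp.yon S) ((_root_.AlgSp.yon S).map_injective ?_) ?_
    · rw [Functor.map_comp _ (t D) p', Functor.map_comp _ (s D) p', hp', ← Category.assoc, (sq D).w,
        Category.assoc]
    · rw [hp']
      exact (sq D).of_iso (Iso.refl _) (Iso.refl _) (Iso.refl _) e.symm (by simp) (by simp) (by simp) (by simp)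
  refine ⟨hM, ?_⟩
  let c := bcMap g p'
  have hsqc : IsPullback (pullback.fst D.U.hom g) c p'.left (pullback.fst M.hom g) := by
    refine IsPullback.of_bot ?_ (bcMap_fst g p').symm (IsPullback.of_hasPullback M.hom g)
    rw [bcMap_snd, Over.w]
    exact IsPullback.of_hasPullback D.U.hom g
  haveI : Etale c := MorphismProperty.of_isPullback hsqc hpe
  haveI : Surjective c := MorphismProperty.of_isPullback hsqc hps
  haveI : EffectiveEpi c := inferInstance
  have hdesc : ∀ {Z : Scheme.{u}} (x y : Z ⟶ pullback D.U.hom g), x ≫ c = y ≫ c → x ≫ D.a = y ≫ D.a := by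
    intro Z x y hxy
    have h1 : (x ≫ pullback.fst D.U.hom g) ≫ p'.left = (y ≫ pullback.fst D.U.hom g) ≫ p'.left := by
      rw [Category.assoc, Category.assoc, ← bcMap_fst g p', ← Category.assoc, hxy, Category.assoc]
    have h2 : x ≫ pullback.snd D.U.hom g = y ≫ pullback.snd D.U.hom g := by
      rw [← bcMap_snd g p', ← Category.assoc, hxy, Category.assoc]
    let T : Over S := Over.mk ((x ≫ pullback.fst D.U.hom g) ≫ D.U.hom)
    let x0 : T ⟶ D.U := Over.homMk (x ≫ pullback.fst D.U.hom g)
    let y0 : T ⟶ D.U := Over.homMk (y ≫ pullback.fst D.U.hom g) (by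
      change (y ≫ pullback.fst D.U.hom g) ≫ D.U.hom = (x ≫ pullback.fst D.U.hom g) ≫ D.U.hom
      simp only [Category.assoc, pullback.condition]
      rw [← Category.assoc, ← h2, Category.assoc])
    have h0 : x0 ≫ p' = y0 ≫ p' := Over.OverMorphism.ext h1
    have hrel := (rel_iff D x0 y0).1 ⟨sqM.lift x0 y0 h0, sqM.lift_fst _ _ _, sqM.lift_snd _ _ _⟩
    let σ : Z ⟶ pullback T.hom g := pullback.lift (𝟙 Z) (x ≫ pullback.snd D.U.hom g) (by
      change 𝟙 Z ≫ (x ≫ pullback.fst D.U.hom g) ≫ D.U.hom = _
      rw [Category.id_comp, Category.assoc, Category.assoc, pullback.condition])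
    have hσx : σ ≫ bcMap g x0 = x := by
      apply pullback.hom_ext
      · rw [Category.assoc, bcMap_fst, ← Category.assoc, pullback.lift_fst, Category.id_comp]; rfl
      · rw [Category.assoc, bcMap_snd, pullback.lift_snd]
    have hσy : σ ≫ bcMap g y0 = y := by
      apply pullback.hom_ext
      · rw [Category.assoc, bcMap_fst, ← Category.assoc, pullback.lift_fst, Category.id_comp]; rfl
      · rw [Category.assoc, bcMap_snd, pullback.lift_snd, h2]
    rw [← hσx, ← hσy, Category.assoc, Category.assoc, hrel]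
  let m := EffectiveEpi.desc c D.a hdesc
  have hm : c ≫ m = D.a := EffectiveEpi.fac c D.a hdesc
  have hmf : m ≫ f = pullback.snd M.hom g := by
    rw [← cancel_epi c, ← Category.assoc, hm, D.w, bcMap_snd]
  refine ⟨m, ?_, hmf⟩
  haveI : Etale m := by
    haveI : Etale (pullback.snd M.hom g) := MorphismProperty.pullback_snd _ _ inferInstance
    haveI : Etale (m ≫ f) := by rw [hmf]; infer_instance
    exact Etale.of_comp _ f
  haveI : Surjective m := by
    haveI : Surjective (c ≫ m) := by rw [hm]; exact hsurj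
    exact Surjective.of_comp c m
  haveI : UniversallyInjective m := by
    refine (UniversallyInjective.iff_diagonal m).2 ⟨fun z => ?_⟩
    let ζ := GrothLib.EtSite.gpt z
    let u₁ := ζ ≫ pullback.fst m m
    let u₂ := ζ ≫ pullback.snd m m
    have hu : u₁ ≫ m = u₂ ≫ m := by
      simp only [u₁, u₂, Category.assoc, pullback.condition]
    obtain ⟨y₁, hy₁⟩ := c.surjective (u₁.base default)
    obtain ⟨y₂, hy₂⟩ := c.surjective (u₂.base default)
    obtain ⟨l₁, -⟩ := GrothLib.EtSite.exists_fib u₁ (U := Scheme.Etale.mk c) y₁ hy₁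
    obtain ⟨l₂, -⟩ := GrothLib.EtSite.exists_fib u₂ (U := Scheme.Etale.mk c) y₂ hy₂
    let x : Spec (CommRingCat.of _) ⟶ pullback D.U.hom g := l₁.left
    let y : Spec (CommRingCat.of _) ⟶ pullback D.U.hom g := l₂.left
    have hx : x ≫ c = u₁ := Over.w l₁
    have hy : y ≫ c = u₂ := Over.w l₂
    have hxy : x ≫ D.a = y ≫ D.a := by
      rw [← hm, ← Category.assoc, hx, hu, ← Category.assoc, hy]
    have hsnd : x ≫ pullback.snd D.U.hom g = y ≫ pullback.snd D.U.hom g := by
      rw [← D.w, ← Category.assoc, hxy, Category.assoc]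
    let T : Over S := Over.mk ((x ≫ pullback.fst D.U.hom g) ≫ D.U.hom)
    let x0 : T ⟶ D.U := Over.homMk (x ≫ pullback.fst D.U.hom g)
    let y0 : T ⟶ D.U := Over.homMk (y ≫ pullback.fst D.U.hom g) (by
      change (y ≫ pullback.fst D.U.hom g) ≫ D.U.hom = (x ≫ pullback.fst D.U.hom g) ≫ D.U.hom
      simp only [Category.assoc, pullback.condition]
      rw [← Category.assoc, ← hsnd, Category.assoc])
    let σ : T.left ⟶ pullback T.hom g := pullback.lift (𝟙 _) (x ≫ pullback.snd D.U.hom g) (by
      change 𝟙 _ ≫ (x ≫ pullback.fst D.U.hom g) ≫ D.U.hom = _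
      rw [Category.id_comp, Category.assoc, Category.assoc, pullback.condition])
    have hσ : ∀ (z0 : T ⟶ D.U) (z : T.left ⟶ pullback D.U.hom g), z0.left = z ≫ pullback.fst D.U.hom g →
        z ≫ pullback.snd D.U.hom g = x ≫ pullback.snd D.U.hom g → σ ≫ bcMap g z0 = z := fun z0 z h h' => by
      apply pullback.hom_ext
      · rw [Category.assoc, bcMap_fst, ← Category.assoc, pullback.lift_fst, Category.id_comp, h]
      · rw [Category.assoc, bcMap_snd, pullback.lift_snd, h']
    have hrel : ∃ r : T ⟶ R D, r ≫ t D = x0 ∧ r ≫ s D = y0 := by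
      refine exists_rel D x0 y0 fun (pt : ↥(Spec (CommRingCat.of _))) => ?_
      let τ : Spec (CommRingCat.of _) ⟶ pullback (D.U ⨯ D.U).hom g := σ ≫ bcMap g (prod.lift x0 y0)
      refine ⟨τ.base pt, Set.mem_of_eq_of_mem (congrArg τ.base (Subsingleton.elim pt default))
        (mem_V D _ τ ?_), ?_⟩
      · simp only [τ, Category.assoc]
        rw [← Category.assoc (bcMap g (prod.lift x0 y0)), ← bcMap_comp, prod.lift_fst,
          ← Category.assoc (bcMap g (prod.lift x0 y0)), ← bcMap_comp, prod.lift_snd,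
          ← Category.assoc σ, hσ x0 x rfl rfl, ← Category.assoc σ, hσ y0 y rfl hsnd.symm, hxy]
      · have he : σ ≫ bcMap g (prod.lift x0 y0) ≫ π D = (prod.lift x0 y0).left := by
          rw [bcMap_fst, ← Category.assoc, pullback.lift_fst, Category.id_comp]
        exact congrArg (fun m : T.left ⟶ (D.U ⨯ D.U).left => m.base pt) he
    obtain ⟨r, hr1, hr2⟩ := hrel
    have h0 : x0 ≫ p' = y0 ≫ p' := by
      rw [← hr1, ← hr2, Category.assoc r (t D), Category.assoc r (s D), sqM.w]
    have hxyc : u₁ = u₂ := by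
      rw [← hx, ← hy]
      apply pullback.hom_ext
      · rw [Category.assoc, Category.assoc, bcMap_fst, ← Category.assoc, ← Category.assoc]
        exact congrArg (fun k => k.left) h0
      · rw [Category.assoc, Category.assoc, bcMap_snd, hsnd]
    refine ⟨u₁.base default, ?_⟩
    have hd : u₁ ≫ pullback.diagonal m = ζ := by
      apply pullback.hom_ext
      · rw [Category.assoc, pullback.diagonal_fst, Category.comp_id]
      · rw [Category.assoc, pullback.diagonal_snd, Category.comp_id, hxyc]
    exact (congrArg (fun k : Spec (CommRingCat.of _) ⟶ pullback m m => k.base default) hd).trans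
      (GrothLib.EtSite.gpt_default z)
  exact GrothLib.EtSite.isIso_of_etale_universallyInjective m

end GrothLib.UHQuot
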